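import Groth.Agent.Lib.SchColim29.RpushCoprod
import Groth.Agent.Lib.DerivedOX.AffinePush
import Groth.Agent.Lib.DerivedOX.PullComp
import Groth.Agent.Lib.DerivedOX.RpushQCoh
import Groth.Agent.Lib.Perfect.PCCoh
import Groth.Agent.Lib.ZarCoh.ProperOver
import Groth.Agent.S0036
import Groth.Agent.S0792

/-!
# Higher direct images of coherent modules with proper support
-/

set_option autoImplicit false
set_option linter.unusedSectionVars false
set_option linter.style.haveILetI false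

universe u

open CategoryTheory Limits AlgebraicGeometry Pretriangulated DerivedCategory ZeroObject

attribute [local instance] HasDerivedCategory.standard

namespace Groth.Agent.Lib.SchColim29.CohPush

open Groth.Agent.Lib Groth.Agent.Lib.DerivedOX
open Groth.Agent.Lib.SpecSeq.RightHom Groth.Agent.Lib.SpecSeq.AcyclicComplex
open Groth.Agent.Lib.WayOut.Bounded Groth.Agent.Lib.WayOut.Scheme

variable {X S : Scheme.{u}}

/-- Higher direct images of a direct image along an affine morphism. -/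
lemma nonempty_rightDerived_push_iso {Z : Scheme.{u}} (i : Z ⟶ X) [IsAffineHom i] (f : X ⟶ S)
    (G : Z.Modules) [G.IsQuasicoherent] (p : ℕ) :
    Nonempty (((Scheme.Modules.pushforward f).rightDerived p).obj ((Scheme.Modules.pushforward i).obj G) ≅
      ((Scheme.Modules.pushforward (i ≫ f)).rightDerived p).obj G) := by
  haveI := Exists.hasRpush i
  haveI := Exists.hasRpush f
  haveI := Exists.hasRpush (i ≫ f)
  let F := (CochainComplex.singleFunctor Z.Modules 0).obj G
  let eP : (RpushCoprod.pushC i).obj F ≅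
      (CochainComplex.singleFunctor X.Modules 0).obj ((Scheme.Modules.pushforward i).obj G) :=
    (HomologicalComplex.singleMapHomologicalComplex (Scheme.Modules.pushforward i)
      (ComplexShape.up ℤ) 0).app G
  have hF : ∀ n, qc Z (F.X n) := fun n => by
    by_cases hn : n = 0
    · subst hn
      exact (qc Z).prop_of_iso
        (HomologicalComplex.singleObjXSelf (ComplexShape.up ℤ) 0 G).symm ‹G.IsQuasicoherent›
    · exact RpushQCoh.qc_of_isZero (HomologicalComplex.isZero_single_obj_X (ComplexShape.up ℤ) 0 G n hn)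
  have hu := AffinePush.isIso_unit i F hF
  haveI : IsIso ((RpushCoprod.cmpPush i).app F) := by
    simp only [RpushCoprod.cmpPush, NatTrans.comp_app]
    haveI : IsIso ((Functor.whiskerLeft (HomotopyCategory.quotient Z.Modules (ComplexShape.up ℤ))
        ((DCoh.pushKh i).totalRightDerivedUnit DerivedCategory.Qh
          (HomotopyCategory.quasiIso Z.Modules (ComplexShape.up ℤ)))).app F) := hu
    infer_instance
  let K' := (singleFunctor X.Modules 0).obj ((Scheme.Modules.pushforward i).obj G)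
  let K := (singleFunctor Z.Modules 0).obj G
  let eK : K' ≅ (DCoh.Rpush i).obj K :=
    (DerivedCategory.singleFunctorIsoCompQ X.Modules 0).app _ ≪≫ DerivedCategory.Q.mapIso eP.symm ≪≫
      asIso ((RpushCoprod.cmpPush i).app F) ≪≫
      (DCoh.Rpush i).mapIso ((DerivedCategory.singleFunctorIsoCompQ Z.Modules 0).app G).symm
  obtain ⟨a⟩ := RpushQCoh.nonempty_RS_iso f ((Scheme.Modules.pushforward i).obj G) p
  obtain ⟨b⟩ := RpushQCoh.nonempty_HD_Rpush f K' p
  obtain ⟨c⟩ := RpushQCoh.nonempty_HD_Rpush (i ≫ f) K p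
  obtain ⟨d⟩ := RpushQCoh.nonempty_RS_iso (i ≫ f) G p
  exact ⟨a.symm ≪≫ b.symm ≪≫ (homologyFunctor S.Modules p).mapIso
    ((DCoh.Rpush f).mapIso eK ≪≫ (PullComp.rpushCompIso i f).app K) ≪≫ c ≪≫ d⟩

variable (f : X ⟶ S)

lemma exists_closed [LocallyOfFiniteType f] (F : X.Modules) (hF : Coh.IsCoh F)
    (hs : ClSub.IsProperOver f (CohB1.support F)) :
    ∃ (Z : Scheme.{u}) (g : Z ⟶ S) (G : Z.Modules), IsProper g ∧ Coh.IsCoh G ∧
      ∀ p : ℕ, Nonempty (((Scheme.Modules.pushforward f).rightDerived p).obj F ≅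
        ((Scheme.Modules.pushforward g).rightDerived p).obj G) := by
  obtain ⟨Z, i, hi, hp, G, hGq, hGft, ⟨e⟩⟩ := (Groth.Agent.S0792.result f F hF.1 hF.2).1 hs
  haveI := hi
  haveI : G.IsQuasicoherent := hGq
  refine ⟨Z, i ≫ f, G, hp, ⟨hGq, hGft⟩, fun p => ?_⟩
  obtain ⟨θ⟩ := nonempty_rightDerived_push_iso i f G p
  exact ⟨((Scheme.Modules.pushforward f).rightDerived p).mapIso e.symm ≪≫ θ⟩

theorem isCoh_rightDerived [LocallyOfFiniteType f] [IsLocallyNoetherian S] (F : X.Modules)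
    (hF : Coh.IsCoh F) (hs : ClSub.IsProperOver f (CohB1.support F)) (p : ℕ) :
    Coh.IsCoh (((Scheme.Modules.pushforward f).rightDerived p).obj F) := by
  obtain ⟨Z, g, G, hg, hG, hiso⟩ := exists_closed f F hF hs
  haveI := hg
  obtain ⟨θ⟩ := hiso p
  exact CohBasics.Closure.isCoh_of_iso θ.symm (Groth.Agent.S0036.result g G hG p)

theorem exists_isZero_rightDerived [LocallyOfFiniteType f] [CompactSpace S] (F : X.Modules)
    (hF : Coh.IsCoh F) (hs : ClSub.IsProperOver f (CohB1.support F)) :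
    ∃ N : ℕ, ∀ p, N ≤ p → IsZero (((Scheme.Modules.pushforward f).rightDerived p).obj F) := by
  obtain ⟨Z, g, G, hg, hG, hiso⟩ := exists_closed f F hF hs
  haveI := hg
  haveI := Exists.hasRpush g
  obtain ⟨N, hN⟩ := RpushQCoh.exists_bound g
  let K := (singleFunctor Z.Modules 0).obj G
  have hK : DCoh.IsQCohD K := fun k => by
    by_cases hk : k = 0
    · subst hk
      exact (qc Z).prop_of_iso ((singleFunctorCompHomologyFunctorIso _ 0).app G).symm hG.1
    · rcases lt_or_gt_of_ne hk with h | h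
      · exact RpushQCoh.qc_of_isZero (isZero_of_isGE K 0 k h)
      · exact RpushQCoh.qc_of_isZero (isZero_of_isLE K 0 k h)
  refine ⟨N.toNat, fun p hp => ?_⟩
  obtain ⟨θ⟩ := hiso p
  obtain ⟨c⟩ := RpushQCoh.nonempty_HD_Rpush g K p
  obtain ⟨d⟩ := RpushQCoh.nonempty_RS_iso g G p
  exact (hN K hK inferInstance p (by lia)).of_iso (θ ≪≫ d.symm ≪≫ c.symm)

lemma isCoh_of_isZero [IsLocallyNoetherian X] {M : X.Modules} (h : IsZero M) : Coh.IsCoh M := by
  haveI : M.IsQuasicoherent := RpushQCoh.qc_of_isZero h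
  refine CohBasics.Closure.isCoh_of_finite_sections fun U hU => ?_
  haveI : Subsingleton Γ(M, U) :=
    AddCommGrpCat.subsingleton_of_isZero ((sect U).map_isZero h)
  infer_instance

/-- A five-term middle lemma for coherent modules. -/
lemma isCoh_mid [IsLocallyNoetherian X] {A B C D E : X.Modules} (a : A ⟶ B) (f : B ⟶ C) (g : C ⟶ D)
    (b : D ⟶ E) (h₁ : a ≫ f = 0) (h₂ : f ≫ g = 0) (h₃ : g ≫ b = 0)
    (e₁ : (ShortComplex.mk a f h₁).Exact) (e₂ : (ShortComplex.mk f g h₂).Exact)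
    (e₃ : (ShortComplex.mk g b h₃).Exact)
    (hA : A.IsQuasicoherent) (hB : Coh.IsCoh B) (hD : Coh.IsCoh D) (hE : E.IsQuasicoherent) :
    Coh.IsCoh C := by
  haveI : C.IsQuasicoherent := TildeEquiv.isQCoh_mid a f g b h₁ h₂ h₃ e₁ e₂ e₃ hA hB.1 hD.1 hE
  haveI := hD.1
  haveI : (kernel g).IsQuasicoherent := QCoh.Closure.isQCoh_kernel g
  haveI : Epi (kernel.lift g f h₂) := (ShortComplex.exact_iff_epi_kernel_lift _).1 e₂
  have hK : Coh.IsCoh (kernel g) := CohBasics.Closure.isCoh_of_epi (kernel.lift g f h₂) hB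
  have hI : Coh.IsCoh (Abelian.image g) :=
    CohBasics.Closure.isCoh_image g (inferInstanceAs C.IsQuasicoherent) hD
  have hz : kernel.ι g ≫ Abelian.factorThruImage g = 0 := by
    rw [← cancel_mono (Abelian.image.ι g)]
    simp
  refine Perfect.PCCoh.isCoh_of_extension (S := ShortComplex.mk _ _ hz) ?_ hK hI
  refine ShortComplex.ShortExact.mk' (ShortComplex.exact_of_f_is_kernel _ ?_) inferInstance inferInstance
  exact KernelFork.IsLimit.ofι' _ hz fun k hk => ⟨kernel.lift g k (by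
    have := congrArg (· ≫ Abelian.image.ι g) hk
    simpa using this), kernel.lift_ι _ _ _⟩

/-- Coherent modules with support proper over the base. -/
def PS : ObjectProperty X.Modules := fun M => Coh.IsCoh M ∧ ClSub.IsProperOver f (CohB1.support M)

instance : (PS f).IsClosedUnderIsomorphisms where
  of_iso e h := ⟨CohBasics.Closure.isCoh_of_iso e h.1, by
    rw [← Modules.Support.support_congr e]
    exact h.2⟩

instance [IsLocallyNoetherian X] [LocallyOfFiniteType f] : (PS f).ContainsZero where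
  exists_zero := by
    refine ⟨_, isZero_zero X.Modules, isCoh_of_isZero (isZero_zero _), ?_⟩
    have h : CohB1.support (0 : X.Modules) = ∅ := Set.eq_empty_iff_forall_notMem.2 fun x hx =>
      hx (Modules.Stalk.isZero_iff_stalk_subsingleton.1 (isZero_zero _) x)
    rw [h]
    exact ZarCoh.ProperOver.isProperOver_of_subset_iUnion f (ι := PEmpty.{1}) (fun k => k.elim)
      (fun k => k.elim) isClosed_empty (Set.empty_subset _)

variable [LocallyOfFiniteType f] [IsLocallyNoetherian S]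

lemma single_case (Y : DCoh.D X) (hY : HasP (PS f) Y) (q : ℤ) [Y.IsGE q] [Y.IsLE q] :
    (∀ n, Coh.IsCoh ((RH (RpushQCoh.P f) n).obj Y)) ∧
      (CompactSpace S → ∃ N : ℤ, ∀ n, N ≤ n → IsZero ((RH (RpushQCoh.P f) n).obj Y)) := by
  haveI : IsLocallyNoetherian X := LocallyOfFiniteType.isLocallyNoetherian f
  obtain ⟨M, ⟨e⟩⟩ := exists_iso_singleFunctor_obj_of_isGE_of_isLE Y q
  have hM : PS f M := (PS f).prop_of_iso
    ((homologyFunctor _ q).mapIso e ≪≫ (singleFunctorCompHomologyFunctorIso _ q).app M) (hY q)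
  let θ : ∀ n, (RH (RpushQCoh.P f) n).obj Y ≅ RS (RpushQCoh.P f) (n - q) M := fun n =>
    (RH (RpushQCoh.P f) n).mapIso (e ≪≫
      (((DerivedCategory.singleFunctors _).shiftIso (-q) q 0 (by lia)).app M).symm) ≪≫
    ((RH0 (RpushQCoh.P f)).shiftIso (-q) n (n - q) (by lia)).app _
  refine ⟨fun n => ?_, fun hS => ?_⟩
  · refine CohBasics.Closure.isCoh_of_iso (θ n).symm ?_
    by_cases h : n - q < 0
    · haveI : ((DerivedCategory.singleFunctor X.Modules 0).obj M).IsGE 0 := inferInstance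
      exact isCoh_of_isZero (isZero_RH_of_isGE (RpushQCoh.P f) _ 0 (n - q) h)
    · obtain ⟨k, hk⟩ : ∃ k : ℕ, n - q = k := ⟨(n - q).toNat, by omega⟩
      rw [hk]
      obtain ⟨φ⟩ := RpushQCoh.nonempty_RS_iso f M k
      exact CohBasics.Closure.isCoh_of_iso φ.symm (isCoh_rightDerived f M hM.1 hM.2 k)
  · obtain ⟨N, hN⟩ := exists_isZero_rightDerived f M hM.1 hM.2
    refine ⟨q + N, fun n hn => ?_⟩
    obtain ⟨k, hk⟩ : ∃ k : ℕ, n - q = k := ⟨(n - q).toNat, by omega⟩
    refine IsZero.of_iso ?_ (θ n)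
    rw [hk]
    obtain ⟨φ⟩ := RpushQCoh.nonempty_RS_iso f M k
    exact (hN k (by omega)).of_iso φ

theorem bounded (Y : DCoh.D X) (hY : HasP (PS f) Y) (a b : ℤ) [Y.IsGE a] [Y.IsLE b] :
    (∀ n, Coh.IsCoh ((RH (RpushQCoh.P f) n).obj Y)) ∧
      (CompactSpace S → ∃ N : ℤ, ∀ n, N ≤ n → IsZero ((RH (RpushQCoh.P f) n).obj Y)) := by
  haveI : IsLocallyNoetherian X := LocallyOfFiniteType.isLocallyNoetherian f
  obtain ⟨k, hk⟩ : ∃ k : ℕ, k = (b - a + 1).toNat := ⟨_, rfl⟩
  induction k generalizing Y b with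
  | zero =>
    exact ⟨fun n => isCoh_of_isZero (Functor.map_isZero _ (isZero_of_isGE_of_isLE_lt Y a b (by lia))),
      fun _ => ⟨0, fun n _ => Functor.map_isZero _ (isZero_of_isGE_of_isLE_lt Y a b (by lia))⟩⟩
  | succ k ih =>
    haveI := isGE_truncLT Y b a
    haveI : ((TStructure.t.truncLT b).obj Y).IsLE (b - 1) :=
      (inferInstance : TStructure.t.IsLE ((TStructure.t.truncLT b).obj Y) (b - 1))
    haveI := isLE_truncGE Y b b
    haveI : ((TStructure.t.truncGE b).obj Y).IsGE b :=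
      (inferInstance : TStructure.t.IsGE ((TStructure.t.truncGE b).obj Y) b)
    obtain ⟨h1, v1⟩ := ih ((TStructure.t.truncLT b).obj Y) (hasP_truncLT (P := PS f) hY b) (b - 1) (by lia)
    obtain ⟨h2, v2⟩ := single_case f ((TStructure.t.truncGE b).obj Y) (hasP_truncGE (P := PS f) hY b) b
    have hT := TStructure.t.triangleLTGE_distinguished b Y
    let P := RpushQCoh.P f
    refine ⟨fun n => ?_, fun hS => ?_⟩
    · exact isCoh_mid ((RH0 P).homologySequenceδ _ (n - 1) n (by lia))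
        ((RH P n).map ((TStructure.t.triangleLTGE b).obj Y).mor₁)
        ((RH P n).map ((TStructure.t.triangleLTGE b).obj Y).mor₂)
        ((RH0 P).homologySequenceδ _ n (n + 1) rfl) _ _ _
        ((RH0 P).homologySequence_exact₁ _ hT (n - 1) n (by lia))
        ((RH0 P).homologySequence_exact₂ _ hT n)
        ((RH0 P).homologySequence_exact₃ _ hT n (n + 1) rfl)
        (h2 (n - 1)).1 (h1 n) (h2 n) (h1 (n + 1)).1
    · obtain ⟨N₁, hN₁⟩ := v1 hS
      obtain ⟨N₂, hN₂⟩ := v2 hS
      exact ⟨max N₁ N₂, fun n hn => ((RH0 P).homologySequence_exact₂ _ hT n).isZero_of_both_zeros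
        ((hN₁ n (le_trans (le_max_left _ _) hn)).eq_of_src _ _)
        ((hN₂ n (le_trans (le_max_right _ _) hn)).eq_of_tgt _ _)⟩

theorem isCoh_RH_isGE (Y : DCoh.D X) (hY : HasP (PS f) Y) (a : ℤ) [Y.IsGE a] (n : ℤ) :
    Coh.IsCoh ((RH (RpushQCoh.P f) n).obj Y) := by
  haveI : IsLocallyNoetherian X := LocallyOfFiniteType.isLocallyNoetherian f
  let b := n + 2
  let P := RpushQCoh.P f
  have hT := TStructure.t.triangleLTGE_distinguished b Y
  let Y' := (TStructure.t.truncLT b).obj Y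
  let Y'' := (TStructure.t.truncGE b).obj Y
  haveI : Y'.IsLE (b - 1) := (inferInstance : TStructure.t.IsLE Y' (b - 1))
  haveI : Y'.IsGE a := isGE_truncLT Y b a
  haveI : Y''.IsGE b := (inferInstance : TStructure.t.IsGE Y'' b)
  have z0 : IsZero ((RH P n).obj Y'') := isZero_RH_of_isGE P Y'' b n (by lia)
  have z1 : IsZero ((RH P (n - 1)).obj Y'') := isZero_RH_of_isGE P Y'' b (n - 1) (by lia)
  let m : (RH P n).obj Y' ⟶ (RH P n).obj Y :=
    (RH P n).map ((TStructure.t.triangleLTGE b).obj Y).mor₁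
  haveI : Mono m :=
    ((RH0 P).homologySequence_exact₁ _ hT (n - 1) n (by lia)).mono_g (z1.eq_of_src _ _)
  haveI : Epi m :=
    ((RH0 P).homologySequence_exact₂ _ hT n).epi_f (z0.eq_of_tgt _ _)
  haveI := isIso_of_mono_of_epi m
  exact CohBasics.Closure.isCoh_of_iso (asIso m)
    ((bounded f Y' (hasP_truncLT (P := PS f) hY b) a (b - 1)).1 n)

variable [DCoh.HasRpush f]

theorem Rpush_isGE (Y : DCoh.D X) (a : ℤ) [Y.IsGE a] : ((DCoh.Rpush f).obj Y).IsGE a :=
  (isGE_iff _ _).2 fun i hi =>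
    (isZero_RH_of_isGE (RpushQCoh.P f) Y a i hi).of_iso (RpushQCoh.nonempty_HD_Rpush f Y i).some

theorem isCohD_Rpush (Y : DCoh.D X) (hY : HasP (PS f) Y) (a : ℤ) [Y.IsGE a] :
    DCoh.IsCohD ((DCoh.Rpush f).obj Y) := fun i =>
  CohBasics.Closure.isCoh_of_iso (RpushQCoh.nonempty_HD_Rpush f Y i).some.symm (isCoh_RH_isGE f Y hY a i)

theorem exists_isLE_Rpush [CompactSpace S] (Y : DCoh.D X) (hY : HasP (PS f) Y) (a b : ℤ) [Y.IsGE a]
    [Y.IsLE b] : ∃ b' : ℤ, ((DCoh.Rpush f).obj Y).IsLE b' := by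
  obtain ⟨N, hN⟩ := (bounded f Y hY a b).2 ‹_›
  exact ⟨N, (isLE_iff _ _).2 fun i hi =>
    (hN i (by lia)).of_iso (RpushQCoh.nonempty_HD_Rpush f Y i).some⟩

end Groth.Agent.Lib.SchColim29.CohPush
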