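import Groth.Agent.Lib.SchColim29.RpushPerfect
import Groth.Agent.Lib.Gen43.Approx
import Groth.Agent.Lib.Perfect.PseudoCoh
import Groth.Agent.S11122

/-!
# Direct images of pseudo-coherent objects along proper flat morphisms
-/

set_option autoImplicit false
set_option linter.style.haveILetI false
set_option linter.unusedSectionVars false

universe u

open CategoryTheory Limits AlgebraicGeometry Pretriangulated

attribute [local instance] HasDerivedCategory.standard

namespace Groth.Agent.Lib.SchColim29.RpushPC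

open Groth.Agent.Lib Groth.Agent.Lib.DerivedOX Groth.Agent.Lib.Perfect
open Groth.Agent.Lib.Perfect.Basic

variable {X S : Scheme.{u}}

/-- A restriction of a pseudo-coherent object is pseudo-coherent. -/
theorem isPC_restrictD {U : Scheme.{u}} (j : U ⟶ X) [IsOpenImmersion j] {K : DCoh.D X} {m : ℤ}
    (hK : DCoh.IsPseudoCoherentD m K) : DCoh.IsPseudoCoherentD m ((DCoh.restrictD j).obj K) :=
  (PseudoCoh.iff_forall _ _).2 fun y =>
    PseudoCoh.PCAt.restrict j y ((PseudoCoh.iff_forall _ _).1 hK (j y))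

/-- The affine case. -/
theorem isPC_Rpush_affine [IsAffine S] (f : X ⟶ S) [IsProper f] [Flat f]
    [LocallyOfFinitePresentation f] [DCoh.HasRpush f] {E : DCoh.D X}
    (hE : ∀ m : ℤ, DCoh.IsPseudoCoherentD m E) (m : ℤ) :
    DCoh.IsPseudoCoherentD m ((DCoh.Rpush f).obj E) := by
  haveI : CompactSpace X := QuasiCompact.compactSpace_of_compactSpace f
  haveI : QuasiSeparatedSpace X := quasiSeparatedSpace_of_quasiSeparated f
  obtain ⟨N, hN⟩ := RpushTor.exists_bound f
  obtain ⟨r, hr⟩ := Gen43.Approx.exists_approx (X := X) ⊥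
    (by rw [TopologicalSpace.Opens.coe_bot]; exact isCompact_empty)
  have hq : DCoh.IsQCohD E := S11122.isQCohD_of_pc hE
  let m₀ : ℤ := m - N - 1
  obtain ⟨P, α, hP, -, hα⟩ := hr m₀ E hq (hE _) (fun _ _ _ hx => hx.elim)
  obtain ⟨C, g, h, hT⟩ := distinguished_cocone_triangle α
  have hz : ∀ i, m₀ ≤ i → IsZero (DCoh.HD C i) := (Ascent.good_iff m₀ _ hT).1 hα
  haveI hC : C.IsLE (m₀ - 1) := (DerivedCategory.isLE_iff _ _).2 fun i hi => hz i (by omega)
  have hCq : DCoh.IsQCohD C := ObjectProperty.ext_of_isTriangulatedClosed₃ _ _ hT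
    (QCohD.isQCohD_of_isPerfect hP) hq
  haveI hRC := hN C (m₀ - 1) hCq hC
  refine (PseudoCoh.iff_forall _ _).2 fun y =>
    PseudoCoh.pcAt₂ ((DCoh.Rpush f).map_distinguished _ hT)
      (Gen43.Approx.pcAt_perfect (RpushPerfect.isPerfect_Rpush f hP) m y)
      (PseudoCoh.pcAt_of_vanish (fun i hi => ?_) y)
  exact ((DerivedCategory.isLE_iff _ _).1 hRC) i (by omega)

/-- `Rf_*` preserves pseudo-coherence for proper flat morphisms of finite presentation. -/
theorem isPC_Rpush (f : X ⟶ S) [IsProper f] [Flat f] [LocallyOfFinitePresentation f]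
    [DCoh.HasRpush f] {E : DCoh.D X} (hE : ∀ m : ℤ, DCoh.IsPseudoCoherentD m E) (m : ℤ) :
    DCoh.IsPseudoCoherentD m ((DCoh.Rpush f).obj E) := by
  refine (PseudoCoh.iff_forall _ _).2 fun x => ?_
  obtain ⟨V, hV, hxV, -⟩ := exists_isAffineOpen_mem_and_subset (X := S) (x := x) (U := ⊤) trivial
  haveI : IsAffine (V : Scheme.{u}) := hV
  haveI := Exists.hasRpush (f ∣_ V)
  haveI : IsProper (f ∣_ V) := IsZariskiLocalAtTarget.restrict ‹IsProper f› V
  haveI : Flat (f ∣_ V) := MorphismProperty.of_isPullback (isPullback_morphismRestrict f V).flip ‹Flat f›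
  haveI : LocallyOfFinitePresentation (f ∣_ V) :=
    MorphismProperty.of_isPullback (isPullback_morphismRestrict f V).flip ‹LocallyOfFinitePresentation f›
  have h := isPC_Rpush_affine (f ∣_ V) (fun k => isPC_restrictD (f ⁻¹ᵁ V).ι (hE k)) m
  exact PseudoCoh.PCAt.of_restrict (j := V.ι) (y := ⟨x, hxV⟩) rfl
    (PseudoCoh.PCAt.of_iso ((RestrictRpush.restrictD_Rpush_iso f V).app E).symm
      ((PseudoCoh.iff_forall _ _).1 h _))

end Groth.Agent.Lib.SchColim29.RpushPC
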