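import Groth.Agent.Lib.SchColim29.ProperFlatPerfect
import Groth.Agent.Lib.DerivedOX.RpushTriangulated
import Groth.Agent.Lib.DerivedOX.RestrictRpush
import Groth.Agent.Lib.DerivedOX.OpenImm
import Groth.Agent.Lib.Gen43.Affine

/-!
# `Rf_*` of perfect objects along proper flat morphisms of finite presentation
-/

set_option autoImplicit false
set_option linter.style.haveILetI false
set_option linter.unusedSectionVars false

universe u

open CategoryTheory Limits AlgebraicGeometry

attribute [local instance] HasDerivedCategory.standard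

namespace Groth.Agent.Lib.SchColim29.RpushPerfect

open Groth.Agent.Lib Groth.Agent.Lib.DerivedOX

variable {X S : Scheme.{u}}

theorem hasRΓA {A : Type u} [CommRing A] (f : X ⟶ Spec (CommRingCat.of A)) : HTor.HasRΓA f :=
  RightDerived.hasRightDerivedFunctor _

/-- A restriction of a perfect object is perfect. -/
theorem isPerfect_restrictD {U : Scheme.{u}} (j : U ⟶ X) [IsOpenImmersion j] {K : DCoh.D X}
    (hK : DCoh.IsPerfect K) : DCoh.IsPerfect ((DCoh.restrictD j).obj K) :=
  (Perfect.Triangle.isPerfect_iff _).2 fun y =>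
    Perfect.Triangle.PerfAt.restrict j y ((Perfect.Triangle.isPerfect_iff _).1 hK (j y))

/-- The affine case. -/
theorem isPerfect_Rpush_affine [IsAffine S] (f : X ⟶ S) [IsProper f] [Flat f]
    [LocallyOfFinitePresentation f] [DCoh.HasRpush f] {K : DCoh.D X} (hK : DCoh.IsPerfect K) :
    DCoh.IsPerfect ((DCoh.Rpush f).obj K) := by
  obtain ⟨X₀, S₀, f₀, b, q, hS₀, hN₀, H, hf₀, hfl₀⟩ := ProperFlatModel.exists_model f
  haveI := hS₀; haveI := hN₀; haveI := hf₀; haveI := hfl₀
  haveI : IsNoetherianRing Γ(S₀, ⊤) := IsLocallyNoetherian.component_noetherian ⟨⊤, isAffineOpen_top S₀⟩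
  let g₀ := f₀ ≫ S₀.isoSpec.hom
  let g := f ≫ S.isoSpec.hom
  have H' : IsPullback q (Y := Spec (CommRingCat.of Γ(S, ⊤))) g
      (Z := Spec (CommRingCat.of Γ(S₀, ⊤))) g₀ (Spec.map (CommRingCat.ofHom b.appTop.hom)) :=
    H.of_iso (Iso.refl _) (Iso.refl _) S.isoSpec S₀.isoSpec (by simp) (by simp [g]) (by simp [g₀])
      (Scheme.isoSpec_hom_naturality b).symm
  haveI : IsProper g₀ := inferInstanceAs (IsProper (f₀ ≫ S₀.isoSpec.hom))
  haveI : Flat g₀ := inferInstanceAs (Flat (f₀ ≫ S₀.isoSpec.hom))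
  haveI : IsProper g := inferInstanceAs (IsProper (f ≫ S.isoSpec.hom))
  haveI : IsAffineHom q := MorphismProperty.of_isPullback H'.flip
    (inferInstance : IsAffineHom (Spec.map (CommRingCat.ofHom b.appTop.hom)))
  haveI := Exists.hasRpush g₀
  haveI := Exists.hasRpush g
  haveI := Exists.hasRpush S.isoSpec.hom
  haveI := hasRΓA g₀
  haveI := hasRΓA g
  haveI := LeftExists.hasLpull q
  haveI : CompactSpace X₀ := QuasiCompact.compactSpace_of_compactSpace f₀
  haveI : QuasiSeparatedSpace X₀ := quasiSeparatedSpace_of_quasiSeparated f₀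
  haveI : CompactSpace X := QuasiCompact.compactSpace_of_compactSpace f
  haveI : QuasiSeparatedSpace X := quasiSeparatedSpace_of_quasiSeparated f
  obtain ⟨G, hG, hqG, hgen⟩ := PerfThick.exists_pulled_generator q
  have h0 := ProperFlatPerfect.isPerfect_Rpush_pullback H' hG
  let P : ObjectProperty (DCoh.D X) :=
    ObjectProperty.inverseImage (fun L => DCoh.IsPerfect L) (DCoh.Rpush g)
  haveI : P.IsTriangulated := inferInstanceAs
    (ObjectProperty.inverseImage (fun L => DCoh.IsPerfect L) (DCoh.Rpush g)).IsTriangulated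
  haveI : P.IsStableUnderRetracts :=
    ⟨fun r h => Gen43.Restrict.isPerfect_of_retract (r.map (DCoh.Rpush g)) h⟩
  have h1 : DCoh.IsPerfect ((DCoh.Rpush g).obj K) := PerfThick.mem_thick hqG hgen P h0 hK
  have h2 := isPerfect_restrictD S.isoSpec.hom (Perfect.Triangle.isPerfect_of_iso
    ((PullComp.rpushCompIso f S.isoSpec.hom).app K).symm h1)
  exact Perfect.Triangle.isPerfect_of_iso ((OpenImm.counitIso S.isoSpec.hom).app _) h2

/-- `Rf_*` preserves perfect objects for proper flat morphisms of finite presentation. -/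
theorem isPerfect_Rpush (f : X ⟶ S) [IsProper f] [Flat f] [LocallyOfFinitePresentation f]
    [DCoh.HasRpush f] {K : DCoh.D X} (hK : DCoh.IsPerfect K) :
    DCoh.IsPerfect ((DCoh.Rpush f).obj K) := by
  refine (Perfect.Triangle.isPerfect_iff _).2 fun x => ?_
  obtain ⟨V, hV, hxV, -⟩ := exists_isAffineOpen_mem_and_subset (X := S) (x := x) (U := ⊤) trivial
  haveI : IsAffine (V : Scheme.{u}) := hV
  haveI := Exists.hasRpush (f ∣_ V)
  haveI : IsProper (f ∣_ V) := IsZariskiLocalAtTarget.restrict ‹IsProper f› V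
  haveI : Flat (f ∣_ V) := MorphismProperty.of_isPullback (isPullback_morphismRestrict f V).flip ‹Flat f›
  haveI : LocallyOfFinitePresentation (f ∣_ V) :=
    MorphismProperty.of_isPullback (isPullback_morphismRestrict f V).flip ‹LocallyOfFinitePresentation f›
  have h := Perfect.Triangle.isPerfect_of_iso ((RestrictRpush.restrictD_Rpush_iso f V).app K).symm
    (isPerfect_Rpush_affine (f ∣_ V) (isPerfect_restrictD (f ⁻¹ᵁ V).ι hK))
  exact Perfect.Triangle.PerfAt.of_restrict (j := V.ι) (y := ⟨x, hxV⟩) rfl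
    ((Perfect.Triangle.isPerfect_iff _).1 h _)

end Groth.Agent.Lib.SchColim29.RpushPerfect
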