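import Groth.Agent.Lib.DerivedOX.RpushAcyclic

/-!
# Bounded below complexes of acyclic modules compute `Rf_*`
-/

set_option autoImplicit false
set_option linter.unusedSectionVars false
set_option linter.style.haveILetI false

universe u

open CategoryTheory Limits AlgebraicGeometry DerivedCategory

attribute [local instance] HasDerivedCategory.standard

namespace Groth.Agent.Lib.SchColim29.RpushBounded

open Groth.Agent.Lib.DerivedOX
open Groth.Agent.Lib.SpecSeq.RightHom Groth.Agent.Lib.SpecSeq.AcyclicComplex
open Groth.Agent.Lib.WayOut.Scheme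

variable {X S : Scheme.{u}} (f : X ⟶ S)

/-- `f_*` of a quasi-isomorphism from a bounded below complex of acyclic modules to injectives. -/
lemma quasiIso_push {F I : CochainComplex X.Modules ℤ} (i : F ⟶ I) [QuasiIso i] (a : ℤ)
    [F.IsStrictlyGE a] [I.IsStrictlyGE a] (hI : ∀ n, Injective (I.X n))
    (hac : ∀ (n : ℤ) (W : S.Opens), IsAffineOpen W → Acyc (sect (f ⁻¹ᵁ W)) (F.X n)) :
    QuasiIso (((Scheme.Modules.pushforward f).mapHomologicalComplex (ComplexShape.up ℤ)).map i) := by
  refine (quasiIso_iff_acyclic_mappingCone _).2 fun n => (HomologicalComplex.exactAt_iff _ _).2 ?_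
  refine exact_of_sect _ fun W => ?_
  have hN := CochainComplex.isStrictlyGE_mappingCone i a a (a - 1)
  have hacyc := (quasiIso_iff_acyclic_mappingCone i).1 inferInstance
  let T := sect (f ⁻¹ᵁ W.1)
  have hT : ((T.mapHomologicalComplex (ComplexShape.up ℤ)).obj (CochainComplex.mappingCone i)).ExactAt n :=
    exactAt_map_of_acyclic T _ (a - 1) hacyc (fun j => acyc_of_iso T
      (HomologicalComplex.homotopyCofiber.XIsoBiprod i j (j + 1) rfl).symm
      (acyc_biprod T (hac (j + 1) W.1 W.2) (have := hI j; acyc_injective T (I.X j)))) n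
  have h2 := HomologicalComplex.ExactAt.of_iso hT
    (((NatIso.mapHomologicalComplex (NatIso.ofComponents (fun _ => Iso.refl _) :
      T ≅ Scheme.Modules.pushforward f ⋙ sect W.1) (ComplexShape.up ℤ)).app _))
  have h3 : (((sect W.1).mapHomologicalComplex (ComplexShape.up ℤ)).obj
      (((Scheme.Modules.pushforward f).mapHomologicalComplex (ComplexShape.up ℤ)).obj
        (CochainComplex.mappingCone i))).ExactAt n := h2
  have h4 := h3.of_iso (((sect W.1).mapHomologicalComplex (ComplexShape.up ℤ)).mapIso
    (CochainComplex.mappingCone.mapHomologicalComplexIso i (Scheme.Modules.pushforward f)))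
  exact (HomologicalComplex.exactAt_iff _ _).1 h4

/-- The unit is invertible on bounded below complexes of acyclic modules. -/
theorem isIso_unit_of_acyclic [DCoh.HasRpush f] (F : CochainComplex X.Modules ℤ) (a : ℤ)
    [F.IsStrictlyGE a]
    (hac : ∀ (n : ℤ) (W : S.Opens), IsAffineOpen W → Acyc (sect (f ⁻¹ᵁ W)) (F.X n)) :
    IsIso (((DCoh.pushKh f).totalRightDerivedUnit DerivedCategory.Qh
      (HomotopyCategory.quasiIso X.Modules (ComplexShape.up ℤ))).app
      ((HomotopyCategory.quotient X.Modules (ComplexShape.up ℤ)).obj F)) := by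
  obtain ⟨I, i, hi, hI, hIge⟩ := CochainComplex.Plus.modelCategoryQuillen.exists_quasiIso_injective F a
  haveI := hi
  haveI : I.IsKInjective := isKInjective_of_isStrictlyGE I a hI
  let η := (DCoh.pushKh f).totalRightDerivedUnit DerivedCategory.Qh
      (HomotopyCategory.quasiIso X.Modules (ComplexShape.up ℤ))
  have hηI : IsIso (η.app ((HomotopyCategory.quotient X.Modules (ComplexShape.up ℤ)).obj I)) :=
    RightDerived.isIso_totalRightDerivedUnit_app_of_isKInjective _ I
  haveI : IsIso (DerivedCategory.Qh.map
      ((HomotopyCategory.quotient X.Modules (ComplexShape.up ℤ)).map i)) :=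
    (NatIso.isIso_map_iff (quotientCompQhIso X.Modules) i).2 inferInstance
  have hpq := quasiIso_push f i a hI hac
  let q := (HomotopyCategory.quotient X.Modules (ComplexShape.up ℤ)).map i
  have hp : IsIso ((DCoh.pushKh f).map q) :=
    ((MorphismProperty.isomorphisms _).arrow_mk_iso_iff
      (((Functor.mapArrowFunctor _ _).mapIso
        (Functor.isoWhiskerRight ((Scheme.Modules.pushforward f).mapHomotopyCategoryFactors
          (ComplexShape.up ℤ)) DerivedCategory.Qh)).app (Arrow.mk i))).2
      ((NatIso.isIso_map_iff (quotientCompQhIso S.Modules) _).2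
        ((DerivedCategory.isIso_Q_map_iff_quasiIso _ _).2 hpq))
  have h2 : IsIso ((DerivedCategory.Qh ⋙ DCoh.Rpush f).map q) :=
    inferInstanceAs (IsIso ((DCoh.Rpush f).map (DerivedCategory.Qh.map q)))
  have h1 : IsIso (η.app ((HomotopyCategory.quotient X.Modules (ComplexShape.up ℤ)).obj F) ≫
      (DerivedCategory.Qh ⋙ DCoh.Rpush f).map q) := by
    rw [← η.naturality q]
    exact IsIso.comp_isIso' hp hηI
  exact @IsIso.of_isIso_comp_right _ _ _ _ _ _ _ h2 h1

end Groth.Agent.Lib.SchColim29.RpushBounded
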