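import Groth.Agent.Lib.SchColim29.QCohModel
import Groth.Agent.Lib.SchColim29.CohPush
import Groth.Agent.Lib.SchColim29.RpushBounded
import Groth.Agent.Lib.Perfect.Coherent
import Groth.Agent.Lib.Perfect.Lift2
import Groth.Agent.Lib.Modules.ExtendFT
import Groth.Agent.Lib.CohDelta.IdealMul.DevExt
import Groth.Agent.Lib.LocalTor.Split
import Groth.Agent.Lib.RefHull.LocFree

/-!
# Bounded coherent objects extend from open subschemes of Noetherian schemes
-/

set_option autoImplicit false
set_option linter.style.haveILetI false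
set_option linter.unusedSectionVars false

universe u

open CategoryTheory Limits AlgebraicGeometry Opposite HomologicalComplex ZeroObject Pretriangulated

attribute [local instance] HasDerivedCategory.standard

namespace Groth.Agent.Lib.SchColim29.CohExtend

open Groth.Agent.Lib
open Groth.Agent.Lib.Perfect Groth.Agent.Lib.Perfect.Basic
open Groth.Agent.Lib.Modules StalkModule

attribute [local instance] HasFiniteBiproducts.of_hasFiniteProducts

variable {X : Scheme.{u}} [IsNoetherian X] (U : X.Opens)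

local notation "R" => Scheme.Modules.restrictFunctor (Scheme.Opens.ι U)

/-- A map from a quasi-coherent module to a coherent one that is surjective on `U` stays so on some
coherent module mapping to the source. -/
theorem exists_lift {P : X.Modules} [P.IsQuasicoherent] {N : (U : Scheme.{u}).Modules}
    (hN : Coh.IsCoh N) (g : (R).obj P ⟶ N) [Epi g] :
    ∃ (M : X.Modules) (c : M ⟶ P), Coh.IsCoh M ∧ Epi ((R).map c ≫ g) := by
  classical
  haveI := hN.1
  haveI : ((R).obj P).IsQuasicoherent := inferInstanceAs ((P.restrict U.ι).IsQuasicoherent)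
  haveI : IsNoetherian (U : Scheme.{u}) :=
    { toIsLocallyNoetherian := isLocallyNoetherian_of_isOpenImmersion U.ι
      toCompactSpace := isCompact_iff_compactSpace.1 (TopologicalSpace.NoetherianSpace.isCompact (U : Set X)) }
  have hX : ∀ x : X, ∃ V : X.Opens, x ∈ V ∧ TopologicalSpace.NoetherianSpace (V : Set X) :=
    fun x => ⟨⊤, trivial, inferInstance⟩
  obtain ⟨s, hs, hcov⟩ := (isCompact_and_isOpen_iff_finite_and_eq_biUnion_affineOpens
    (U := (Set.univ : Set (U : Scheme.{u})))).mp ⟨CompactSpace.isCompact_univ, isOpen_univ⟩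
  have hfin := fun V : (U : Scheme.{u}).affineOpens =>
    (CohBasics.Closure.finite_sections hN V.2).fg_top
  choose t ht using hfin
  have hsub : ∀ (V : (U : Scheme.{u}).affineOpens) (n : Γ(N, V.1)),
      ∃ (G : X.Modules) (i : G ⟶ P), Coh.IsCoh G ∧
        ∃ y, ((R).map i ≫ g).app V.1 y = n := by
    intro V n
    obtain ⟨p, hp⟩ := QCoh.Closure.sections_surjective_of_epi g V.2 n
    obtain ⟨G, i, _, hGq, hGft, y, hy⟩ := ExtendFT.exists_through_section (F := P) hX
      (V.2.image_of_isOpenImmersion U.ι) p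
    exact ⟨G, i, ⟨hGq, hGft⟩, y, (congrArg (g.app V.1) hy).trans hp⟩
  choose G i hG y hy using hsub
  let J := Σ V : s, ↥(t V.1)
  haveI : Finite J := by
    haveI := hs.to_subtype
    exact Finite.instSigma
  obtain ⟨d, ⟨e⟩⟩ := Finite.exists_equiv_fin J
  let A : Fin d → X.Modules := fun k => G (e.symm k).1.1 (e.symm k).2.1
  let c : (⨁ A) ⟶ P := biproduct.desc fun k => i (e.symm k).1.1 (e.symm k).2.1
  refine ⟨⨁ A, c, CohDelta.IdealMul.DevExt.isCoh_biproduct _ fun k => hG _ _, ?_⟩
  refine (Stalk.epi_iff_stalk_surjective _).2 fun x => ?_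
  obtain ⟨V, hV, hx⟩ : ∃ V ∈ s, x ∈ (V.1 : Set (U : Scheme.{u})) := by
    have := hcov.le (Set.mem_univ x)
    simpa using this
  let φ := stalkMapₗ ((R).map c ≫ g) x
  suffices hr : LinearMap.range φ = ⊤ from LinearMap.range_eq_top.1 hr
  rw [eq_top_iff, ← CohBasics.Affine.germ_span_eq_top V.2 (t V : Set _) (ht V) hx, Submodule.span_le]
  rintro _ ⟨n, hn, rfl⟩
  let k : Fin d := e ⟨⟨V, hV⟩, ⟨n, hn⟩⟩
  have h0 : e.symm k = ⟨⟨V, hV⟩, ⟨n, hn⟩⟩ := e.symm_apply_apply _
  have hk : ∃ y', ((R).map c ≫ g).app V.1 y' = n := by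
    have h1 : biproduct.ι A k ≫ c = i (e.symm k).1.1 (e.symm k).2.1 := biproduct.ι_desc _ _
    have h2 : ∃ y', ((R).map (i (e.symm k).1.1 (e.symm k).2.1) ≫ g).app V.1 y' = n := by
      rw [h0]
      exact ⟨_, hy V n⟩
    obtain ⟨y', hy'⟩ := h2
    refine ⟨((R).map (biproduct.ι A k)).app V.1 y', ?_⟩
    rw [← h1, Functor.map_comp, Category.assoc] at hy'
    exact hy'
  obtain ⟨y', hy'⟩ := hk
  exact ⟨((R).obj (⨁ A)).presheaf.germ V.1 x hx y', by rw [stalkMapₗ_germ, hy']⟩

variable (K : CochainComplex X.Modules ℤ) (b : ℤ)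

section

variable {A : Type*} [Category A] [Abelian A] {K C Q S : CochainComplex A ℤ} (ι : K ⟶ C) (π : C ⟶ Q)
  (w : ι ≫ π = 0) (ψ : S ⟶ C)

open CochainComplex.mappingCone in
include w in
lemma cone_w : (ι ≫ inr ψ) ≫ CochainComplex.mappingCone.map ψ (ψ ≫ π) (𝟙 _) π (by simp) = 0 := by
  simp [CochainComplex.mappingCone.map, reassoc_of% w]

open CochainComplex.mappingCone in
/-- Splittings pass to cones. -/
noncomputable def coneSplit (n : ℤ)
    (σ : ((ShortComplex.mk ι π w).map (HomologicalComplex.eval A (ComplexShape.up ℤ) n)).Splitting) :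
    ((ShortComplex.mk _ _ (cone_w ι π w ψ)).map (HomologicalComplex.eval A (ComplexShape.up ℤ) n)).Splitting :=
  let r : C.X n ⟶ K.X n := σ.r
  let s : Q.X n ⟶ C.X n := σ.s
  have hr : ι.f n ≫ r = 𝟙 _ := σ.f_r
  have hs : s ≫ π.f n = 𝟙 _ := σ.s_g
  have hid : r ≫ ι.f n + π.f n ≫ s = 𝟙 _ := σ.id
  { r := ((snd ψ).v n n (add_zero n) ≫ r :)
    s := ((fst (ψ ≫ π)).1.v n (n + 1) rfl ≫ (inl ψ).v (n + 1) n (by omega) +
        (snd (ψ ≫ π)).v n n (add_zero n) ≫ s ≫ (inr ψ).f n :)
    f_r := by
      change (ι ≫ inr ψ).f n ≫ (snd ψ).v n n (add_zero n) ≫ r = 𝟙 _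
      simp [hr]
    s_g := by
      change ((fst (ψ ≫ π)).1.v n (n + 1) rfl ≫ (inl ψ).v (n + 1) n (by omega) +
        (snd (ψ ≫ π)).v n n (add_zero n) ≫ s ≫ (inr ψ).f n) ≫
          (CochainComplex.mappingCone.map ψ (ψ ≫ π) (𝟙 _) π (by simp)).f n = 𝟙 _
      rw [ext_from_iff (ψ ≫ π) (n + 1) n rfl]
      constructor <;> simp [CochainComplex.mappingCone.map, reassoc_of% hs]
    id := by
      change ((snd ψ).v n n (add_zero n) ≫ r) ≫ (ι ≫ inr ψ).f n +
        (CochainComplex.mappingCone.map ψ (ψ ≫ π) (𝟙 _) π (by simp)).f n ≫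
          ((fst (ψ ≫ π)).1.v n (n + 1) rfl ≫ (inl ψ).v (n + 1) n (by omega) +
            (snd (ψ ≫ π)).v n n (add_zero n) ≫ s ≫ (inr ψ).f n) = 𝟙 _
      have hid' := fun {Z : A} (h : C.X n ⟶ Z) => congrArg (· ≫ h) hid
      simp only [Preadditive.add_comp, Category.assoc, Category.id_comp] at hid'
      rw [ext_from_iff ψ (n + 1) n rfl]
      constructor <;> simp [CochainComplex.mappingCone.map, hid'] }

end

/-- An approximation: `K → C` with bounded coherent cokernel and `C` exact on `U` in high degrees. -/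
structure St (m : ℤ) where
  C : CochainComplex X.Modules ℤ
  Q : CochainComplex X.Modules ℤ
  ι : K ⟶ C
  π : C ⟶ Q
  w : ι ≫ π = 0
  σ : ∀ n, ((ShortComplex.mk ι π w).map (HomologicalComplex.eval X.Modules (ComplexShape.up ℤ) n)).Splitting
  qc : ∀ n, (C.X n).IsQuasicoherent
  coh : ∀ n, Coh.IsCoh (Q.X n)
  bdd : ∀ n, n < m - 1 ∨ b < n → IsZero (Q.X n)
  exact : ∀ n, m ≤ n → ((rC U.ι).obj C).ExactAt n

variable {U K b}

lemma isCoh_homology_C (hK : ∀ n, Coh.IsCoh (((rC U.ι).obj K).homology n)) {m : ℤ} (s : St U K b m)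
    (n : ℤ) : Coh.IsCoh (((rC U.ι).obj s.C).homology n) := by
  haveI : IsLocallyNoetherian (U : Scheme.{u}) := isLocallyNoetherian_of_isOpenImmersion U.ι
  let T := (ShortComplex.mk s.ι s.π s.w).map (rC U.ι)
  have hT : T.ShortExact := HomologicalComplex.shortExact_of_degreewise_shortExact T fun k =>
    ((s.σ k).map R).shortExact
  have hQ : ∀ k, Coh.IsCoh (T.X₃.homology k) := fun k =>
    Coherent.isCoh_homology (T.X₃.sc k) (RefHull.LocFree.isCoh_restrict (s.coh _) U).1
      (RefHull.LocFree.isCoh_restrict (s.coh k) U) (RefHull.LocFree.isCoh_restrict (s.coh _) U).1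
  exact CohPush.isCoh_mid _ _ _ _ _ _ _ (hT.homology_exact₁ (n - 1) n (by simp)) (hT.homology_exact₂ n)
    (hT.homology_exact₃ n (n + 1) (by simp)) (hQ (n - 1)).1 (hK n) (hQ n) (hK (n + 1)).1

theorem step (hK : ∀ n, Coh.IsCoh (((rC U.ι).obj K).homology n)) {m : ℤ} (hm : m ≤ b + 2)
    (s : St U K b m) : Nonempty (St U K b (m - 1)) := by
  haveI := s.qc (m - 1)
  haveI := s.qc (m - 1 + 1)
  haveI : (s.C.cycles (m - 1)).IsQuasicoherent :=
    (SheafOfModules.isQuasicoherent X.ringCatSheaf).prop_of_iso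
      (IsLimit.conePointUniqueUpToIso (kernelIsKernel _) (s.C.cyclesIsKernel (m - 1) (m - 1 + 1) (by simp)))
      (QCoh.Closure.isQCoh_kernel (s.C.d (m - 1) (m - 1 + 1)))
  haveI : Epi ((R).map (s.C.homologyπ (m - 1))) := (R).map_epi _
  have hN : Coh.IsCoh ((R).obj (s.C.homology (m - 1))) :=
    CohBasics.Closure.isCoh_of_iso ((s.C.sc (m - 1)).mapHomologyIso R) (isCoh_homology_C hK s (m - 1))
  obtain ⟨M, c, hM, hc⟩ := exists_lift U hN ((R).map (s.C.homologyπ (m - 1)))
  let S₀ := (single X.Modules (ComplexShape.up ℤ) (m - 1)).obj M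
  let ψ : S₀ ⟶ s.C := mkHomFromSingle (c ≫ s.C.iCycles (m - 1)) (fun j _ => by simp)
  let C' := CochainComplex.mappingCone ψ
  let Q' := CochainComplex.mappingCone (ψ ≫ s.π)
  let ι' : K ⟶ C' := s.ι ≫ CochainComplex.mappingCone.inr ψ
  let π' : C' ⟶ Q' := CochainComplex.mappingCone.map ψ (ψ ≫ s.π) (𝟙 _) s.π (by simp)
  have w' : ι' ≫ π' = 0 := cone_w s.ι s.π s.w ψ
  have hsingle : ∀ j, Coh.IsCoh (S₀.X j) := fun j => by
    by_cases hj : j = m - 1
    · subst hj
      exact CohBasics.Closure.isCoh_of_iso (singleObjXSelf (ComplexShape.up ℤ) (m - 1) M).symm hM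
    · exact CohPush.isCoh_of_isZero (isZero_single_obj_X _ _ _ _ hj)
  refine ⟨⟨C', Q', ι', π', w', fun n => coneSplit s.ι s.π s.w ψ n (s.σ n), fun n => ?_, fun n => ?_,
    fun n hn => ?_, fun n hn => ?_⟩⟩
  · haveI := (hsingle (n + 1)).1
    haveI := s.qc n
    exact (SheafOfModules.isQuasicoherent X.ringCatSheaf).prop_of_iso
      (HomologicalComplex.homotopyCofiber.XIsoBiprod ψ n (n + 1) rfl).symm QCoh.Closure.isQCoh_biprod
  · exact CohBasics.Closure.isCoh_of_iso
      (HomologicalComplex.homotopyCofiber.XIsoBiprod (ψ ≫ s.π) n (n + 1) rfl).symm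
      (CohBasics.Closure.isCoh_biprod (hsingle (n + 1)) (s.coh n))
  · rw [CochainComplex.mappingCone.isZero_X_iff]
    exact ⟨isZero_single_obj_X _ _ _ _ (by omega), s.bdd n (by omega)⟩
  · let ψU := (rC U.ι).map ψ
    have hgood : Ascent.Good (m - 1) (DerivedCategory.Q.map ψU) := by
      let H := DerivedCategory.homologyFunctor (U : Scheme.{u}).Modules
      let F := DerivedCategory.homologyFunctorFactors (U : Scheme.{u}).Modules
      have hs0 : ∀ i, i ≠ m - 1 → ((rC U.ι).obj S₀).ExactAt i := fun i hi =>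
        HomologicalComplex.ExactAt.of_isZero ((R).map_isZero (isZero_single_obj_X _ _ _ _ hi))
      refine ⟨fun i hi => ?_, ?_⟩
      · have z₁ := ((hs0 i (by omega)).isZero_homology).of_iso ((F i).app _)
        have z₂ := ((s.exact i (by omega)).isZero_homology).of_iso ((F i).app _)
        exact ⟨⟨0, z₁.eq_of_src _ _, z₂.eq_of_src _ _⟩⟩
      · have h1 : (singleObjHomologySelfIso (ComplexShape.up ℤ) (m - 1) M).inv ≫
            homologyMap ψ (m - 1) = c ≫ s.C.homologyπ (m - 1) := by
          rw [← cancel_epi (singleObjCyclesSelfIso (ComplexShape.up ℤ) (m - 1) M).hom,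
            singleObjHomologySelfIso_hom_singleObjHomologySelfIso_inv_assoc, homologyπ_naturality,
            ← Category.assoc]
          congr 1
          rw [← cancel_mono (s.C.iCycles (m - 1)), cyclesMap_i]
          simp [ψ, mkHomFromSingle_f]
          rfl
        have h2 : Epi ((R).map (homologyMap ψ (m - 1))) := by
          haveI : Epi ((R).map (singleObjHomologySelfIso (ComplexShape.up ℤ) (m - 1) M).inv ≫
              (R).map (homologyMap ψ (m - 1))) := by
            rw [← Functor.map_comp, h1, Functor.map_comp]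
            exact hc
          exact epi_of_epi ((R).map (singleObjHomologySelfIso (ComplexShape.up ℤ) (m - 1) M).inv) _
        have h3 : Epi (homologyMap ψU (m - 1)) := by
          refine ((MorphismProperty.epimorphisms _).arrow_mk_iso_iff
            (Arrow.isoMk ((S₀.sc (m - 1)).mapHomologyIso R) ((s.C.sc (m - 1)).mapHomologyIso R) ?_)).2 h2
          exact (ShortComplex.mapHomologyIso_hom_naturality
            ((shortComplexFunctor X.Modules (ComplexShape.up ℤ) (m - 1)).map ψ) R).symm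
        exact ((MorphismProperty.epimorphisms _).arrow_mk_iso_iff
          (Arrow.isoMk ((F (m - 1)).app _) ((F (m - 1)).app _)
            ((F (m - 1)).hom.naturality ψU).symm)).2 h3
    have h := (Ascent.good_iff (m - 1) _
      (DerivedCategory.mappingCone_triangle_distinguished ψU)).1 hgood n hn
    refine HomologicalComplex.ExactAt.of_iso ?_
      (CochainComplex.mappingCone.mapHomologicalComplexIso ψ R).symm
    exact (exactAt_iff_isZero_homology _ _).2
      (h.of_iso ((DerivedCategory.homologyFunctorFactors _ n).app _).symm)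

variable [K.IsStrictlyLE b]

/-- The trivial approximation. -/
theorem base (hq : ∀ n, (K.X n).IsQuasicoherent) : Nonempty (St U K b (b + 2)) := by
  have hz : ∀ n, IsZero ((0 : CochainComplex X.Modules ℤ).X n) := fun n =>
    (HomologicalComplex.eval X.Modules (ComplexShape.up ℤ) n).map_isZero (isZero_zero _)
  refine ⟨⟨K, 0, 𝟙 K, 0, by simp, fun n => ?_, hq, fun n => CohPush.isCoh_of_isZero (hz n),
    fun n _ => hz n, fun n hn => HomologicalComplex.ExactAt.of_isZero
      ((R).map_isZero (K.isZero_of_isStrictlyLE b n (by omega)))⟩⟩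
  exact
    { r := 𝟙 (K.X n)
      s := 0
      f_r := Category.id_comp _
      s_g := (hz n).eq_of_src _ _
      id := by
        refine Eq.trans (congrArg₂ (· + ·) (Category.id_comp _) comp_zero) ?_
        exact add_zero _ }

theorem exists_st (hK : ∀ n, Coh.IsCoh (((rC U.ι).obj K).homology n))
    (hq : ∀ n, (K.X n).IsQuasicoherent) : ∀ k : ℕ, Nonempty (St U K b (b + 2 - k)) := by
  intro k
  induction k with
  | zero => simpa using base (U := U) (K := K) (b := b) hq
  | succ k ih =>
    obtain ⟨s⟩ := ih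
    rw [show b + 2 - ((k + 1 : ℕ) : ℤ) = b + 2 - k - 1 by omega]
    exact step hK (by omega) s

/-- A bounded complex of quasi-coherent modules with coherent cohomology on `U` is on `U` isomorphic
to one with coherent cohomology on `X`. -/
theorem exists_coh_model (hK : ∀ n, Coh.IsCoh (((rC U.ι).obj K).homology n))
    (hq : ∀ n, (K.X n).IsQuasicoherent) (a : ℤ) [K.IsStrictlyGE a] :
    ∃ (G : CochainComplex X.Modules ℤ), DCoh.IsCohD (DCoh.toD X G) ∧ G.IsStrictlyGE a ∧
      G.IsStrictlyLE (b + 1) ∧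
      Nonempty (DerivedCategory.Q.obj ((rC U.ι).obj G) ≅ DerivedCategory.Q.obj ((rC U.ι).obj K)) := by
  obtain ⟨m, k, hma, hm⟩ : ∃ (m : ℤ) (k : ℕ), m < a ∧ m = b + 2 - k :=
    ⟨min (a - 2) (b + 2), (b + 2 - min (a - 2) (b + 2)).toNat, by omega, by omega⟩
  subst hm
  obtain ⟨s⟩ := exists_st (b := b) hK hq k
  let T := (ShortComplex.mk s.ι s.π s.w).map (rC U.ι)
  have hT : T.ShortExact := HomologicalComplex.shortExact_of_degreewise_shortExact T fun n =>
    ((s.σ n).map R).shortExact
  let T₁ := (DerivedCategory.triangleOfSES hT).invRotate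
  have hT₁ : T₁ ∈ distTriang _ :=
    Pretriangulated.inv_rot_of_distTriang _ (DerivedCategory.triangleOfSES_distinguished hT)
  let H := DerivedCategory.homologyFunctor (U : Scheme.{u}).Modules
  let F := DerivedCategory.homologyFunctorFactors (U : Scheme.{u}).Modules
  have hgood : Ascent.Good (b + 2 - k) T₁.mor₁ := (Ascent.good_iff _ T₁ hT₁).2 fun i hi =>
    ((s.exact i hi).isZero_homology).of_iso ((F i).app _)
  let G₀ : CochainComplex X.Modules ℤ := s.Q⟦(-1 : ℤ)⟧
  haveI : G₀.IsStrictlyLE (b + 1) := (CochainComplex.isStrictlyLE_iff _ _).2 fun i hi =>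
    s.bdd (i + -1) (Or.inr (by omega))
  let e : DerivedCategory.Q.obj ((rC U.ι).obj G₀) ≅ T₁.obj₁ :=
    DerivedCategory.Q.mapIso (((rC U.ι).commShiftIso (-1 : ℤ)).app s.Q) ≪≫
      (DerivedCategory.Q.commShiftIso (-1 : ℤ)).app _
  let f : DerivedCategory.Q.obj ((rC U.ι).obj G₀) ⟶ DerivedCategory.Q.obj ((rC U.ι).obj K) :=
    e.hom ≫ T₁.mor₁
  have hf : Ascent.Good (b + 2 - k) f := (Ascent.Good.of_isIso _ _).comp hgood
  let G := G₀.truncGE a
  have hcoh : DCoh.IsCohD (DCoh.toD X G) := fun i => by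
    refine CohBasics.Closure.isCoh_of_iso
      ((DerivedCategory.homologyFunctorFactors X.Modules i).app G).symm ?_
    by_cases hi : a ≤ i
    · haveI := G₀.quasiIsoAt_πTruncGE a i hi
      exact CohBasics.Closure.isCoh_of_iso (isoOfQuasiIsoAt (G₀.πTruncGE a) i)
        (Coherent.isCoh_homology (G₀.sc i) (s.coh _).1 (s.coh _) (s.coh _).1)
    · exact CohPush.isCoh_of_isZero (HomologicalComplex.ExactAt.isZero_homology
        (HomologicalComplex.ExactAt.of_isZero (G.isZero_of_isStrictlyGE a i (by omega))))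
  let q : DerivedCategory.Q.obj ((rC U.ι).obj G₀) ⟶ DerivedCategory.Q.obj ((rC U.ι).obj G) :=
    DerivedCategory.Q.map ((rC U.ι).map (G₀.πTruncGE a))
  have hq' : ∀ i, a ≤ i → IsIso ((H i).map q) := fun i hi => by
    haveI := G₀.quasiIsoAt_πTruncGE a i hi
    have h1 : IsIso ((R).map (homologyMap (G₀.πTruncGE a) i)) := inferInstance
    have := ((MorphismProperty.isomorphisms _).arrow_mk_iso_iff
      (Arrow.isoMk ((G₀.sc i).mapHomologyIso R) ((G.sc i).mapHomologyIso R)
        (ShortComplex.mapHomologyIso_hom_naturality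
          ((shortComplexFunctor X.Modules (ComplexShape.up ℤ) i).map (G₀.πTruncGE a)) R).symm)).2 h1
    exact ((MorphismProperty.isomorphisms _).arrow_mk_iso_iff
      (Arrow.isoMk ((F i).app _) ((F i).app _)
        ((F i).hom.naturality ((rC U.ι).map (G₀.πTruncGE a))).symm)).2 this
  haveI : ((rC U.ι).obj K).IsStrictlyGE a := (CochainComplex.isStrictlyGE_iff _ _).2 fun i hi =>
    (R).map_isZero (K.isZero_of_isStrictlyGE a i hi)
  haveI : ((rC U.ι).obj G).IsStrictlyGE a := (CochainComplex.isStrictlyGE_iff _ _).2 fun i hi =>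
    (R).map_isZero (G.isZero_of_isStrictlyGE a i hi)
  obtain ⟨W, w₁, w₂, hW⟩ := Pretriangulated.distinguished_cocone_triangle₁ q
  have hWle : W.IsLE (a - 1) := (DerivedCategory.isLE_iff W _).2 fun i hi => by
    have hT₂ := Pretriangulated.rot_of_distTriang _ hW
    have hg : Ascent.Good a q := ⟨fun j hj => hq' j hj.le, (hq' a le_rfl).epi_of_iso⟩
    have := hq' i (by omega)
    have h1 : (H i).map w₁ = 0 := (DerivedCategory.HomologySequence.mono_homologyMap_mor₂_iff _ hW i).1
      (show Mono ((H i).map q) from inferInstance)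
    have h2 : DerivedCategory.HomologySequence.δ (Triangle.mk w₁ q w₂) (i - 1) i (by omega) = 0 := by
      refine (DerivedCategory.HomologySequence.epi_homologyMap_mor₂_iff _ hW (i - 1) i (by omega)).1 ?_
      by_cases h : a ≤ i - 1
      · have := hq' (i - 1) h
        change Epi ((H (i - 1)).map q)
        infer_instance
      · exact ⟨fun _ _ _ => ((DerivedCategory.isZero_of_isGE
          (DerivedCategory.Q.obj ((rC U.ι).obj G)) a (i - 1) (by omega))).eq_of_src _ _⟩
    exact (DerivedCategory.HomologySequence.exact₁ _ hW (i - 1) i (by omega)).isZero_X₂ h2 h1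
  obtain ⟨(h : DerivedCategory.Q.obj ((rC U.ι).obj G) ⟶ DerivedCategory.Q.obj ((rC U.ι).obj K)),
    (hh : f = q ≫ h)⟩ := Triangle.yoneda_exact₂ _ hW f
    (DerivedCategory.TStructure.t.zero (w₁ ≫ f) (a - 1) a (by omega))
  haveI : IsIso h := by
    rw [DerivedCategory.isIso_iff]
    intro i
    by_cases hi : a ≤ i
    · haveI := hq' i hi
      haveI := hf.1 i (by omega)
      have : (H i).map f = (H i).map q ≫ (H i).map h := by
        rw [← Functor.map_comp]; exact congrArg _ hh
      exact IsIso.of_isIso_fac_left this.symm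
    · exact ⟨⟨0, (DerivedCategory.isZero_of_isGE
        (DerivedCategory.Q.obj ((rC U.ι).obj G)) a i (by omega)).eq_of_src _ _,
        (DerivedCategory.isZero_of_isGE
        (DerivedCategory.Q.obj ((rC U.ι).obj K)) a i (by omega)).eq_of_src _ _⟩⟩
  exact ⟨G, hcoh, inferInstance, inferInstance, ⟨asIso h⟩⟩

end Groth.Agent.Lib.SchColim29.CohExtend
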