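import Groth.Agent.Lib.DerivedOX.DualMain
import Groth.Agent.Lib.DerivedOX.RpushQCoh
import Groth.Agent.Lib.LocalTor.Coherent
import Groth.Agent.Lib.Perfect.PCCoh
import Groth.Agent.Lib.Perfect.EulerChar
import Groth.Agent.Lib.Perfect.QCohD
import Groth.Agent.Lib.SchColim29.CohPush

/-!
# Cohomology of internal Hom complexes out of pseudo-coherent complexes

Near every point a pseudo-coherent complex receives a map from a bounded complex of extensions by
zero of free modules whose cone is exact in high degrees, so the cohomology of the internal Hom into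
a bounded below complex of injectives is locally built from the cohomology of the target.
-/

set_option autoImplicit false
set_option linter.unusedSectionVars false
set_option linter.style.haveILetI false

universe u

open CategoryTheory CategoryTheory.Limits AlgebraicGeometry HomologicalComplex
open ZeroObject

attribute [local instance] HasDerivedCategory.standard

namespace Groth.Agent.Lib.SchColim29.RHomLocal

open Groth.Agent.Lib Groth.Agent.Lib.DerivedOX
open DualHom DualQis DualExact DualFree DualPerfect TrivCof LeftRes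
open Groth.Agent.Lib.Perfect Groth.Agent.Lib.Perfect.Basic Groth.Agent.Lib.Perfect.PseudoCoh
open Groth.Agent.Lib.Perfect.Pullback

variable {X : Scheme.{u}}

/-- A class of modules, local over opens: closed under restrictions isomorphic, zero and middle terms. -/
structure Cls (X : Scheme.{u}) where
  /-- The property of a module over an open. -/
  P : X.Opens → X.Modules → Prop
  of_iso : ∀ {V : X.Opens} {M N : X.Modules},
    ((Scheme.Modules.restrictFunctor V.ι).obj M ≅ (Scheme.Modules.restrictFunctor V.ι).obj N) →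
      P V M → P V N
  of_zero : ∀ {V : X.Opens} {M : X.Modules},
    IsZero ((Scheme.Modules.restrictFunctor V.ι).obj M) → P V M
  mid : ∀ {V : X.Opens} {A B C D E : X.Modules} (a : A ⟶ B) (f : B ⟶ C) (g : C ⟶ D) (b : D ⟶ E)
    (h₁ : a ≫ f = 0) (h₂ : f ≫ g = 0) (h₃ : g ≫ b = 0),
    (ShortComplex.mk a f h₁).Exact → (ShortComplex.mk f g h₂).Exact → (ShortComplex.mk g b h₃).Exact →
      P V A → P V B → P V D → P V E → P V C

variable (Φ : Cls X) (V : X.Opens) (J : CochainComplex X.Modules ℤ)

/-- All cohomology modules of `Hom(P, J)` are of the class over `V`. -/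
def G (P : CochainComplex X.Modules ℤ) : Prop := ∀ n, Φ.P V (((Hc P).obj J).homology n)

/-- Restriction of the cohomology of a complex. -/
noncomputable def restrictHomIso (K : CochainComplex X.Modules ℤ) (n : ℤ) :
    ((rC V.ι).obj K).homology n ≅ (Scheme.Modules.restrictFunctor V.ι).obj (K.homology n) :=
  (K.sc n).mapHomologyIso (Scheme.Modules.restrictFunctor V.ι)

/-- A quasi-isomorphism over `V` gives isomorphisms of restricted cohomology. -/
noncomputable def homIsoOfQisAt {K L : CochainComplex X.Modules ℤ} {f : K ⟶ L} (hf : QisAt V f) (n : ℤ) :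
    (Scheme.Modules.restrictFunctor V.ι).obj (K.homology n) ≅
      (Scheme.Modules.restrictFunctor V.ι).obj (L.homology n) :=
  (restrictHomIso V K n).symm ≪≫
    (haveI := hf.quasiIso_restrict; isoOfQuasiIsoAt ((rC V.ι).map f) n) ≪≫ restrictHomIso V L n

variable {Φ V J}

section

variable [J.IsKInjective] (hJ : InjTerms J)
include hJ

theorem g_iff_of_qisAt {P' P : CochainComplex X.Modules ℤ} (a : P' ⟶ P) (ha : QisAt V a) :
    G Φ V J P ↔ G Φ V J P' :=
  ⟨fun h n => Φ.of_iso (homIsoOfQisAt V (qisAt_pre hJ a ha) n) (h n),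
    fun h n => Φ.of_iso (homIsoOfQisAt V (qisAt_pre hJ a ha) n).symm (h n)⟩

theorem g_of_iso {P P' : CochainComplex X.Modules ℤ} (e : P' ≅ P) (h : G Φ V J P) : G Φ V J P' :=
  (g_iff_of_qisAt hJ e.hom (QisAt.of_quasiIso _)).1 h

omit [J.IsKInjective] hJ in
lemma isZero_Hc {P : CochainComplex X.Modules ℤ} (hP : IsZero P) (J : CochainComplex X.Modules ℤ) :
    IsZero ((Hc P).obj J) := by
  haveI : PreservesBinaryBiproducts ((DCoh.tensorCx (X := X)).obj ((Hc P).obj J)) :=
    preservesBinaryBiproducts_of_preservesBinaryCoproducts _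
  haveI : ((DCoh.tensorCx (X := X)).obj ((Hc P).obj J)).Additive :=
    Functor.additive_of_preservesBinaryBiproducts _
  rw [IsZero.iff_id_eq_zero]
  exact ((adj P).homEquiv _ J).symm.injective
    ((((DCoh.tensorCx (X := X)).obj ((Hc P).obj J)).map_isZero hP).eq_of_src _ _)

omit [J.IsKInjective] hJ in
lemma g_of_isZero {P : CochainComplex X.Modules ℤ} (hP : IsZero P) : G Φ V J P := fun n =>
  Φ.of_zero (Functor.map_isZero _
    ((HomologicalComplex.homologyFunctor X.Modules (ComplexShape.up ℤ) n).map_isZero (isZero_Hc hP J)))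

theorem g_of_acyclic {P : CochainComplex X.Modules ℤ} (hP : P.Acyclic) : G Φ V J P := by
  haveI : QuasiIso (0 : (0 : CochainComplex X.Modules ℤ) ⟶ P) := KFlat.quasiIso_of_acyclic _
    (fun n => ShortComplex.exact_of_isZero_X₂ _
      (Functor.map_isZero (HomologicalComplex.eval _ _ _) (isZero_zero _))) hP
  exact (g_iff_of_qisAt hJ _ (QisAt.of_quasiIso (0 : (0 : CochainComplex X.Modules ℤ) ⟶ P))).2
    (g_of_isZero (isZero_zero _))

omit [J.IsKInjective] in
theorem g_two_of_three (S : ShortComplex (CochainComplex X.Modules ℤ))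
    (σ : ∀ n, (S.map (HomologicalComplex.eval X.Modules (ComplexShape.up ℤ) n)).Splitting) :
    (G Φ V J S.X₁ → G Φ V J S.X₂ → G Φ V J S.X₃) ∧ (G Φ V J S.X₁ → G Φ V J S.X₃ → G Φ V J S.X₂) ∧
      (G Φ V J S.X₂ → G Φ V J S.X₃ → G Φ V J S.X₁) := by
  have s := shortExact_hcSC
    (HomologicalComplex.shortExact_of_degreewise_shortExact S fun n => (σ n).shortExact)
    (fun n => IsSplitMono.mk' ⟨(σ n).r, (σ n).f_r⟩) hJ
  refine ⟨fun h₁ h₂ n => ?_, fun h₁ h₃ n => ?_, fun h₂ h₃ n => ?_⟩
  · exact Φ.mid _ _ _ _ _ _ _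
      (s.homology_exact₃ (n - 1) n (by simp)) (s.homology_exact₁ (n - 1) n (by simp))
      (s.homology_exact₂ n) (h₂ (n - 1)) (h₁ (n - 1)) (h₂ n) (h₁ n)
  · exact Φ.mid _ _ _ _ _ _ _
      (s.homology_exact₁ (n - 1) n (by simp)) (s.homology_exact₂ n)
      (s.homology_exact₃ n (n + 1) (by simp)) (h₁ (n - 1)) (h₃ n) (h₁ n) (h₃ (n + 1))
  · exact Φ.mid _ _ _ _ _ _ _
      (s.homology_exact₂ n) (s.homology_exact₃ n (n + 1) (by simp))
      (s.homology_exact₁ n (n + 1) (by simp)) (h₃ n) (h₂ n) (h₃ (n + 1)) (h₂ (n + 1))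

omit [J.IsKInjective] hJ in
theorem g_one (hΦ : ∀ n, Φ.P V (J.homology n)) : G Φ V J (one X) := fun n =>
  Φ.of_iso ((Scheme.Modules.restrictFunctor V.ι).mapIso
    ((HomologicalComplex.homologyFunctor X.Modules (ComplexShape.up ℤ) n).mapIso (hcOneIso.app J)).symm)
    (hΦ n)

theorem g_single_iff_succ (A : X.Modules) (n : ℤ) :
    G Φ V J ((single X.Modules (ComplexShape.up ℤ) n).obj A) ↔
      G Φ V J ((single X.Modules (ComplexShape.up ℤ) (n + 1)).obj A) := by
  let S := ShortComplex.mk (singleToDisk A n) (diskToSingle A n) (by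
    apply from_single_hom_ext
    exact (isZero_single_obj_X (ComplexShape.up ℤ) n A (n + 1) (by omega)).eq_of_tgt _ _)
  have σ : ∀ k, (S.map (HomologicalComplex.eval X.Modules (ComplexShape.up ℤ) k)).Splitting := fun k => by
    by_cases h₁ : k = n + 1
    · subst h₁
      haveI : IsIso (S.map (HomologicalComplex.eval X.Modules (ComplexShape.up ℤ) (n + 1))).f := by
        change IsIso ((singleToDisk A n).f (n + 1))
        simp [singleToDisk]
        infer_instance
      exact splitting₁ _ (isZero_single_obj_X (ComplexShape.up ℤ) n A (n + 1) (by omega))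
    · haveI : IsIso (S.map (HomologicalComplex.eval X.Modules (ComplexShape.up ℤ) k)).g := by
        change IsIso ((diskToSingle A n).f k)
        by_cases h₀ : k = n
        · subst h₀
          simp [diskToSingle]
          infer_instance
        · exact OpenSupport.isIso_of_zero _ (disk_isZero A n k h₀ h₁)
            (isZero_single_obj_X (ComplexShape.up ℤ) n A k h₀)
      exact splitting₃ _ (isZero_single_obj_X (ComplexShape.up ℤ) (n + 1) A k h₁)
  obtain ⟨t₃, -, t₁⟩ := g_two_of_three (Φ := Φ) (V := V) hJ S σ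
  have hD : G Φ V J (disk A n) := g_of_acyclic hJ (disk_acyclic A n)
  exact ⟨fun h => t₁ hD h, fun h => t₃ h hD⟩

theorem g_single_iff (A : X.Modules) (n : ℤ) :
    G Φ V J ((single X.Modules (ComplexShape.up ℤ) n).obj A) ↔
      G Φ V J ((single X.Modules (ComplexShape.up ℤ) 0).obj A) := by
  induction n using Int.induction_on with
  | zero => rfl
  | succ k ih => exact (g_single_iff_succ hJ A k).symm.trans ih
  | pred k ih =>
    refine Iff.trans ?_ ih
    have h := g_single_iff_succ (Φ := Φ) (V := V) hJ A (-(k : ℤ) - 1)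
    rwa [sub_add_cancel] at h

theorem g_free (hΦ : ∀ n, Φ.P V (J.homology n)) (k : ℕ) (n : ℤ) :
    G Φ V J ((single X.Modules (ComplexShape.up ℤ) n).obj (FlatMod.freeMod X k)) := by
  induction k with
  | zero =>
    exact g_of_isZero (Functor.map_isZero _ ((IsZero.iff_id_eq_zero _).2
      (Sigma.hom_ext _ _ fun a => a.elim0)))
  | succ k ih =>
    let F := single X.Modules (ComplexShape.up ℤ) n
    let S := (coprodSC (Coh.structureModule X) k).map F
    refine (g_two_of_three (Φ := Φ) (V := V) hJ S fun m => ?_).2.1 ih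
      ((g_single_iff hJ (Coh.structureModule X) n).2 (g_one hΦ))
    exact ((coprodSplitting (Coh.structureModule X) k).map F).map
      (HomologicalComplex.eval X.Modules (ComplexShape.up ℤ) m)

theorem g_of_terms (F : CochainComplex X.Modules ℤ)
    (hg : ∀ i, G Φ V J ((single X.Modules (ComplexShape.up ℤ) i).obj (F.X i))) (b : ℤ) (m : ℕ)
    (hz : ∀ i, i < b - m ∨ b ≤ i → IsZero (F.X i)) : G Φ V J F := by
  induction m generalizing F with
  | zero =>
    exact g_of_isZero ((IsZero.iff_id_eq_zero F).2 (HomologicalComplex.hom_ext _ _ fun i =>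
      (hz i (by omega)).eq_of_src _ _))
  | succ m ih =>
    let a := b - (m + 1 : ℕ)
    let T := Stupid.trunc F (a + 1)
    let π : F ⟶ (single X.Modules (ComplexShape.up ℤ) a).obj (F.X a) :=
      mkHomToSingle (𝟙 _) (fun i (hi : i + 1 = a) => (hz i (by omega)).eq_of_src _ _)
    let S := ShortComplex.mk (Stupid.ι F (a + 1)) π (by
      apply HomologicalComplex.to_single_hom_ext
      exact (Stupid.isZero_trunc F (a + 1) a (by omega)).eq_of_src _ _)
    have σ : ∀ k, (S.map (HomologicalComplex.eval X.Modules (ComplexShape.up ℤ) k)).Splitting := fun k => by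
      by_cases hk : a + 1 ≤ k
      · haveI : IsIso (S.map (HomologicalComplex.eval X.Modules (ComplexShape.up ℤ) k)).f :=
          Stupid.isIso_ι F (a + 1) k hk
        exact splitting₁ _ (isZero_single_obj_X (ComplexShape.up ℤ) a (F.X a) k (by omega))
      · haveI : IsIso (S.map (HomologicalComplex.eval X.Modules (ComplexShape.up ℤ) k)).g := by
          change IsIso (π.f k)
          by_cases h₀ : k = a
          · subst h₀
            rw [show π.f a = 𝟙 _ ≫ (singleObjXSelf (ComplexShape.up ℤ) a (F.X a)).inv from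
              mkHomToSingle_f _ _]
            infer_instance
          · exact OpenSupport.isIso_of_zero _ (hz k (by omega))
              (isZero_single_obj_X (ComplexShape.up ℤ) a (F.X a) k h₀)
        exact splitting₃ _ (Stupid.isZero_trunc F (a + 1) k (by omega))
    refine (g_two_of_three (Φ := Φ) (V := V) hJ S σ).2.1 (ih T (fun i => ?_) fun i hi => ?_) (hg a)
    · by_cases hi : a + 1 ≤ i
      · haveI := Stupid.isIso_ι F (a + 1) i hi
        exact g_of_iso hJ ((single X.Modules (ComplexShape.up ℤ) i).mapIso (asIso ((Stupid.ι F (a + 1)).f i)))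
          (hg i)
      · exact g_of_isZero (Functor.map_isZero _ (Stupid.isZero_trunc F (a + 1) i (by omega)))
    · by_cases hi' : a + 1 ≤ i
      · haveI := Stupid.isIso_ι F (a + 1) i hi'
        exact (hz i (by omega)).of_iso (asIso ((Stupid.ι F (a + 1)).f i))
      · exact Stupid.isZero_trunc F (a + 1) i (by omega)

/-- Free modules on an open, extended by zero. -/
theorem g_extZero_free {U : Scheme.{u}} (j : U ⟶ X) [IsOpenImmersion j] (hV : V ≤ j.opensRange)
    (hΦ : ∀ n, Φ.P V (J.homology n)) (k : ℕ) (n : ℤ) :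
    G Φ V J ((single X.Modules (ComplexShape.up ℤ) n).obj
      ((CxOX.extZero j).obj (FlatMod.freeMod U k))) := by
  let M := FlatMod.freeMod X k
  let κ : (CxOX.extZero j).obj (M.restrict j) ⟶ M := (CxOX.extZeroAdj j).counit.app M
  have hκ : IsIso ((Scheme.Modules.restrictFunctor j).map κ) := by
    haveI := isIso_unit_extZeroAdj j (M.restrict j)
    exact IsIso.of_isIso_fac_left ((CxOX.extZeroAdj j).right_triangle_components M)
  let F := single X.Modules (ComplexShape.up ℤ) n
  have hq : QuasiIso ((rC j).map (F.map κ)) := by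
    haveI : ∀ i, IsIso (((rC j).map (F.map κ)).f i) := fun i => by
      change IsIso ((Scheme.Modules.restrictFunctor j).map ((F.map κ).f i))
      by_cases hi : i = n
      · subst hi
        simp [F, single_map_f_self]
        infer_instance
      · exact OpenSupport.isIso_of_zero _
          ((Scheme.Modules.restrictFunctor j).map_isZero (isZero_single_obj_X (ComplexShape.up ℤ) n _ i hi))
          ((Scheme.Modules.restrictFunctor j).map_isZero (isZero_single_obj_X (ComplexShape.up ℤ) n _ i hi))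
    haveI := HomologicalComplex.Hom.isIso_of_components ((rC j).map (F.map κ))
    infer_instance
  exact g_of_iso hJ (F.mapIso ((CxOX.extZero j).mapIso (Modules.Free.restrictFreeIso j k).symm))
    ((g_iff_of_qisAt hJ (F.map κ) ((qisAt_of_restrict j _ hq).mono hV)).1 (g_free hJ hΦ k n))

end

lemma isZero_Tc_X (G : X.Modules) (C : CochainComplex X.Modules ℤ) (c n k : ℤ) [C.IsStrictlyLE c]
    (hk : n + c < k) :
    IsZero (((DCoh.tensorCx.obj ((single X.Modules (ComplexShape.up ℤ) n).obj G)).obj C).X k) :=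
  LocalTor.Coherent.isZero_tensorCx_X (a := n) (b := c)
    (fun i hi => isZero_single_obj_X (ComplexShape.up ℤ) n G i (ne_of_gt hi))
    (fun i hi => C.isZero_of_isStrictlyLE c i hi) k hk

/-- Cohomology of `Hom(C, J)` vanishes in degrees `n` with `n + c < a` when `C ≤ c` and `J ≥ a`. -/
theorem isZero_homology_Hc (C : CochainComplex X.Modules ℤ) (c a : ℤ) [C.IsStrictlyLE c]
    [J.IsStrictlyGE a] (n : ℤ) (hn : n + c < a) : IsZero (((Hc C).obj J).homology n) := by
  let H := (Hc C).obj J
  let g : (single X.Modules (ComplexShape.up ℤ) n).obj (H.cycles n) ⟶ H :=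
    mkHomFromSingle (H.iCycles n) (fun k _ => H.iCycles_d n k)
  have hg : g = 0 := by
    apply ((adj C).homEquiv _ J).symm.injective
    refine HomologicalComplex.hom_ext _ _ fun k => ?_
    by_cases hk : n + c < k
    · exact (isZero_Tc_X (H.cycles n) C c n k hk).eq_of_src _ _
    · exact (J.isZero_of_isStrictlyGE a k (by omega)).eq_of_tgt _ _
  have h0 : H.iCycles n = 0 := by
    have h := congrArg (fun φ => φ.f n) hg
    simpa [g, mkHomFromSingle_f] using h
  have hz : IsZero (H.cycles n) := (IsZero.iff_id_eq_zero _).2 ((cancel_mono (H.iCycles n)).1 (by simp [h0]))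
  exact IsZero.of_epi (H.homologyπ n) hz

/-- Near every point of pseudo-coherence. -/
theorem exists_of_pcAt [J.IsKInjective] (hJ : InjTerms J) (a : ℤ) [J.IsStrictlyGE a]
    {P : CochainComplex X.Modules ℤ} {m : ℤ} {x : X} (hP : PCAt m (DerivedCategory.Q.obj P) x) :
    ∃ V : X.Opens, x ∈ V ∧ ∀ Φ : Cls X, (∀ n, Φ.P V (J.homology n)) →
      ∀ n, n + m < a → Φ.P V (((Hc P).obj J).homology n) := by
  obtain ⟨U, j₀, _, y, E₀, φ₀, hy, hE₀, hcone⟩ := LocalTor.Coherent.exists_model P m x hP
  obtain ⟨W, ν, hyW, -, hν⟩ := EulerChar.exists_free_terms hE₀ y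
  let j := W.ι ≫ j₀
  let E := (rC W.ι).obj E₀
  let φ : E ⟶ (rC j).obj P :=
    (rC W.ι).map (φ₀ ≫ ((rCIso j₀).app P).inv) ≫ (rCComp W.ι j₀).inv.app P
  let ad := DerCat.DerAdj.adjC (CxOX.extZeroAdj j) (ComplexShape.up ℤ)
  let α := (ad.homEquiv E P).symm φ
  let E' := ((CxOX.extZero j).mapHomologicalComplex (ComplexShape.up ℤ)).obj E
  let C := CochainComplex.mappingCone α
  have hCex : ∀ i, m ≤ i → ((rC j).obj C).ExactAt i := fun i hi => by
    let e : CochainComplex.mappingCone φ₀ ≅ CochainComplex.mappingCone (φ₀ ≫ ((rCIso j₀).app P).inv) :=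
      { hom := CochainComplex.mappingCone.map φ₀ _ (𝟙 _) ((rCIso j₀).app P).inv (by simp)
        inv := CochainComplex.mappingCone.map _ φ₀ (𝟙 _) ((rCIso j₀).app P).hom (by simp)
        hom_inv_id := by
          rw [← CochainComplex.mappingCone.map_comp]
          simp only [Category.comp_id, Iso.inv_hom_id]
          exact CochainComplex.mappingCone.map_id _
        inv_hom_id := by
          rw [← CochainComplex.mappingCone.map_comp]
          simp only [Category.comp_id, Iso.hom_inv_id]
          exact CochainComplex.mappingCone.map_id _ }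
    have h1 : ((rC W.ι).obj (CochainComplex.mappingCone (φ₀ ≫ ((rCIso j₀).app P).inv))).ExactAt i :=
      Lift2.exactAt_map W.ι ((hcone i hi).of_iso e)
    have hα : ad.unit.app E ≫ (rC j).map α = φ :=
      (ad.homEquiv_unit _ _ _).symm.trans ((ad.homEquiv E P).apply_symm_apply φ)
    haveI : IsIso (ad.unit.app E) := by
      haveI : ∀ k, IsIso ((ad.unit.app E).f k) := fun k => isIso_unit_extZeroAdj j (E.X k)
      exact HomologicalComplex.Hom.isIso_of_components _
    let e' : CochainComplex.mappingCone ((rC W.ι).map (φ₀ ≫ ((rCIso j₀).app P).inv)) ≅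
        CochainComplex.mappingCone ((rC j).map α) :=
      { hom := CochainComplex.mappingCone.map _ _ (ad.unit.app E) ((rCComp W.ι j₀).inv.app P) hα.symm
        inv := CochainComplex.mappingCone.map _ _ (inv (ad.unit.app E)) ((rCComp W.ι j₀).hom.app P) (by
          have h2 := congrArg (fun t => inv (ad.unit.app E) ≫ t ≫ (rCComp W.ι j₀).hom.app P) hα
          simpa [φ, E] using h2)
        hom_inv_id := by
          rw [← CochainComplex.mappingCone.map_comp]
          simp only [IsIso.hom_inv_id, Iso.inv_hom_id_app]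
          exact CochainComplex.mappingCone.map_id _
        inv_hom_id := by
          rw [← CochainComplex.mappingCone.map_comp]
          simp only [IsIso.inv_hom_id, Iso.hom_inv_id_app]
          exact CochainComplex.mappingCone.map_id _ }
    exact h1.of_iso (CochainComplex.mappingCone.mapHomologicalComplexIso _ _ ≪≫ e' ≪≫
      (CochainComplex.mappingCone.mapHomologicalComplexIso α (Scheme.Modules.restrictFunctor j)).symm)
  let V := j.opensRange
  have hι : QisAt V (C.ιTruncLE (m - 1)) := qisAt_of_restrict j _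
    ((quasiIso_iff _).2 fun k => by
      by_cases hk : k ≤ m - 1
      · haveI := C.quasiIsoAt_ιTruncLE (m - 1) k hk
        infer_instance
      · have h1 : (C.truncLE (m - 1)).ExactAt k :=
          HomologicalComplex.ExactAt.of_isZero ((C.truncLE (m - 1)).isZero_of_isStrictlyLE (m - 1) k (by omega))
        exact (quasiIsoAt_iff_exactAt _ k (Lift2.exactAt_map j h1)).2 (hCex k (by omega)))
  refine ⟨V, ⟨⟨y, hyW⟩, hy⟩, fun Φ hΦ n hn => ?_⟩
  obtain ⟨⟨p, q, hpq⟩, -⟩ := hE₀
  have hC0 : ∀ k, k + m ≤ a → Φ.P V (((Hc C).obj J).homology k) := fun k hk =>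
    Φ.of_zero (IsZero.of_iso
      ((Scheme.Modules.restrictFunctor V.ι).map_isZero
        (isZero_homology_Hc (C.truncLE (m - 1)) (m - 1) a k (by omega)))
      (homIsoOfQisAt V (qisAt_pre hJ (C.ιTruncLE (m - 1)) hι) k))
  have hE' : G Φ V J (E'⟦(1 : ℤ)⟧) := by
    refine g_of_terms hJ _ (fun i => ?_) q ((q + 1 - p).toNat) fun i hi =>
      (CxOX.extZero j).map_isZero ((Scheme.Modules.restrictFunctor W.ι).map_isZero
        (hpq (i + 1) (by omega)))
    exact g_of_iso hJ ((single X.Modules (ComplexShape.up ℤ) i).mapIso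
      ((CxOX.extZero j).mapIso (hν (i + 1)).some)) (g_extZero_free hJ j le_rfl hΦ _ i)
  have s := shortExact_hcSC
    (HomologicalComplex.shortExact_of_degreewise_shortExact _
      fun k => (LocalTor.Split.coneSplitting α k).shortExact)
    (fun k => IsSplitMono.mk' ⟨(LocalTor.Split.coneSplitting α k).r,
      (LocalTor.Split.coneSplitting α k).f_r⟩) hJ
  exact Φ.mid _ _ _ _ _ _ _
    (s.homology_exact₂ n) (s.homology_exact₃ n (n + 1) (by simp))
    (s.homology_exact₁ n (n + 1) (by simp))
    (hE' n) (hC0 n (by omega)) (hE' (n + 1)) (hC0 (n + 1) (by omega))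

/-- The class of quasi-coherent modules. -/
def qcCls (X : Scheme.{u}) : Cls X where
  P V M := ((Scheme.Modules.restrictFunctor V.ι).obj M).IsQuasicoherent
  of_iso e h := (WayOut.Scheme.qc _).prop_of_iso e h
  of_zero h := RpushQCoh.qc_of_isZero h
  mid {V A B C D E} a f g b h₁ h₂ h₃ e₁ e₂ e₃ hA hB hD hE := by
    let R := Scheme.Modules.restrictFunctor V.ι
    exact TildeEquiv.isQCoh_mid (R.map a) (R.map f) (R.map g) (R.map b)
      (by rw [← R.map_comp, h₁, R.map_zero]) (by rw [← R.map_comp, h₂, R.map_zero])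
      (by rw [← R.map_comp, h₃, R.map_zero]) (e₁.map R) (e₂.map R) (e₃.map R) hA hB hD hE

/-- The class of coherent modules. -/
def cohCls (X : Scheme.{u}) [IsLocallyNoetherian X] : Cls X where
  P V M := Coh.IsCoh ((Scheme.Modules.restrictFunctor V.ι).obj M)
  of_iso e h := CohBasics.Closure.isCoh_of_iso e h
  of_zero h := CohPush.isCoh_of_isZero h
  mid {V A B C D E} a f g b h₁ h₂ h₃ e₁ e₂ e₃ hA hB hD hE := by
    let R := Scheme.Modules.restrictFunctor V.ι
    exact CohPush.isCoh_mid (R.map a) (R.map f) (R.map g) (R.map b)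
      (by rw [← R.map_comp, h₁, R.map_zero]) (by rw [← R.map_comp, h₂, R.map_zero])
      (by rw [← R.map_comp, h₃, R.map_zero]) (e₁.map R) (e₂.map R) (e₃.map R) hA.1 hB hD hE.1

section RHom

variable (K : CochainComplex X.Modules ℤ) [DCoh.HasLTensorCx K] [DCoh.HasRSheafHom K]

/-- A model for `RHom(K, L)`. -/
theorem exists_model_RHom (L : DCoh.D X) (a : ℤ) [L.IsGE a] :
    ∃ (P J : CochainComplex X.Modules ℤ) (r : P ⟶ K), QuasiIso r ∧ J.IsKInjective ∧ InjTerms J ∧
      J.IsStrictlyGE a ∧ Nonempty (DerivedCategory.Q.obj J ≅ L) ∧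
      Nonempty (DerivedCategory.Q.obj ((Hc P).obj J) ≅ (DCoh.RSheafHom K).obj L) := by
  obtain ⟨M, hM, ⟨e⟩⟩ := L.exists_iso_Q_obj_of_isGE a
  haveI := hM
  obtain ⟨J, i, hi, hJ, hJge⟩ := CochainComplex.Plus.modelCategoryQuillen.exists_quasiIso_injective M a
  haveI := hi
  haveI : J.IsKInjective := SpecSeq.AcyclicComplex.isKInjective_of_isStrictlyGE J a hJ
  let eJ : DerivedCategory.Q.obj J ≅ L := (asIso (DerivedCategory.Q.map i)).symm ≪≫ e.symm
  haveI := KFlat.quasiIso_aug K
  obtain ⟨θ⟩ := DualCompare.nonempty_RSheafHom_iso (K := K) (KFlat.isKFlat_res K)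
    ((KFlat.aug X).app K) (J := J) hJ
  exact ⟨_, J, (KFlat.aug X).app K, inferInstance, inferInstance, hJ, hJge, ⟨eJ⟩,
    ⟨θ ≪≫ (DCoh.RSheafHom K).mapIso eJ⟩⟩

/-- Cohomology of `RHom(K, L)` in low degrees is of the class near every point. -/
theorem exists_cls (L : DCoh.D X) (a : ℤ) [L.IsGE a] {m : ℤ} {x : X}
    (hK : PCAt m (DerivedCategory.Q.obj K) x) :
    ∃ V : X.Opens, x ∈ V ∧ ∀ Φ : Cls X, (∀ n, Φ.P V (DCoh.HD L n)) →
      ∀ n, n + m < a → Φ.P V (DCoh.HD ((DCoh.RSheafHom K).obj L) n) := by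
  obtain ⟨P, J, r, hr, hJ, hJt, hJge, ⟨eJ⟩, ⟨θ⟩⟩ := exists_model_RHom K L a
  haveI := hr
  haveI := hJ
  haveI := hJge
  obtain ⟨V, hxV, h⟩ := exists_of_pcAt hJt a
    (hK.of_iso (asIso (DerivedCategory.Q.map r)).symm)
  let H := DerivedCategory.homologyFunctor X.Modules
  let F := DerivedCategory.homologyFunctorFactors X.Modules
  let R := Scheme.Modules.restrictFunctor V.ι
  exact ⟨V, hxV, fun Φ hΦ n hn => Φ.of_iso (R.mapIso (((F n).app _).symm ≪≫ (H n).mapIso θ))
    (h Φ (fun k => Φ.of_iso (R.mapIso ((H k).mapIso eJ.symm ≪≫ (F k).app J)) (hΦ k)) n hn)⟩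

/-- Quasi-coherence of `RHom` in low degrees. -/
theorem isQCoh_HD (L : DCoh.D X) (hL : DCoh.IsQCohD L) (a m : ℤ) [L.IsGE a]
    (hK : DCoh.IsPseudoCoherentD m (DCoh.toD X K)) (n : ℤ) (hn : n + m < a) :
    (DCoh.HD ((DCoh.RSheafHom K).obj L) n).IsQuasicoherent :=
  Perfect.QCohD.isQCoh_of_cover fun x => by
    obtain ⟨V, hxV, h⟩ := exists_cls K L a ((iff_forall m _).1 hK x)
    exact ⟨V, V.ι, inferInstance, ⟨x, hxV⟩, rfl, h (qcCls X) (fun k =>
      haveI : (DCoh.HD L k).IsQuasicoherent := hL k
      inferInstanceAs (((DCoh.HD L k).restrict V.ι).IsQuasicoherent)) n hn⟩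

/-- Coherence of `RHom`. -/
theorem isCoh_HD [IsLocallyNoetherian X] (L : DCoh.D X) (hL : DCoh.IsCohD L) (a m : ℤ) [L.IsGE a]
    (hK : DCoh.IsPseudoCoherentD m (DCoh.toD X K)) (n : ℤ) (hn : n + m < a) :
    Coh.IsCoh (DCoh.HD ((DCoh.RSheafHom K).obj L) n) :=
  Perfect.Coherent.isCoh_of_cover fun x => by
    obtain ⟨V, hxV, h⟩ := exists_cls K L a ((iff_forall m _).1 hK x)
    exact ⟨V, V.ι, inferInstance, ⟨x, hxV⟩, rfl,
      h (cohCls X) (fun k => RefHull.LocFree.isCoh_restrict (hL k) V) n hn⟩

/-- `RHom` out of an object `≤ b` into one `≥ a` is `≥ a - b`. -/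
theorem isGE_RHom (L : DCoh.D X) (a b : ℤ) [L.IsGE a] [(DCoh.toD X K).IsLE b] :
    ((DCoh.RSheafHom K).obj L).IsGE (a - b) := by
  obtain ⟨P, J, r, hr, hJ, hJt, hJge, -, ⟨θ⟩⟩ := exists_model_RHom K L a
  haveI := hr
  haveI := hJ
  haveI := hJge
  haveI : (DerivedCategory.Q.obj P).IsLE b := (DerivedCategory.isLE_iff _ _).2 fun i hi =>
    (DerivedCategory.isZero_of_isLE (DCoh.toD X K) b i hi).of_iso
      ((DerivedCategory.homologyFunctor X.Modules i).mapIso (asIso (DerivedCategory.Q.map r)))
  haveI : P.IsLE b := (DerivedCategory.isLE_Q_obj_iff P b).1 inferInstance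
  haveI : QuasiIso (P.ιTruncLE b) := (P.quasiIso_ιTruncLE_iff b).2 inferInstance
  have hq := qisAt_pre (V := ⊤) hJt (P.ιTruncLE b) (QisAt.of_quasiIso _)
  haveI : QuasiIso ((pre (P.ιTruncLE b)).app J) :=
    (Qis.quasiIso_iff_forall_stalk _).2 fun x => hq x trivial
  exact (DerivedCategory.isGE_iff _ _).2 fun i hi =>
    ((isZero_homology_Hc (P.truncLE b) b a i (by omega)).of_iso
      (isoOfQuasiIsoAt ((pre (P.ιTruncLE b)).app J) i)).of_iso
      (((DerivedCategory.homologyFunctor X.Modules i).mapIso θ).symm ≪≫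
        (DerivedCategory.homologyFunctorFactors X.Modules i).app _)

end RHom

end Groth.Agent.Lib.SchColim29.RHomLocal
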