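import Groth.Agent.H47.NoethModule
import Groth.Agent.H2.Rigid.SubDiagram
import Groth.Agent.Lib.Lim.Valuative
import Groth.Agent.Lib.ZarCoh.ProperOver
import Groth.Agent.Lib.Modules.SupportOps
import Groth.Agent.Lib.Flat55.FlatOverAt

/-!
# Noetherian models of flat finitely presented modules with proper support
-/

set_option autoImplicit false
set_option backward.isDefEq.respectTransparency false
set_option linter.style.haveILetI false

universe u

open CategoryTheory CategoryTheory.Limits AlgebraicGeometry Opposite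
open Groth.Agent Groth.Agent.Lib

namespace Groth.Agent.Lib.SchColim29.ProperSupportModel

/-- A finitely presented module, flat and with proper support over an affine base, comes from a
coherent module with the same properties over a Noetherian base. -/
theorem exists_model {A : CommRingCat.{u}} {X : Scheme.{u}} (f : X ⟶ Spec A)
    [LocallyOfFinitePresentation f] [QuasiCompact f] [QuasiSeparated f]
    (F : X.Modules) [F.IsQuasicoherent] (hF : CohB1.IsFP F) (hflat : FlatMod.IsFlatOver f F)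
    (hsupp : ClSub.IsProperOver f (CohB1.support F)) :
    ∃ (A₀ : CommRingCat.{u}) (_ : IsNoetherianRing A₀) (b : Spec A ⟶ Spec A₀) (X₀ : Scheme.{u})
      (f₀ : X₀ ⟶ Spec A₀) (q : X ⟶ X₀) (F₀ : X₀.Modules),
      LocallyOfFiniteType f₀ ∧ QuasiCompact f₀ ∧ IsPullback q f f₀ b ∧ Coh.IsCoh F₀ ∧
      FlatMod.IsFlatOver f₀ F₀ ∧ ClSub.IsProperOver f₀ (CohB1.support F₀) ∧
      Nonempty ((Scheme.Modules.pullback q).obj F₀ ≅ F) := by
  let D := H2.Rigid.SubDiagram.diagram A
  let c := H2.Rigid.SubDiagram.cone A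
  have hc : IsLimit c := H2.Rigid.SubDiagram.isLimitCone A
  haveI : ∀ i, IsAffine (D.obj i) := fun i => inferInstance
  haveI : ∀ (i j : (Finset A)ᵒᵖ) (g : i ⟶ j), IsAffineHom (D.map g) := fun i j g => inferInstance
  haveI : CompactSpace X := QuasiCompact.compactSpace_of_compactSpace f
  haveI : QuasiSeparatedSpace X := quasiSeparatedSpace_of_quasiSeparated f
  haveI : LocallyOfFiniteType f := inferInstance
  obtain ⟨-, hmodel⟩ := H47.NoethModule.exists_flat_model (D := D) (c := c) hc f F hF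
  obtain ⟨i, X₁, f₁, _, _, F₁, hF₁, q₁, hsq₁, e₁, hflat₁⟩ := hmodel hflat
  haveI := hF₁.1
  haveI := hF₁.2
  haveI : IsLocallyNoetherian X₁ := LocallyOfFiniteType.isLocallyNoetherian f₁
  haveI : CompactSpace X₁ := QuasiCompact.compactSpace_of_compactSpace f₁
  let S₁ : Set X₁ := CohB1.support F₁
  have hS₁ : IsClosed S₁ := Modules.Support.isClosed_support F₁
  let ι₁ := (ZarCoh.ProperOver.red ⟨S₁, hS₁⟩).subschemeι
  let i' := pullback.fst q₁ ι₁
  have hr : Set.range ⇑i' = CohB1.support F := by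
    rw [← Modules.Support.support_congr e₁, Modules.SupportOps.support_pullback q₁ F₁,
      Scheme.Pullback.range_fst, ZarCoh.ProperOver.range_red]
    rfl
  have hp : IsProper (i' ≫ f) := (ZarCoh.ProperOver.isProper_comp_iff f i' hr).2 hsupp
  have hZ : IsPullback (pullback.snd q₁ ι₁) (i' ≫ f) (ι₁ ≫ f₁) (c.π.app i) :=
    ((IsPullback.of_hasPullback q₁ ι₁).flip.paste_vert hsq₁)
  haveI : CompactSpace (ZarCoh.ProperOver.red ⟨S₁, hS₁⟩).subscheme :=
    QuasiCompact.compactSpace_of_compactSpace ι₁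
  haveI : QuasiSeparatedSpace (ZarCoh.ProperOver.red ⟨S₁, hS₁⟩).subscheme :=
    quasiSeparatedSpace_of_quasiSeparated ι₁
  obtain ⟨j, φ, hj⟩ := Lim.Valuative.isProper_descends D c hc (fun _ _ g => inferInstance) i
    inferInstance inferInstance (ι₁ ≫ f₁) inferInstance inferInstance inferInstance (i' ≫ f)
    (pullback.snd q₁ ι₁) hZ hp
  let X₂ := pullback f₁ (D.map φ)
  let f₂ : X₂ ⟶ D.obj j := pullback.snd f₁ (D.map φ)
  let p : X₂ ⟶ X₁ := pullback.fst f₁ (D.map φ)
  have sq₂ : IsPullback p f₂ f₁ (D.map φ) := IsPullback.of_hasPullback f₁ (D.map φ)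
  haveI : LocallyOfFiniteType f₂ := MorphismProperty.of_isPullback sq₂ inferInstance
  haveI : QuasiCompact f₂ := MorphismProperty.of_isPullback sq₂ inferInstance
  let q₂ : X ⟶ X₂ := sq₂.lift q₁ (f ≫ c.π.app j) (by rw [Category.assoc, c.w, hsq₁.w])
  have hq : IsPullback q₂ f f₂ (c.π.app j) := by
    refine IsPullback.of_right ?_ (sq₂.lift_snd _ _ _) sq₂
    rw [sq₂.lift_fst, c.w]
    exact hsq₁
  let A₀ : CommRingCat.{u} := (H2.Rigid.SubDiagram.ringDiagram A).obj j.unop
  have hA₀ : IsNoetherianRing A₀ :=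
    (isLocallyNoetherian_Spec (R := A₀)).1 (H2.Rigid.SubDiagram.isLocallyNoetherian_obj A j)
  haveI : IsLocallyNoetherian X₂ := LocallyOfFiniteType.isLocallyNoetherian f₂
  have hcoh : Coh.IsCoh ((Scheme.Modules.pullback p).obj F₁) := Cyc.FP.Stalk.isCoh_pullback p hF₁
  haveI := hcoh.2
  refine ⟨A₀, hA₀, c.π.app j, X₂, f₂, q₂, (Scheme.Modules.pullback p).obj F₁, ‹_›, ‹_›, hq,
    hcoh, fun x => Flat55.FlatOverAt.isFlatOverAt_baseChange f₁ f₂ p (D.map φ) sq₂ F₁ x (hflat₁ _),
    ?_, ⟨(Scheme.Modules.pullbackComp q₂ p).app F₁ ≪≫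
      (Scheme.Modules.pullbackCongr (sq₂.lift_fst _ _ _)).app F₁ ≪≫ e₁⟩⟩
  let i₂ := pullback.fst p ι₁
  have hr₂ : Set.range ⇑i₂ = CohB1.support ((Scheme.Modules.pullback p).obj F₁) := by
    rw [Modules.SupportOps.support_pullback p F₁, Scheme.Pullback.range_fst,
      ZarCoh.ProperOver.range_red]
    rfl
  refine (ZarCoh.ProperOver.isProper_comp_iff f₂ i₂ hr₂).1 ?_
  exact Lim.Descend.prop_of_factor (P := @IsProper) hj (𝟙 _) (Category.id_comp _)
    ((IsPullback.of_hasPullback p ι₁).flip.paste_vert sq₂)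

end Groth.Agent.Lib.SchColim29.ProperSupportModel
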