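import Groth.Agent.Lib.SchColim29.Coprod
import Groth.Agent.Lib.SchColim29.RpushBounded
import Groth.Agent.Lib.DerivedOX.TensorCoprod
import Mathlib.Algebra.Homology.HomologicalComplexLimits

/-!
# `Rf_*` commutes with direct sums of uniformly bounded below objects
-/

set_option autoImplicit false
set_option linter.unusedSectionVars false
set_option linter.style.haveILetI false

universe u

open CategoryTheory Limits AlgebraicGeometry DerivedCategory

attribute [local instance] HasDerivedCategory.standard

namespace Groth.Agent.Lib.SchColim29.RpushCoprod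

open Groth.Agent.Lib.DerivedOX
open Groth.Agent.Lib.SpecSeq.RightHom Groth.Agent.Lib.SpecSeq.AcyclicComplex
open Groth.Agent.Lib.WayOut.Scheme

variable {X S : Scheme.{u}} (f : X ⟶ S)

/-- Direct images of complexes. -/
noncomputable abbrev pushC : CochainComplex X.Modules ℤ ⥤ CochainComplex S.Modules ℤ :=
  (Scheme.Modules.pushforward f).mapHomologicalComplex (ComplexShape.up ℤ)

lemma preservesColimit_pushC [QuasiCompact f] [QuasiSeparated f] {ι : Type u}
    (B : ι → CochainComplex X.Modules ℤ) : PreservesColimit (Discrete.functor B) (pushC f) := by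
  refine preservesColimit_of_preserves_colimit_cocone (colimit.isColimit _)
    (HomologicalComplex.isColimitOfEval _ _ fun n => ?_)
  let E := HomologicalComplex.eval X.Modules (ComplexShape.up ℤ) n
  haveI : PreservesColimit (Discrete.functor B ⋙ E) (Scheme.Modules.pushforward f) := by
    haveI := Coprod.preservesColimit_pushforward f (fun i => (B i).X n)
    exact preservesColimit_of_iso_diagram _
      (Discrete.natIso fun _ => Iso.refl _ : Discrete.functor (fun i => (B i).X n) ≅ Discrete.functor B ⋙ E)
  exact isColimitOfPreserves (Scheme.Modules.pushforward f)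
    (isColimitOfPreserves E (colimit.isColimit (Discrete.functor B)))

variable [DCoh.HasRpush f]

/-- The comparison `Q (f_* F) ⟶ Rf_* (Q F)`. -/
noncomputable def cmpPush : pushC f ⋙ Q ⟶ Q ⋙ DCoh.Rpush f :=
  Functor.whiskerLeft (pushC f) (quotientCompQhIso S.Modules).inv ≫
    (Functor.associator _ _ _).inv ≫
    Functor.whiskerRight ((Scheme.Modules.pushforward f).mapHomotopyCategoryFactors
      (ComplexShape.up ℤ)).inv DerivedCategory.Qh ≫
    (Functor.associator _ _ _).hom ≫
    Functor.whiskerLeft (HomotopyCategory.quotient X.Modules (ComplexShape.up ℤ))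
      ((DCoh.pushKh f).totalRightDerivedUnit DerivedCategory.Qh
        (HomotopyCategory.quasiIso X.Modules (ComplexShape.up ℤ))) ≫
    (Functor.associator _ _ _).inv ≫
    Functor.whiskerRight (quotientCompQhIso X.Modules).hom (DCoh.Rpush f)

lemma isIso_cmpPush_app (F : CochainComplex X.Modules ℤ) (a : ℤ) [F.IsStrictlyGE a]
    (hac : ∀ (n : ℤ) (W : S.Opens), IsAffineOpen W → Acyc (sect (f ⁻¹ᵁ W)) (F.X n)) :
    IsIso ((cmpPush f).app F) := by
  have := RpushBounded.isIso_unit_of_acyclic f F a hac
  have h : IsIso ((Functor.whiskerLeft (HomotopyCategory.quotient X.Modules (ComplexShape.up ℤ))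
      ((DCoh.pushKh f).totalRightDerivedUnit DerivedCategory.Qh
        (HomotopyCategory.quasiIso X.Modules (ComplexShape.up ℤ)))).app F) := this
  simp only [cmpPush, NatTrans.comp_app]
  infer_instance

theorem preservesColimit_Rpush [QuasiCompact f] [QuasiSeparated f] {ι : Type u} (K : ι → DCoh.D X)
    (n : ℤ) (hK : ∀ i, (K i).IsGE n) : PreservesColimit (Discrete.functor K) (DCoh.Rpush f) := by
  have h : ∀ i, ∃ L : CochainComplex X.Modules ℤ,
      L.IsStrictlyGE n ∧ (∀ k, Injective (L.X k)) ∧ Nonempty (Q.obj L ≅ K i) := fun i => by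
    haveI := hK i
    obtain ⟨M, hM, ⟨e⟩⟩ := (K i).exists_iso_Q_obj_of_isGE n
    haveI := hM
    obtain ⟨L, j, hj, hL, hLge⟩ :=
      CochainComplex.Plus.modelCategoryQuillen.exists_quasiIso_injective M n
    haveI := hj
    haveI : IsIso (Q.map j) := (isIso_Q_map_iff_quasiIso _ j).2 inferInstance
    exact ⟨L, inferInstance, hL, ⟨(asIso (Q.map j)).symm ≪≫ e.symm⟩⟩
  choose B hB hinj hBiso using h
  haveI := hB
  let E := fun k => HomologicalComplex.eval X.Modules (ComplexShape.up ℤ) k
  let eX : ∀ k, (∐ fun i => (B i).X k) ≅ (∐ B).X k := fun k =>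
    haveI : PreservesColimit (Discrete.functor B) (E k) := inferInstance
    (colimit.isColimit _).coconePointUniqueUpToIso
      (IsColimit.ofIsoColimit ((IsColimit.precomposeHomEquiv
        (Discrete.natIso fun _ => Iso.refl _ : Discrete.functor (fun i => (B i).X k) ≅ Discrete.functor B ⋙ E k) _).symm
          (isColimitOfPreserves (E k) (colimit.isColimit (Discrete.functor B)))) (Iso.refl _))
  haveI : (∐ B).IsStrictlyGE n := by
    rw [CochainComplex.isStrictlyGE_iff]
    intro k hk
    refine IsZero.of_iso ?_ (eX k).symm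
    refine (IsZero.iff_id_eq_zero _).2 (Sigma.hom_ext _ _ fun i => ?_)
    exact (CochainComplex.isZero_of_isStrictlyGE (B i) n k hk).eq_of_src _ _
  have hB' : ∀ i, IsIso ((cmpPush f).app (B i)) := fun i =>
    isIso_cmpPush_app f (B i) n fun k W hW => haveI := hinj i k; acyc_injective _ _
  have hS : IsIso ((cmpPush f).app (∐ B)) :=
    isIso_cmpPush_app f (∐ B) n fun k W hW => acyc_of_iso _ (eX k)
      (Coprod.acyc_coproduct (fun i => (B i).X k) (fun i => hinj i k) _
        (f.isCompact_preimage hW.isCompact) (f.isQuasiSeparated_preimage hW.isQuasiSeparated))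
  haveI := TensorCoprod.preservesColimit_Q B
  haveI := preservesColimit_pushC f B
  haveI : PreservesColimit (Discrete.functor B ⋙ pushC f) (Q (C := S.Modules)) := by
    haveI := TensorCoprod.preservesColimit_Q (fun i => (pushC f).obj (B i))
    exact preservesColimit_of_iso_diagram _
      (Discrete.natIso fun _ => Iso.refl _ :
        Discrete.functor (fun i => (pushC f).obj (B i)) ≅ Discrete.functor B ⋙ pushC f)
  haveI : PreservesColimit (Discrete.functor B ⋙ Q) (DCoh.Rpush f) := by
    refine preservesColimit_of_preserves_colimit_cocone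
      (isColimitOfPreserves Q (colimit.isColimit (Discrete.functor B))) ?_
    haveI : ∀ j, IsIso ((Functor.whiskerLeft (Discrete.functor B) (cmpPush f)).app j) := fun j => hB' j.as
    let η : Discrete.functor B ⋙ pushC f ⋙ Q ≅ Discrete.functor B ⋙ Q ⋙ DCoh.Rpush f :=
      @asIso _ _ _ _ (Functor.whiskerLeft (Discrete.functor B) (cmpPush f)) (NatIso.isIso_of_isIso_app _)
    exact IsColimit.equivOfNatIsoOfIso η ((pushC f ⋙ Q).mapCocone (colimit.cocone (Discrete.functor B)))
      ((Q ⋙ DCoh.Rpush f).mapCocone (colimit.cocone (Discrete.functor B)))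
      (Cocone.ext (@asIso _ _ _ _ _ hS) fun j => by
        refine (Category.assoc _ _ _).trans
          ((congrArg (η.inv.app j ≫ ·) ((cmpPush f).naturality _)).trans ?_)
        exact η.inv_hom_id_app_assoc j _) (isColimitOfPreserves (pushC f ⋙ Q) (colimit.isColimit _))
  exact preservesColimit_of_iso_diagram _ (K₁ := Discrete.functor B ⋙ Q)
    (Discrete.natIso fun j => (hBiso j.as).some)

end Groth.Agent.Lib.SchColim29.RpushCoprod
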