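import Groth.Agent.Lib.CechRes.Res
import Groth.Agent.Lib.DerivedOX.Calculus
import Groth.Agent.Lib.DerivedOX.Amplitude
import Groth.Agent.Lib.Modules.AffineSections
import Groth.Agent.Lib.BettiExact.Local
import Groth.Agent.Lib.QCoh.Closure
import Groth.Agent.Lib.QCoh.Pullback
import Groth.Agent.Lib.FlatCx.Ker

/-!
# Quasi-coherent modules on separated schemes are quotients of flat quasi-coherent ones
-/

set_option autoImplicit false
set_option linter.style.haveILetI false
set_option linter.unusedSectionVars false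

universe u

open CategoryTheory Limits AlgebraicGeometry Opposite TopologicalSpace

attribute [local instance] HasDerivedCategory.standard

namespace Groth.Agent.Lib.SchColim29.QCohFlat

open Groth.Agent.Lib Groth.Agent.Lib.Modules Groth.Agent.Lib.CechRes

variable {X : Scheme.{u}}

/-- Flat sections at a neighbourhood give flatness at a point. -/
theorem isFlatAt_of_sections {M : X.Modules} [M.IsQuasicoherent] {W : X.Opens} (hW : IsAffineOpen W)
    {x : X} (hx : x ∈ W) [Module.Flat Γ(X, W) Γ(M, W)] : FlatMod.IsFlatAt M x := by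
  letI := StalkLoc.Basic.moduleSections M hx
  letI := TopCat.Presheaf.algebra_section_stalk X.presheaf (⟨x, hx⟩ : W)
  haveI := StalkLoc.Basic.isScalarTower_sections M hx
  haveI := hW.isLocalization_stalk ⟨x, hx⟩
  haveI := StalkLoc.Basic.isLocalizedModule_germ (M := M) hW hx
  exact Module.Flat.isBaseChange Γ(X, W) (X.presheaf.stalk x) Γ(M, W) (M.presheaf.stalk x)
    (IsLocalizedModule.isBaseChange (hW.primeIdealOf ⟨x, hx⟩).asIdeal.primeCompl _
      (StalkLoc.Basic.germₗ M hx))

/-- Flatness at the points of an affine open gives flat sections. -/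
theorem flat_sections {M : X.Modules} [M.IsQuasicoherent] {U : X.Opens} (hU : IsAffineOpen U)
    (hM : ∀ x ∈ U, FlatMod.IsFlatAt M x) : Module.Flat Γ(X, U) Γ(M, U) := by
  let pt : PrimeSpectrum Γ(X, U) → U := fun p => ⟨hU.fromSpec p, hU.opensRange_fromSpec.le ⟨p, rfl⟩⟩
  have hpt : ∀ p, hU.primeIdealOf (pt p) = p := fun p =>
    hU.fromSpec.isOpenEmbedding.injective (hU.fromSpec_primeIdealOf (pt p))
  refine Module.flat_of_localized_maximal (R := Γ(X, U)) (M := Γ(M, U)) (fun P hP => ?_)
  let y := pt ⟨P, hP.isPrime⟩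
  letI := StalkLoc.Basic.moduleSections M y.2
  letI := TopCat.Presheaf.algebra_section_stalk X.presheaf y
  haveI := StalkLoc.Basic.isScalarTower_sections M y.2
  haveI := hU.isLocalization_stalk y
  haveI := StalkLoc.Basic.isLocalizedModule_germ (M := M) hU y.2
  haveI : Module.Flat (X.presheaf.stalk y.1) (M.presheaf.stalk y.1) := hM y.1 y.2
  haveI : Module.Flat Γ(X, U) (X.presheaf.stalk y.1) :=
    IsLocalization.flat _ (hU.primeIdealOf y).asIdeal.primeCompl
  haveI : Module.Flat Γ(X, U) (M.presheaf.stalk y.1) := Module.Flat.trans _ (X.presheaf.stalk y.1) _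
  have he : (hU.primeIdealOf y).asIdeal = P := by rw [hpt]
  suffices h : Module.Flat Γ(X, U) (LocalizedModule (hU.primeIdealOf y).asIdeal.primeCompl Γ(M, U)) by
    convert h using 4 <;> exact he.symm
  exact Module.Flat.of_linearEquiv
    (IsLocalizedModule.iso (hU.primeIdealOf y).asIdeal.primeCompl (StalkLoc.Basic.germₗ M y.2))

/-- Flatness at a point through a stalk isomorphism. -/
theorem isFlatAt_of_bijective {M N : X.Modules} (φ : M ⟶ N) {x : X}
    (hφ : Function.Bijective (StalkModule.stalkMapₗ φ x)) (hN : FlatMod.IsFlatAt N x) :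
    FlatMod.IsFlatAt M x :=
  haveI : Module.Flat (X.presheaf.stalk x) (N.presheaf.stalk x) := hN
  Module.Flat.of_linearEquiv (LinearEquiv.ofBijective (StalkModule.stalkMapₗ φ x) hφ)

/-- The direct image from an affine open of a module flat on an affine open is flat there. -/
theorem isFlatAt_push {V W : X.Opens} (hV : IsAffineOpen V) (hW : IsAffineOpen W)
    (hWV : IsAffineOpen (V.ι ⁻¹ᵁ W)) (hι : IsAffineHom V.ι)
    {K : (V : Scheme.{u}).Modules} [K.IsQuasicoherent] (hK : ∀ y : (V : Scheme.{u}), V.ι y ∈ W → FlatMod.IsFlatAt K y)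
    {x : X} (hx : x ∈ W) : FlatMod.IsFlatAt ((Scheme.Modules.pushforward V.ι).obj K) x := by
  haveI := hι
  haveI : ((Scheme.Modules.pushforward V.ι).obj K).IsQuasicoherent :=
    QCoh.Pushforward.isQCoh_pushforward V.ι (M := K)
  haveI h1 : Module.Flat Γ((V : Scheme.{u}), V.ι ⁻¹ᵁ W) Γ(K, V.ι ⁻¹ᵁ W) :=
    flat_sections hWV fun y hy => hK y hy
  let φ : Γ(X, W) →+* Γ((V : Scheme.{u}), V.ι ⁻¹ᵁ W) := (V.ι.app W).hom
  have hφ : φ.Flat := by
    have := HasRingHomProperty.appLE (P := @Flat) V.ι inferInstance ⟨W, hW⟩ ⟨V.ι ⁻¹ᵁ W, hWV⟩ le_rfl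
    rwa [Scheme.Hom.appLE_eq_app] at this
  letI : Algebra Γ(X, W) Γ((V : Scheme.{u}), V.ι ⁻¹ᵁ W) := φ.toAlgebra
  letI : Module Γ(X, W) Γ(K, V.ι ⁻¹ᵁ W) := Module.compHom _ φ
  haveI : IsScalarTower Γ(X, W) Γ((V : Scheme.{u}), V.ι ⁻¹ᵁ W) Γ(K, V.ι ⁻¹ᵁ W) :=
    IsScalarTower.of_algebraMap_smul fun _ _ => rfl
  haveI : Module.Flat Γ(X, W) Γ((V : Scheme.{u}), V.ι ⁻¹ᵁ W) := hφ
  haveI h2 : Module.Flat Γ(X, W) Γ(K, V.ι ⁻¹ᵁ W) :=
    Module.Flat.trans Γ(X, W) Γ((V : Scheme.{u}), V.ι ⁻¹ᵁ W) Γ(K, V.ι ⁻¹ᵁ W)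
  haveI : Module.Flat Γ(X, W) Γ((Scheme.Modules.pushforward V.ι).obj K, W) := h2
  exact isFlatAt_of_sections hW hx

lemma exists_free_cover (R : CommRingCat.{u}) (Q : ModuleCat.{u} R) :
    ∃ (P : ModuleCat.{u} R) (p : P ⟶ Q), Module.Flat R P ∧ Epi p :=
  ⟨ModuleCat.of R (↑Q →₀ R), ModuleCat.ofHom (Finsupp.linearCombination R (id : ↑Q → ↑Q)),
    inferInstanceAs (Module.Flat R (↑Q →₀ R)),
    (ModuleCat.epi_iff_surjective _).2 fun q => ⟨Finsupp.single q 1, by simp⟩⟩

/-- On an affine scheme, quasi-coherent modules are quotients of flat quasi-coherent ones. -/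
theorem exists_cover_affine {V : Scheme.{u}} [IsAffine V] (N : V.Modules) [N.IsQuasicoherent] :
    ∃ (F : V.Modules) (h : F ⟶ N), F.IsQuasicoherent ∧ FlatMod.IsFlat F ∧ Epi h := by
  let R := Γ(V, ⊤)
  let e := V.isoSpec
  let N' : (Spec R).Modules := (Scheme.Modules.pullback e.inv).obj N
  haveI : N'.IsQuasicoherent := QCoh.Pullback.isQCoh_pullback e.inv N
  let Q := (moduleSpecΓFunctor (R := R)).obj N'
  haveI : IsIso N'.fromTildeΓ := inferInstance
  obtain ⟨P, p, hP, hp⟩ := exists_free_cover R Q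
  haveI := hp; haveI := hP
  haveI hN' : Epi N'.fromTildeΓ := IsIso.epi_of_iso _
  haveI : (tilde.functor R).IsLeftAdjoint := (tilde.adjunction (R := R)).isLeftAdjoint
  haveI : Epi ((tilde.functor R).map p) := (tilde.functor R).map_epi p
  haveI : (Scheme.Modules.pullback e.hom).IsLeftAdjoint :=
    (Scheme.Modules.pullbackPushforwardAdjunction e.hom).isLeftAdjoint
  let h₀ : (tilde.functor R).obj P ⟶ N' := (tilde.functor R).map p ≫ N'.fromTildeΓ
  haveI : Epi h₀ := epi_comp' inferInstance hN'
  haveI : Epi ((Scheme.Modules.pullback e.hom).map h₀) := (Scheme.Modules.pullback e.hom).map_epi h₀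
  let c : (Scheme.Modules.pullback e.hom).obj N' ≅ N :=
    (Scheme.Modules.pullbackComp e.hom e.inv).app N ≪≫
      (Scheme.Modules.pullbackCongr e.hom_inv_id).app N ≪≫ (Scheme.Modules.pullbackId V).app N
  haveI : ((tilde.functor R).obj P).IsQuasicoherent := inferInstanceAs ((tilde P).IsQuasicoherent)
  exact ⟨_, (Scheme.Modules.pullback e.hom).map h₀ ≫ c.hom,
    QCoh.Pullback.isQCoh_pullback e.hom _,
    DerivedOX.Amplitude.isFlat_pullback e.hom (BettiExact.Local.isFlat_tilde (R := R) P), epi_comp _ _⟩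

/-- Direct images from affine opens preserve epimorphisms of quasi-coherent modules. -/
theorem epi_push {V : X.Opens} (hι : IsAffineHom V.ι) {F N : (V : Scheme.{u}).Modules}
    [F.IsQuasicoherent] [N.IsQuasicoherent] (h : F ⟶ N) [Epi h] :
    Epi ((Scheme.Modules.pushforward V.ι).map h) := by
  haveI := hι
  refine (Modules.Stalk.epi_iff_stalk_surjective _).2 fun x b => ?_
  obtain ⟨U, hxU, t, rfl⟩ := TopCat.Presheaf.exists_germ_eq _ b
  obtain ⟨W, hW, hxW, hWU⟩ := exists_isAffineOpen_mem_and_subset (U := U) (x := x) hxU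
  obtain ⟨s, hs⟩ := QCoh.Closure.sections_surjective_of_epi h (hW.preimage V.ι)
    (((Scheme.Modules.pushforward V.ι).obj N).presheaf.map (homOfLE hWU).op t)
  refine ⟨((Scheme.Modules.pushforward V.ι).obj F).presheaf.germ W x hxW s, ?_⟩
  refine (Modules.Stalk.stalkFunctor_map_germ (M := (Scheme.Modules.pushforward V.ι).obj F) x
    ((Scheme.Modules.pushforward V.ι).map h) (U := W) hxW s).trans ?_
  refine (congrArg _ hs).trans ?_
  exact TopCat.Presheaf.germ_res_apply _ (homOfLE hWU) x hxW t

variable {A : Type u} [CommRing A] (f : X ⟶ Spec (CommRingCat.of A)) [IsSeparated f]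

include f in
/-- Enlarging the flat locus by an affine open. -/
theorem exists_step (M : X.Modules) [M.IsQuasicoherent] (O V : X.Opens) (hV : IsAffineOpen V)
    (hM : ∀ x ∈ O, FlatMod.IsFlatAt M x) :
    ∃ (M' : X.Modules) (π : M' ⟶ M), M'.IsQuasicoherent ∧ Epi π ∧
      ∀ x : X, x ∈ O ∨ x ∈ V → FlatMod.IsFlatAt M' x := by
  haveI : IsAffine (V : Scheme.{u}) := hV
  have hι := Res.isAffineHom_ι f hV
  haveI := hι
  haveI : (M.restrict V.ι).IsQuasicoherent := inferInstance
  obtain ⟨F, h, hF, hFflat, hh⟩ := exists_cover_affine (M.restrict V.ι)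
  haveI := hF; haveI := hh
  let P := Scheme.Modules.pushforward V.ι
  haveI := epi_push hι h
  haveI : (P.obj F).IsQuasicoherent := QCoh.Pushforward.isQCoh_pushforward V.ι (M := F)
  haveI : (P.obj (M.restrict V.ι)).IsQuasicoherent :=
    QCoh.Pushforward.isQCoh_pushforward V.ι (M := M.restrict V.ι)
  let η : M ⟶ P.obj (M.restrict V.ι) := (Res.η V).app M
  let q := pullback.fst η (P.map h)
  let r := pullback.snd η (P.map h)
  have hsq := IsPullback.of_hasPullback η (P.map h)
  haveI hbq : (M ⊞ P.obj F).IsQuasicoherent := QCoh.Closure.isQCoh_biprod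
  haveI hpq : (pullback η (P.map h)).IsQuasicoherent := by
    haveI := QCoh.Closure.isQCoh_kernel (biprod.desc η (-(P.map h)))
    exact (WayOut.Scheme.qc X).prop_of_iso (Abelian.PullbackToBiproductIsKernel.isLimitPullbackToBiproduct η (P.map h)
      |>.conePointUniqueUpToIso (kernelIsKernel _)).symm this
  refine ⟨pullback η (P.map h), q, hpq, inferInstance, fun x hx => ?_⟩
  let St := StalkModule.stalkModFunctor X x
  haveI : PreservesFiniteLimits St := inferInstance
  by_cases hxV : x ∈ V
  · have hη : Function.Bijective (StalkModule.stalkMapₗ η x) := Res.bijective_stalk_η hxV M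
    have hr : Function.Bijective (StalkModule.stalkMapₗ r x) := by
      haveI : IsIso (St.map η) := (ConcreteCategory.isIso_iff_bijective _).2 hη
      have : IsIso (St.map r) := (hsq.map St).isIso_snd_of_isIso
      exact ConcreteCategory.bijective_of_isIso (St.map r)
    refine isFlatAt_of_bijective r hr ?_
    exact isFlatAt_push hV hV (hV.preimage V.ι) hι (fun y _ => hFflat y) hxV
  · have hxO : x ∈ O := hx.resolve_right hxV
    let S : ShortComplex X.Modules := ShortComplex.mk (kernel.ι q) q (kernel.condition q)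
    have hS : S.ShortExact :=
      { exact := ShortComplex.exact_of_f_is_kernel _ (kernelIsKernel q) }
    obtain ⟨hf, hg, hex⟩ := DerivedOX.Calculus.stalk_shortExact hS x
    haveI : Module.Flat (X.presheaf.stalk x) (M.presheaf.stalk x) := hM x hxO
    -- the kernel
    let K' := kernel h
    haveI : K'.IsQuasicoherent := QCoh.Closure.isQCoh_kernel h
    haveI : P.IsRightAdjoint := (Scheme.Modules.pullbackPushforwardAdjunction V.ι).isRightAdjoint
    let eK₀ : kernel q ≅ kernel (P.map h) :=
      { hom := kernel.map q (P.map h) r η hsq.w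
        inv := kernel.lift q (pullback.lift 0 (kernel.ι (P.map h)) (by rw [zero_comp, kernel.condition]))
          (pullback.lift_fst _ _ _)
        hom_inv_id := by
          refine (cancel_mono (kernel.ι q)).1 ?_
          rw [Category.assoc, kernel.lift_ι, Category.id_comp]
          refine pullback.hom_ext ?_ ?_
          · rw [Category.assoc, pullback.lift_fst, comp_zero]
            exact (kernel.condition q).symm
          · rw [Category.assoc, pullback.lift_snd]
            exact kernel.lift_ι _ _ _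
        inv_hom_id := by
          refine (cancel_mono (kernel.ι (P.map h))).1 ?_
          rw [Category.assoc, Category.id_comp]
          refine (congrArg (_ ≫ ·) (kernel.lift_ι _ _ _)).trans ?_
          rw [kernel.lift_ι_assoc]
          exact pullback.lift_snd _ _ _ }
    let eK : kernel q ≅ P.obj K' := eK₀ ≪≫ (PreservesKernel.iso P h).symm
    obtain ⟨W, hW, hxW, hWO⟩ := exists_isAffineOpen_mem_and_subset (U := O) (x := x) hxO
    have hK' : ∀ y : (V : Scheme.{u}), V.ι y ∈ W → FlatMod.IsFlatAt K' y := fun y hy => by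
      let T : ShortComplex (V : Scheme.{u}).Modules := ShortComplex.mk (kernel.ι h) h (kernel.condition h)
      have hT : T.ShortExact :=
        { exact := ShortComplex.exact_of_f_is_kernel _ (kernelIsKernel h) }
      obtain ⟨hf', hg', hex'⟩ := DerivedOX.Calculus.stalk_shortExact hT y
      haveI : Module.Flat ((V : Scheme.{u}).presheaf.stalk y) (F.presheaf.stalk y) := hFflat y
      haveI : Module.Flat ((V : Scheme.{u}).presheaf.stalk y) ((M.restrict V.ι).presheaf.stalk y) :=
        Perfect.FlatPerfect.isFlatAt_restrict V.ι y (hM _ (hWO hy))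
      exact FlatCx.Ker.flat_of_exact _ _ hf' hg' hex'
    haveI : Module.Flat (X.presheaf.stalk x) ((kernel q).presheaf.stalk x) :=
      BettiExact.Local.isFlatAt_of_iso eK.symm (isFlatAt_push hV hW
        (by
          refine (V.ι.isAffineOpen_iff_of_isOpenImmersion).1 ?_
          rw [Res.image_preimage]
          exact Res.isAffineOpen_inf f hW hV) hι hK' hxW)
    exact DerivedOX.Calculus.flat_of_extension _ _ hf hg hex

include f in
/-- Every quasi-coherent module is a quotient of a flat quasi-coherent one. -/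
theorem exists_cover [QuasiCompact f] (M : X.Modules) [M.IsQuasicoherent] :
    ∃ (E : X.Modules) (π : E ⟶ M), E.IsQuasicoherent ∧ FlatMod.IsFlat E ∧ Epi π := by
  haveI : CompactSpace X := QuasiCompact.compactSpace_of_compactSpace f
  obtain ⟨t, ht⟩ := isCompact_univ.elim_finite_subcover (fun W : X.affineOpens => (W.1 : Set X))
    (fun W => W.1.2) (fun x _ => by
      obtain ⟨W, hW, hxW, -⟩ := exists_isAffineOpen_mem_and_subset (U := ⊤) (x := x) trivial
      exact Set.mem_iUnion.2 ⟨⟨W, hW⟩, hxW⟩)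
  classical
  suffices ∀ s : Finset X.affineOpens, ∃ (E : X.Modules) (π : E ⟶ M), E.IsQuasicoherent ∧ Epi π ∧
      ∀ x ∈ (⨆ W ∈ s, (W.1 : X.Opens)), FlatMod.IsFlatAt E x by
    obtain ⟨E, π, hE, hπ, hflat⟩ := this t
    refine ⟨E, π, hE, fun x => hflat x ?_, hπ⟩
    obtain ⟨W, hWt, hxW⟩ := Set.mem_iUnion₂.1 (ht (Set.mem_univ x))
    exact Opens.mem_iSup.2 ⟨W, Opens.mem_iSup.2 ⟨hWt, hxW⟩⟩
  intro s
  induction s using Finset.induction_on with
  | empty => exact ⟨M, 𝟙 M, inferInstance, inferInstance, fun x hx => by simp at hx⟩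
  | insert W s _ ih =>
    obtain ⟨E, π, hE, hπ, hflat⟩ := ih
    haveI := hE
    obtain ⟨E', π', hE', hπ', hflat'⟩ := exists_step f E _ W.1 W.2 hflat
    haveI := hπ; haveI := hπ'
    refine ⟨E', π' ≫ π, hE', epi_comp _ _, fun x hx => hflat' x ?_⟩
    rw [Finset.iSup_insert] at hx
    rcases hx with hx | hx
    · exact Or.inr hx
    · exact Or.inl hx

end Groth.Agent.Lib.SchColim29.QCohFlat
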