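import Groth.Agent.Lib.InjMod.Hull
import Groth.Agent.Lib.ClassResBelow.Basic
import Groth.Agent.Lib.QCoh.Closure
import Groth.Prelude.Def_DCoh2
import Groth.Agent.Lib.DerivedOX.RpushQCoh
import Mathlib.Algebra.Homology.Opposite
import Mathlib.Algebra.Homology.DerivedCategory.TStructure
import Mathlib.CategoryTheory.Abelian.Opposite

/-!
# Bounded objects with quasi-coherent cohomology as complexes of quasi-coherent modules
-/

set_option autoImplicit false
set_option linter.style.haveILetI false

universe u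

open CategoryTheory Limits AlgebraicGeometry Opposite

attribute [local instance] HasDerivedCategory.standard

namespace Groth.Agent.Lib.SchColim29.QCohModel

open Groth.Agent.Lib

variable {X : Scheme.{u}}

/-- Quasi-coherence on the opposite category. -/
def qcOp (X : Scheme.{u}) : ObjectProperty (X.Modules)ᵒᵖ := fun M => M.unop.IsQuasicoherent

instance : (qcOp X).IsClosedUnderIsomorphisms :=
  ⟨fun e h => (SheafOfModules.isQuasicoherent X.ringCatSheaf).prop_of_iso e.unop.symm h⟩

/-- Quasi-coherent injectives on the opposite category. -/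
def injOp (X : Scheme.{u}) : ObjectProperty (X.Modules)ᵒᵖ := fun M =>
  M.unop.IsQuasicoherent ∧ Injective M.unop

instance : (injOp X).IsClosedUnderIsomorphisms :=
  ⟨fun e h => ⟨(SheafOfModules.isQuasicoherent X.ringCatSheaf).prop_of_iso e.unop.symm h.1,
    Injective.of_iso e.unop.symm h.2⟩⟩

variable [IsNoetherian X]

/-- A bounded below complex with quasi-coherent cohomology maps quasi-isomorphically to one with
quasi-coherent injective terms. -/
theorem exists_inj_resolution (M : CochainComplex X.Modules ℤ) (a : ℤ) [M.IsStrictlyGE a]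
    (hM : ∀ i, (M.homology i).IsQuasicoherent) :
    ∃ (J : CochainComplex X.Modules ℤ) (u : M ⟶ J), J.IsStrictlyGE a ∧ QuasiIso u ∧
      ∀ i, (J.X i).IsQuasicoherent := by
  have h1 : ∀ ⦃A A' : (X.Modules)ᵒᵖ⦄ (u : A ⟶ A'), qcOp X A' → Epi u →
      ∃ (B : (X.Modules)ᵒᵖ) (v : B ⟶ A), injOp X B ∧ Epi (v ≫ u) := by
    intro A A' u hA' hu
    haveI : A'.unop.IsQuasicoherent := hA'
    obtain ⟨Q, j, hj, hQ, hQc⟩ := InjMod.exists_qcoh_hull A'.unop
    haveI := hQ
    haveI := hj
    haveI : Mono u.unop := inferInstance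
    refine ⟨op Q, (Injective.factorThru j u.unop).op, ⟨hQc, hQ⟩, ?_⟩
    have : (Injective.factorThru j u.unop).op ≫ u = j.op :=
      Quiver.Hom.unop_inj (by simp)
    rw [this]
    infer_instance
  have h2 : ∀ ⦃A B : (X.Modules)ᵒᵖ⦄ (u : A ⟶ B), qcOp X A → qcOp X B → Epi u → qcOp X (kernel u) := by
    intro A B u hA hB _
    haveI : A.unop.IsQuasicoherent := hA
    haveI : B.unop.IsQuasicoherent := hB
    exact (qcOp X).prop_of_iso (cokernelUnopOp u) (QCoh.Closure.isQCoh_cokernel u.unop :)
  have h3 : ∀ ⦃B B' : (X.Modules)ᵒᵖ⦄, injOp X B → injOp X B' → injOp X (B ⨯ B') := by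
    intro B B' hB hB'
    haveI : B.unop.IsQuasicoherent := hB.1
    haveI : B'.unop.IsQuasicoherent := hB'.1
    haveI := hB.2
    haveI := hB'.2
    let e : op (B.unop ⊞ B'.unop) ≅ B ⨯ B' :=
      { hom := prod.lift biprod.inl.op biprod.inr.op
        inv := (biprod.desc (prod.fst (X := B) (Y := B')).unop prod.snd.unop).op
        hom_inv_id := Quiver.Hom.unop_inj (by
          rw [unop_comp, Quiver.Hom.unop_op, unop_id]
          apply biprod.hom_ext' <;> rw [← Category.assoc] <;> simp only [biprod.inl_desc, biprod.inr_desc,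
            ← unop_comp, Category.comp_id, prod.lift_fst, prod.lift_snd, Quiver.Hom.unop_op])
        inv_hom_id := by
          apply Limits.prod.hom_ext <;> simp [← op_comp] }
    exact (injOp X).prop_of_iso e ⟨QCoh.Closure.isQCoh_biprod, inferInstanceAs (Injective (B.unop ⊞ B'.unop))⟩
  let P : ChainComplex (X.Modules)ᵒᵖ ℤ := HomologicalComplex.op M
  obtain ⟨Q, u, hQ, hQ0, hu⟩ := ClassResBelow.exists_resolution (qcOp X) (injOp X) (fun _ h => h.1)
    h1 h2 h3 (P := P) (fun i => (qcOp X).prop_of_iso (M.homologyOp i).symm (hM i)) a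
    (fun i hi => ((HomologicalComplex.ExactAt.isZero_homology
      (HomologicalComplex.ExactAt.of_isZero (M.isZero_of_isStrictlyGE a i hi))).op).of_iso (M.homologyOp i))
  let J : CochainComplex X.Modules ℤ := HomologicalComplex.unopSymm (c := ComplexShape.up ℤ) Q
  let v : M ⟶ J :=
    { f := fun i => (u.f i).unop
      comm' := fun i j _ => Quiver.Hom.op_inj (u.comm j i).symm }
  refine ⟨J, v, (CochainComplex.isStrictlyGE_iff _ _).2 fun i hi => (hQ0 i hi).unop,
    (HomologicalComplex.quasiIso_opFunctor_map_iff v).1 hu, fun i => ?_⟩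
  by_cases hi : i < a
  · exact DerivedOX.RpushQCoh.qc_of_isZero (hQ0 i hi).unop
  · exact (hQ i (by omega)).1

/-- A bounded object with quasi-coherent cohomology is a bounded complex of quasi-coherent modules. -/
theorem exists_bounded_model (F : DCoh.D X) (hF : DCoh.IsQCohD F) (a b : ℤ) [F.IsGE a] [F.IsLE b] :
    ∃ K : CochainComplex X.Modules ℤ, K.IsStrictlyGE a ∧ K.IsStrictlyLE b ∧
      (∀ i, (K.X i).IsQuasicoherent) ∧ Nonempty (DerivedCategory.Q.obj K ≅ F) := by
  obtain ⟨M, hM, ⟨e⟩⟩ := F.exists_iso_Q_obj_of_isGE a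
  haveI := hM
  obtain ⟨J, v, hJ, hv, hJq⟩ := exists_inj_resolution M a fun i =>
    (SheafOfModules.isQuasicoherent X.ringCatSheaf).prop_of_iso
      ((DerivedCategory.homologyFunctor X.Modules i).mapIso e ≪≫
        (DerivedCategory.homologyFunctorFactors X.Modules i).app M) (hF i)
  haveI := hJ
  haveI := hv
  haveI : J.IsLE b := (DerivedCategory.isLE_Q_obj_iff J b).1
    (DerivedCategory.TStructure.t.isLE_of_iso (e ≪≫ asIso (DerivedCategory.Q.map v)) b)
  haveI : QuasiIso (J.ιTruncLE b) := (J.quasiIso_ιTruncLE_iff b).2 inferInstance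
  refine ⟨J.truncLE b, inferInstance, inferInstance, fun i => ?_,
    ⟨asIso (DerivedCategory.Q.map (J.ιTruncLE b)) ≪≫ (e ≪≫ asIso (DerivedCategory.Q.map v)).symm⟩⟩
  rcases lt_trichotomy i b with h | h | h
  · exact (SheafOfModules.isQuasicoherent X.ringCatSheaf).prop_of_iso (J.truncLEXIso b i h).symm (hJq i)
  · subst h
    haveI := hJq i
    haveI := hJq (i + 1)
    exact (SheafOfModules.isQuasicoherent X.ringCatSheaf).prop_of_iso
      (J.truncLEXIsoCycles i ≪≫ IsLimit.conePointUniqueUpToIso (J.cyclesIsKernel i (i + 1) (by simp))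
        (kernelIsKernel _)).symm (QCoh.Closure.isQCoh_kernel (J.d i (i + 1)))
  · exact DerivedOX.RpushQCoh.qc_of_isZero ((J.truncLE b).isZero_of_isStrictlyLE b i h)

end Groth.Agent.Lib.SchColim29.QCohModel
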