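import Groth.Agent.Lib.DR.FiniteComplex
import Groth.Agent.Lib.PCoh.Resolve
import Groth.Agent.Lib.SchColim29.QCohFlat
import Groth.Agent.Lib.SchColim29.QCohModel
import Groth.Agent.Lib.DerivedOX.FlatResolve
import Mathlib.CategoryTheory.Functor.OfSequence
import Mathlib.CategoryTheory.Limits.Constructions.EventuallyConstant

/-!
# Resolutions by flat quasi-coherent modules

The step and limit construction of `DR.Resolve`, with the cover of the cycles given directly.
-/

set_option autoImplicit false
set_option linter.style.haveILetI false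
set_option linter.unusedSectionVars false

universe w v u

open CategoryTheory CategoryTheory.Limits CochainComplex AlgebraicGeometry
open Groth.Agent.Lib.PCoh.Cone Groth.Agent.Lib.PCoh.Ext Groth.Agent.Lib.DR.FiniteComplex
open Groth.Agent.Lib.PCoh.Resolve (toCone_ofHom)
open scoped ZeroObject

attribute [local instance] HasDerivedCategory.standard

namespace Groth.Agent.Lib.SchColim29.QCohResolve

section Abstract

variable {C : Type u} [Category.{v} C] [Abelian C] {E F : CochainComplex C ℤ}

/-- One step: kill `H^n` of the cone. -/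
lemma step (n : ℤ) (u : E ⟶ F) (h : ExactGE u (n + 1)) {L : C} (v₀ : L ⟶ (mappingCone u).cycles n)
    (hv₀ : Epi (v₀ ≫ (mappingCone u).homologyπ n)) :
    ∃ (E' : CochainComplex C ℤ) (v : E ⟶ E') (u' : E' ⟶ F) (_ : E'.X n ≅ E.X n ⊞ L),
      v ≫ u' = u ∧ (∀ i, i ≠ n → IsIso (v.f i)) ∧ ExactGE u' n := by
  let c : L ⟶ (mappingCone u).X n := v₀ ≫ (mappingCone u).iCycles n
  have hc : ∀ j, c ≫ (mappingCone u).d n j = 0 := fun j => by simp [c]
  let x : (HomologicalComplex.single C (ComplexShape.up ℤ) n).obj L ⟶ mappingCone u :=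
    HomologicalComplex.mkHomFromSingle c (fun i _ => hc i)
  let X := ExtData.ofHom x
  have hz : ∀ i, i ≠ n → IsZero (((HomologicalComplex.single C (ComplexShape.up ℤ) n).obj L).X i) :=
    fun i hi => HomologicalComplex.isZero_single_obj_X _ _ _ _ hi
  let eL := HomologicalComplex.singleObjXSelf (ComplexShape.up ℤ) n L
  refine ⟨X.cx, X.incl, X.desc, biprod.mapIso (Iso.refl _) eL, X.incl_desc,
    fun i hi => X.isIso_incl_f i (hz i hi), ?_⟩
  intro i hi
  rcases hi.lt_or_eq with hi | rfl
  · exact X.exactAt_desc_of_isZero i (hz _ (by omega)) (h i (by omega))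
  · have hm : Mono (HomologicalComplex.homologyMap X.toCone (n + 1)) :=
      ⟨fun _ _ _ => ((HomologicalComplex.ExactAt.of_isZero (hz (n + 1) (by omega))).isZero_homology).eq_of_tgt _ _⟩
    refine X.exactAt_desc (n - 1) n (by omega) ?_ hm
    rw [toCone_ofHom]
    let Q := (HomologicalComplex.single C (ComplexShape.up ℤ) n).obj L
    let m : L ⟶ Q.homology n := Q.liftCycles eL.inv (n + 1) (by simp)
      (((hz (n + 1) (by omega))).eq_of_tgt _ _) ≫ Q.homologyπ n
    have : m ≫ HomologicalComplex.homologyMap x n = v₀ ≫ (mappingCone u).homologyπ n := by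
      simp only [m, Category.assoc, HomologicalComplex.homologyπ_naturality]
      rw [← Category.assoc, HomologicalComplex.liftCycles_comp_cyclesMap]
      congr 1
      rw [← cancel_mono ((mappingCone u).iCycles n)]
      simp [x, c, eL]
    exact @epi_of_epi_fac _ _ _ _ _ _ _ _ hv₀ this

/-- The cycles of the cones of complexes with terms in `P` are covered by members of `P`. -/
def Approximable (P : ObjectProperty C) (K : CochainComplex C ℤ) (_b : ℤ) : Prop :=
  ∀ (n : ℤ) (E : CochainComplex C ℤ) (φ : E ⟶ K), (∀ i, P (E.X i)) →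
    ∃ (L : C) (v₀ : L ⟶ (mappingCone φ).cycles n), P L ∧ Epi v₀

variable (P : ObjectProperty C) (K : CochainComplex C ℤ) (b : ℤ)

/-- A partial resolution down to degree `b + 1 - k`. -/
structure Stage (k : ℕ) where
  /-- the complex -/
  E : CochainComplex C ℤ
  /-- the map -/
  φ : E ⟶ K
  bounds : ∀ i, i < b + 1 - k ∨ b < i → IsZero (E.X i)
  mem : ∀ i, P (E.X i)
  exact_cone : ExactGE φ (b + 1 - k)

variable {P K b}

lemma exists_next (hP : Good P) (hK : Approximable P K b) {k : ℕ} (s : Stage P K b k) :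
    ∃ (s' : Stage P K b (k + 1)) (v : s.E ⟶ s'.E), v ≫ s'.φ = s.φ ∧
      ∀ i, i ≠ b - k → IsIso (v.f i) := by
  obtain ⟨E, φ, hE, hEp, hex⟩ := s
  obtain ⟨L, v₀, hL, hv₀⟩ := hK (b - k) E φ hEp
  haveI := hv₀
  obtain ⟨E', v, u', e, hv, hiso, hex'⟩ := step (b - k) φ (hex.mono (by lia)) v₀ (epi_comp _ _)
  refine ⟨⟨E', u', fun i hi => ?_, fun i => ?_, hex'.mono (by lia)⟩, v, hv, hiso⟩
  · have := hiso i (by lia)
    exact (hE i (by lia)).of_iso (asIso (v.f i)).symm
  · by_cases h : i = b - k
    · subst h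
      exact hP.iso e.symm (hP.biprod (hEp _) hL)
    · have := hiso i h
      exact hP.iso (asIso (v.f i)) (hEp i)

/-- Every approximable complex has a resolution by a bounded above complex with terms in `P`. -/
theorem exists_resolution (hP : Good P)
    [HasColimitsOfShape ℕ C] (hb : ∀ i, b < i → K.ExactAt i) (hK : Approximable P K b) :
    ∃ (G : CochainComplex C ℤ) (s : G ⟶ K), (∀ i, b < i → IsZero (G.X i)) ∧ (∀ i, P (G.X i)) ∧
      QuasiIso s := by
  have hz : ∀ i, IsZero ((0 : CochainComplex C ℤ).X i) := fun i =>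
    Functor.map_isZero (HomologicalComplex.eval C (.up ℤ) i) (isZero_zero _)
  let s₀ : Stage P K b 0 :=
    { E := 0
      φ := 0
      bounds := fun i _ => hz i
      mem := fun i => hP.zero (hz i)
      exact_cone := Groth.Agent.Lib.PCoh.Resolve.exactGE_zero K hz 0 fun i hi => hb i (by lia) }
  choose next v hv hiso using fun k (s : Stage P K b k) => exists_next hP hK s
  let seq : ∀ k, Stage P K b k := fun k => Nat.rec (motive := fun k => Stage P K b k) s₀ next k
  let F : ℕ ⥤ CochainComplex C ℤ := Functor.ofSequence (X := fun k => (seq k).E) fun k => v k (seq k)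
  let c : Cocone F :=
    { pt := K
      ι := NatTrans.ofSequence (fun k => (seq k).φ) fun k => by
        change F.map (homOfLE (Nat.le_succ k)) ≫ (seq (k + 1)).φ = (seq k).φ ≫ 𝟙 K
        rw [Category.comp_id]
        exact (congrArg (· ≫ (seq (k + 1)).φ) (Functor.ofSequence_map_homOfLE_succ _ k)).trans
          (hv k (seq k)) }
  have hev : ∀ (i : ℤ) (k : ℕ), b + 1 - k ≤ i →
      (F ⋙ HomologicalComplex.eval C (.up ℤ) i).IsEventuallyConstantFrom k := by
    intro i k hk l f
    obtain ⟨d, rfl⟩ := Nat.exists_eq_add_of_le (leOfHom f)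
    rw [Subsingleton.elim f (homOfLE (Nat.le_add_right k d))]
    clear f
    induction d with
    | zero =>
      rw [show homOfLE (Nat.le_add_right k 0) = 𝟙 k from rfl, CategoryTheory.Functor.map_id]
      infer_instance
    | succ d ih =>
      rw [show homOfLE (Nat.le_add_right k (d + 1)) =
        homOfLE (Nat.le_add_right k d) ≫ homOfLE (Nat.le_succ (k + d)) from rfl,
        CategoryTheory.Functor.map_comp]
      have : IsIso ((F ⋙ HomologicalComplex.eval C (.up ℤ) i).map (homOfLE (Nat.le_succ (k + d)))) := by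
        change IsIso ((F.map (homOfLE (Nat.le_succ (k + d)))).f i)
        rw [show F.map (homOfLE (Nat.le_succ (k + d))) = v (k + d) (seq (k + d)) from
          Functor.ofSequence_map_homOfLE_succ _ _]
        exact hiso _ _ i (by lia)
      infer_instance
  have hι : ∀ (i : ℤ) (k : ℕ), b + 1 - k ≤ i → IsIso ((colimit.ι F k).f i) := fun i k hk =>
    (hev i k hk).isIso_ι_of_isColimit
      (isColimitOfPreserves (HomologicalComplex.eval C (.up ℤ) i) (colimit.isColimit F))
  refine ⟨colimit F, colimit.desc F c, fun i hi => ?_, fun i => ?_, ⟨fun i => ?_⟩⟩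
  · have := hι i (b + 1 - i).toNat (by lia)
    exact ((seq (b + 1 - i).toNat).bounds i (Or.inr hi)).of_iso
      (asIso ((colimit.ι F (b + 1 - i).toNat).f i)).symm
  · have := hι i (b + 1 - i).toNat (by lia)
    exact hP.iso (asIso ((colimit.ι F (b + 1 - i).toNat).f i)) ((seq (b + 1 - i).toNat).mem i)
  · obtain ⟨k, hk⟩ : ∃ k : ℕ, b + 1 - k ≤ i - 1 := ⟨(b + 2 - i).toNat, by lia⟩
    have h₁ : QuasiIsoAt (colimit.ι F k) i := by
      rw [quasiIsoAt_iff' _ (i - 1) i (i + 1) (by simp) (by simp)]
      let φ := (HomologicalComplex.shortComplexFunctor' C (.up ℤ) (i - 1) i (i + 1)).map (colimit.ι F k)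
      have : IsIso φ.τ₁ := hι (i - 1) k hk
      have : IsIso φ.τ₂ := hι i k (by lia)
      have : IsIso φ.τ₃ := hι (i + 1) k (by lia)
      exact ShortComplex.quasiIso_of_epi_of_isIso_of_mono φ
    have h₂ : QuasiIsoAt (colimit.ι F k ≫ colimit.desc F c) i := by
      rw [colimit.ι_desc, quasiIsoAt_iff_isIso_homologyMap]
      exact ((exactGE_iff _ _).1 (seq k).exact_cone).2 i (by lia)
    exact quasiIsoAt_of_comp_left (colimit.ι F k) (colimit.desc F c) i

end Abstract

open Groth.Agent.Lib

/-- Flat quasi-coherent modules. -/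
def FQ (X : Scheme.{u}) : ObjectProperty X.Modules := fun M => M.IsQuasicoherent ∧ FlatMod.IsFlat M

lemma good_FQ (X : Scheme.{u}) : Good (FQ X) where
  zero h := ⟨CechRes.Res.qc_zero _ h, DerivedOX.FlatResolve.good_isFlat.zero h⟩
  biprod h h' := ⟨CechRes.Res.qc_biprod _ _ h.1 h'.1, DerivedOX.FlatResolve.good_isFlat.biprod h.2 h'.2⟩
  iso e h := ⟨(WayOut.Scheme.qc X).prop_of_iso e h.1, DerivedOX.FlatResolve.good_isFlat.iso e h.2⟩

/-- Complexes of quasi-coherent modules acyclic in large degrees have flat quasi-coherent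
resolutions on separated quasi-compact schemes over an affine. -/
theorem exists_flat_resolution {A : Type u} [CommRing A] {X : Scheme.{u}}
    (f : X ⟶ Spec (CommRingCat.of A)) [IsSeparated f] [QuasiCompact f]
    (K : CochainComplex X.Modules ℤ) (hK : ∀ i, (K.X i).IsQuasicoherent) (b : ℤ)
    (hb : ∀ i, b < i → K.ExactAt i) :
    ∃ (G : CochainComplex X.Modules ℤ) (s : G ⟶ K), (∀ i, b < i → IsZero (G.X i)) ∧
      (∀ i, (G.X i).IsQuasicoherent ∧ FlatMod.IsFlat (G.X i)) ∧ QuasiIso s := by
  refine exists_resolution (P := FQ X) (good_FQ X) hb fun n E φ hE => ?_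
  have hc : ∀ i, ((mappingCone φ).X i).IsQuasicoherent := fun i =>
    (WayOut.Scheme.qc X).prop_of_iso (HomologicalComplex.homotopyCofiber.XIsoBiprod φ i (i + 1) rfl).symm
      (CechRes.Res.qc_biprod _ _ (hE _).1 (hK _))
  haveI : ((mappingCone φ).cycles n).IsQuasicoherent := by
    haveI := hc n
    haveI := hc (n + 1)
    exact (WayOut.Scheme.qc X).prop_of_iso
      (IsLimit.conePointUniqueUpToIso ((mappingCone φ).cyclesIsKernel n (n + 1) (by simp))
        (kernelIsKernel _)).symm (QCoh.Closure.isQCoh_kernel ((mappingCone φ).d n (n + 1)))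
  obtain ⟨L, π, h1, h2, h3⟩ := QCohFlat.exists_cover f ((mappingCone φ).cycles n)
  exact ⟨L, π, ⟨h1, h2⟩, h3⟩

/-- A bounded object with quasi-coherent cohomology on a Noetherian separated scheme is represented
by a bounded above complex of flat quasi-coherent modules. -/
theorem exists_flat_model {A : Type u} [CommRing A] {X : Scheme.{u}} [IsNoetherian X]
    (f : X ⟶ Spec (CommRingCat.of A)) [IsSeparated f] (F : DCoh.D X) (hF : DCoh.IsQCohD F) (a b : ℤ)
    [F.IsGE a] [F.IsLE b] :
    ∃ G : CochainComplex X.Modules ℤ, (∀ i, b < i → IsZero (G.X i)) ∧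
      (∀ i, (G.X i).IsQuasicoherent ∧ FlatMod.IsFlat (G.X i)) ∧
      Nonempty (DerivedCategory.Q.obj G ≅ F) := by
  haveI : QuasiCompact f := inferInstance
  obtain ⟨K, h1, h2, hK, ⟨e⟩⟩ := QCohModel.exists_bounded_model F hF a b
  haveI := h2
  obtain ⟨G, s, hb, hG, hs⟩ := exists_flat_resolution f K hK b fun i hi =>
    HomologicalComplex.ExactAt.of_isZero (K.isZero_of_isStrictlyLE b i hi)
  haveI := hs
  exact ⟨G, hb, hG, ⟨asIso (DerivedCategory.Q.map s) ≪≫ e⟩⟩

end Groth.Agent.Lib.SchColim29.QCohResolve
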