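import Groth.Agent.Lib.LocalTor.Main
import Groth.Agent.Lib.Perfect.PerfAmp
import Groth.Agent.Lib.Perfect.Coherent
import Groth.Agent.Lib.DerivedOX.TensorCoprod

/-!
# Tensor products of bounded coherent and perfect objects
-/

set_option autoImplicit false
set_option linter.style.haveILetI false

universe u

open CategoryTheory Limits AlgebraicGeometry HomologicalComplex

attribute [local instance] HasDerivedCategory.standard

namespace Groth.Agent.Lib.SchColim29.PerfTensor

open Groth.Agent.Lib Groth.Agent.Lib.DerivedOX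
open Groth.Agent.Lib.Modules StalkModule MonoidalCategory

variable {Z : Scheme.{u}}

/-- Perfect objects on a quasi-compact scheme have finite flat amplitude. -/
theorem flatAmp_of_isPerfect [CompactSpace Z] {Y : DCoh.D Z} (hY : DCoh.IsPerfect Y) :
    ∃ a b : ℤ, DCoh.HasFlatAmplitudeIn a b Y := by
  let e := DerivedCategory.Q.objObjPreimageIso Y
  choose V hx hV using hY
  have h0 := fun x => hV x _ ⟨e⟩
  choose E hE hi using h0
  choose a b hv using fun x => (hE x).1
  obtain ⟨t, ht⟩ := CompactSpace.isCompact_univ.elim_finite_subcover (fun x => (V x : Set Z))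
    (fun x => (V x).2) (fun x _ => Set.mem_iUnion.2 ⟨x, hx x⟩)
  obtain ⟨A, hA⟩ := (t.finite_toSet.image a).bddBelow
  obtain ⟨B, hB⟩ := (t.finite_toSet.image b).bddAbove
  refine ⟨A, max A B, (Perfect.PerfAmp.of_hasPerfectAmplitudeIn (le_max_left _ _) fun z => ?_).2⟩
  obtain ⟨x, hxt, hzx⟩ := Set.mem_iUnion₂.1 (ht (Set.mem_univ z))
  refine ⟨V x, hzx, fun F hF => ?_⟩
  obtain ⟨G, hG, hGi⟩ := hV x F hF
  refine ⟨E x, fun n hn => hv x n ?_, (hE x).2, ⟨?_⟩⟩
  · have h1 := hA ⟨x, hxt, rfl⟩
    have h2 := hB ⟨x, hxt, rfl⟩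
    omega
  · exact (Perfect.Basic.RDQ (V x).ι F).symm ≪≫
      (Perfect.Basic.RD (V x).ι).mapIso (hF.some ≪≫ e.symm) ≪≫
      Perfect.Basic.RDQ (V x).ι _ ≪≫ (hi x).some

/-- The stalk of the cohomology of a tensor product with a K-flat complex vanishes where the second
factor is acyclic. -/
theorem subsingleton_stalk_homology {E F : CochainComplex Z.Modules ℤ} (hE : DCoh.IsKFlat E) (z : Z)
    (hF : ∀ k, Subsingleton ((F.homology k).presheaf.stalk z)) (i : ℤ) :
    Subsingleton ((((DCoh.tensorCx.obj E).obj F).homology i).presheaf.stalk z) := by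
  haveI : PreservesFiniteColimits (stalkModFunctor Z z) :=
    PreservesColimitsOfSize.preservesFiniteColimits _
  let S := (stalkModFunctor Z z).mapHomologicalComplex (ComplexShape.up ℤ)
  have h1 : (S.obj F).Acyclic := fun k => by
    rw [exactAt_iff_isZero_homology]
    haveI := hF k
    exact IsZero.of_iso (@ModuleCat.isZero_of_subsingleton _ _ ((stalkModFunctor Z z).obj (F.homology k)) (hF k))
      ((F.sc k).mapHomologyIso (stalkModFunctor Z z))
  have h2 : (S.obj ((DCoh.tensorCx.obj E).obj F)).Acyclic :=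
    StalkCx.acyclic_of_iso (StalkCx.tensorIso z E F)
      ((StalkCx.isKFlat_iff_left _).1 ((KFlatStalk.isKFlat_iff_stalk E).1 hE z) _ h1)
  exact ModuleCat.subsingleton_of_isZero (((exactAt_iff_isZero_homology _ _).1 (h2 i)).of_iso
    ((((DCoh.tensorCx.obj E).obj F).sc i).mapHomologyIso (stalkModFunctor Z z)).symm)

/-- The tensor product of a bounded coherent object with a perfect one. -/
theorem tensor_perfect [IsLocallyNoetherian Z] [CompactSpace Z] (K : CochainComplex Z.Modules ℤ)
    (kl ku : ℤ) [(DCoh.toD Z K).IsGE kl] [(DCoh.toD Z K).IsLE ku]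
    (hK : DCoh.IsCohD (DCoh.toD Z K)) [DCoh.HasLTensorCx K] {Y : DCoh.D Z} (hY : DCoh.IsPerfect Y) :
    DCoh.IsCohD ((DCoh.LTensorCx K).obj Y) ∧
      (∃ m n : ℤ, ((DCoh.LTensorCx K).obj Y).IsGE m ∧ ((DCoh.LTensorCx K).obj Y).IsLE n) ∧
      ∀ i, CohB1.support (DCoh.HD ((DCoh.LTensorCx K).obj Y) i) ⊆
        ⋃ k : Set.Icc kl ku, CohB1.support (DCoh.HD (DCoh.toD Z K) k) := by
  obtain ⟨a, b, E, hEv, hEf, ⟨eE⟩⟩ := flatAmp_of_isPerfect hY
  have hEk : DCoh.IsKFlat E := Amplitude.isKFlat_of_bounded E b (fun i hi => hEv i (Or.inr hi)) hEf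
  haveI : K.IsGE kl := (DerivedCategory.isGE_Q_obj_iff K kl).1 ‹_›
  haveI : K.IsLE ku := (DerivedCategory.isLE_Q_obj_iff K ku).1 ‹_›
  let K₁ := K.truncLE ku
  haveI : QuasiIso (K.ιTruncLE ku) := (K.quasiIso_ιTruncLE_iff ku).2 inferInstance
  haveI : K₁.IsGE kl := (DerivedCategory.isGE_Q_obj_iff K₁ kl).1
    (DerivedCategory.TStructure.t.isGE_of_iso (asIso (DerivedCategory.Q.map (K.ιTruncLE ku))).symm kl)
  haveI : QuasiIso (K₁.πTruncGE kl) := (K₁.quasiIso_πTruncGE_iff kl).2 inferInstance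
  let K' := K₁.truncGE kl
  have hK'0 : ∀ i, kl ≤ i ∧ i ≤ ku ∨ IsZero (K'.X i) := fun i => by
    by_cases h₁ : i < kl
    · exact Or.inr (K'.isZero_of_isStrictlyGE kl i h₁)
    · by_cases h₂ : ku < i
      · exact Or.inr (K'.isZero_of_isStrictlyLE ku i h₂)
      · exact Or.inl ⟨by omega, by omega⟩
  obtain ⟨F, r, hF0, hFf, hr⟩ := FlatResolve.exists_flat_resolution K' ku fun i hi =>
    HomologicalComplex.ExactAt.of_isZero (K'.isZero_of_isStrictlyLE ku i hi)
  haveI := hr
  have hFk : DCoh.IsKFlat F := Amplitude.isKFlat_of_bounded F ku hF0 hFf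
  haveI := TensorQis.quasiIso_left hEk (K.ιTruncLE ku)
  haveI := TensorQis.quasiIso_left hEk (K₁.πTruncGE kl)
  haveI := TensorQis.quasiIso_left hEk r
  let α := (DCoh.tensorCxQ K).totalLeftDerivedCounit DerivedCategory.Q
    (HomologicalComplex.quasiIso Z.Modules (.up ℤ))
  haveI := TensorCoprod.isIso_counit_app_of_isKFlat K (DCoh.LTensorCx K) α hEk
  let T := (DCoh.tensorCx.obj E)
  let e' : (DCoh.LTensorCx K).obj Y ≅ DerivedCategory.Q.obj (T.obj K') :=
    (DCoh.LTensorCx K).mapIso eE.symm ≪≫ asIso (α.app E) ≪≫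
      (asIso (DerivedCategory.Q.map (T.map (K.ιTruncLE ku)))).symm ≪≫
      asIso (DerivedCategory.Q.map (T.map (K₁.πTruncGE kl)))
  let e : (DCoh.LTensorCx K).obj Y ≅ DerivedCategory.Q.obj (T.obj F) :=
    e' ≪≫ (asIso (DerivedCategory.Q.map (T.map r))).symm
  let eF : DerivedCategory.Q.obj F ≅ DCoh.toD Z K :=
    asIso (DerivedCategory.Q.map r) ≪≫ (asIso (DerivedCategory.Q.map (K₁.πTruncGE kl))).symm ≪≫
      asIso (DerivedCategory.Q.map (K.ιTruncLE ku))
  refine ⟨fun i => ?_, ⟨a + kl, b + ku, ?_, ?_⟩, fun i z hz => ?_⟩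
  · exact CohBasics.Closure.isCoh_of_iso
      (((DerivedCategory.homologyFunctorFactors Z.Modules i).app _).symm ≪≫
        (DerivedCategory.homologyFunctor Z.Modules i).mapIso e.symm)
      (LocalTor.Coherent.isCoh_homology_tensor E F ku hF0 hFk
        (fun m x => ((Perfect.PseudoCoh.iff_forall m _).1
          (((Perfect.FlatPerfect.isPerfect_iff_pc_tor Y).1 hY).1 m) x).of_iso eE.symm)
        (fun m x => (Perfect.PCCoh.pcAt_of_coh m (ku + 1 - m).toNat _ ku (by omega) ‹_›
          (fun i _ _ => hK i) x).of_iso eF.symm) i)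
  · haveI : (T.obj K').IsStrictlyGE (a + kl) := (CochainComplex.isStrictlyGE_iff _ _).2 fun n hn => by
      rw [IsZero.iff_id_eq_zero]
      refine mapBifunctor.hom_ext fun p q h => IsZero.eq_of_src ?_ _ _
      change p + q = n at h
      by_cases hp : p < a
      · exact ((DCoh.tensorBi (X := Z)).flip.obj (K'.X q)).map_isZero (hEv p (Or.inl hp))
      · exact ((DCoh.tensorBi (X := Z)).obj (E.X p)).map_isZero ((hK'0 q).resolve_left (by omega))
    exact DerivedCategory.TStructure.t.isGE_of_iso e'.symm _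
  · haveI : (T.obj K').IsStrictlyLE (b + ku) := (CochainComplex.isStrictlyLE_iff _ _).2 fun n hn =>
      LocalTor.Coherent.isZero_tensorCx_X (fun p hp => hEv p (Or.inr hp))
        (fun q hq => (hK'0 q).resolve_left (by omega)) n hn
    exact DerivedCategory.TStructure.t.isLE_of_iso e'.symm _
  · by_contra hz'
    simp only [Set.mem_iUnion, not_exists] at hz'
    have hF : ∀ k, Subsingleton ((F.homology k).presheaf.stalk z) := fun k => by
      let g : F.homology k ≅ DCoh.HD (DCoh.toD Z K) k :=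
        ((DerivedCategory.homologyFunctorFactors Z.Modules k).app F).symm ≪≫
          (DerivedCategory.homologyFunctor Z.Modules k).mapIso eF
      haveI : Subsingleton ((stalkModFunctor Z z).obj (DCoh.HD (DCoh.toD Z K) k)) := by
        by_cases hk : k ∈ Set.Icc kl ku
        · exact not_not.1 (hz' ⟨k, hk⟩)
        · refine ModuleCat.subsingleton_of_isZero ((stalkModFunctor Z z).map_isZero ?_)
          rcases not_and_or.1 hk with h | h
          · exact DerivedCategory.isZero_of_isGE (DCoh.toD Z K) kl k (by omega)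
          · exact DerivedCategory.isZero_of_isLE (DCoh.toD Z K) ku k (by omega)
      exact ((stalkModFunctor Z z).mapIso g).toLinearEquiv.toEquiv.subsingleton
    exact hz (@Equiv.subsingleton _ _ ((stalkModFunctor Z z).mapIso ((DerivedCategory.homologyFunctor Z.Modules i).mapIso e ≪≫
      (DerivedCategory.homologyFunctorFactors Z.Modules i).app (T.obj F))).toLinearEquiv.toEquiv
      (subsingleton_stalk_homology hEk z hF i))

end Groth.Agent.Lib.SchColim29.PerfTensor
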