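import Groth.Agent.Lib.ShrinkTri.QCohGen
import Groth.Agent.S0978
import Groth.Agent.Lib.DerivedOX.AffinePush
import Groth.Agent.Lib.DerivedOX.ProjectionLocal
import Groth.Agent.S0921

/-!
# Perfect objects lie in the thick closure of a generator
-/

set_option autoImplicit false
set_option linter.style.haveILetI false
set_option linter.unusedSectionVars false

universe u

open CategoryTheory Limits AlgebraicGeometry Pretriangulated

attribute [local instance] HasDerivedCategory.standard

namespace Groth.Agent.Lib.SchColim29.PerfThick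

open Groth.Agent.Lib Groth.Agent.Lib.ShrinkTri.QCohGen

variable {X Y : Scheme.{u}}

instance isClosedUnderIsomorphisms_isPerfect :
    ObjectProperty.IsClosedUnderIsomorphisms (fun K : DCoh.D X => DCoh.IsPerfect K) :=
  ⟨fun e h => Perfect.Triangle.isPerfect_of_iso e h⟩

instance isTriangulated_isPerfect :
    ObjectProperty.IsTriangulated (fun K : DCoh.D X => DCoh.IsPerfect K) where
  exists_zero := ⟨_, isZero_zero _, Gen43.Generator.isPerfect_of_isZero (isZero_zero _)⟩
  isStableUnderShiftBy n := ⟨fun _ hK => Perfect.Triangle.isPerfect_shift hK n⟩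
  toIsTriangulatedClosed₂ := ObjectProperty.IsTriangulatedClosed₂.mk'
    (P := fun K : DCoh.D X => DCoh.IsPerfect K) fun _ hT h₁ h₃ => Perfect.Triangle.isPerfect₂ hT h₁ h₃

/-- `G` generates `D_QCoh`. -/
def Generates (G : DCoh.D X) : Prop :=
  ∀ E : DCoh.D X, DCoh.IsQCohD E → (∀ (n : ℤ) (φ : G⟦n⟧ ⟶ E), φ = 0) → IsZero E

/-- Perfect objects lie in every thick subcategory containing a perfect generator. -/
theorem mem_thick [CompactSpace X] [QuasiSeparatedSpace X] {G : DCoh.D X} (hG : DCoh.IsPerfect G)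
    (hgen : Generates G) (P : ObjectProperty (DCoh.D X)) [P.IsTriangulated] [P.IsStableUnderRetracts]
    (hPG : P G) {K : DCoh.D X} (hK : DCoh.IsPerfect K) : P K := by
  let qc : ObjectProperty (DCoh.D X) := DCoh.IsQCohD
  let EX := ShrinkHoms.equivalence.{u} (DCoh.DQCoh X)
  letI : EX.functor.CommShift ℤ := ShrinkTri.commShift
  letI : EX.inverse.CommShift ℤ := EX.commShiftInverse ℤ
  haveI := EX.commShift_of_functor ℤ
  haveI : EX.functor.IsTriangulated := ShrinkTri.isTriangulated_functor
  haveI : EX.toAdjunction.CommShift ℤ := inferInstance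
  haveI : EX.inverse.IsTriangulated := EX.toAdjunction.isTriangulated_rightAdjoint
  haveI : HasColimitsOfShape (Discrete ℕ) (Sm X) :=
    hasColimitsOfShape_of_equivalence (Discrete.equivalence (Equiv.ulift.{u}))
  let G' : DCoh.DQCoh X := ⟨G, Perfect.QCohD.isQCohD_of_isPerfect hG⟩
  let K' : DCoh.DQCoh X := ⟨K, Perfect.QCohD.isQCohD_of_isPerfect hK⟩
  have hg : CohDer.Generates (fun _ : Unit => (L X).obj G') := fun Z hZ => by
    let Z' : DCoh.DQCoh X := ShrinkHoms.fromShrinkHoms Z
    have h0 : ∀ (n : ℤ) (φ : G⟦n⟧ ⟶ Z'.obj), φ = 0 := fun n φ => by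
      refine (DerCat.Tri.hom_shift_left_eq_zero_iff G Z'.obj n).2 (fun g => ?_) φ
      let g' : G' ⟶ Z'⟦-n⟧ := ObjectProperty.homMk
        (g ≫ ((DCoh.IsQCohD (X := X)).ι.commShiftIso (-n)).inv.app Z')
      have h := hZ () (-n) ((L X).map g' ≫ ((L X).commShiftIso (-n)).hom.app Z')
      have h' : g' = 0 := (L X).map_injective (by
        rw [Functor.map_zero, ← cancel_mono (((L X).commShiftIso (-n)).hom.app Z'), zero_comp]
        exact h)
      have := congrArg (fun t => t.hom) h'
      exact (cancel_mono _).1 (this.trans zero_comp.symm)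
    have : IsZero Z' := by
      rw [IsZero.iff_id_eq_zero]
      exact ObjectProperty.hom_ext _ ((hgen Z'.obj Z'.property h0).eq_of_src _ _)
    exact (L X).map_isZero this
  have henv := ((Groth.Agent.S0978.result _ (isCompactObject G' hG)).1 hg).2 _ (isCompactObject K' hK)
  let F : Sm X ⥤ DCoh.D X := EX.inverse ⋙ (DCoh.IsQCohD (X := X)).ι
  let e : ∀ W : DCoh.DQCoh X, F.obj ((L X).obj W) ≅ W.obj := fun W =>
    (DCoh.IsQCohD (X := X)).ι.mapIso (EX.unitIso.app W).symm
  haveI : P.IsClosedUnderIsomorphisms := inferInstance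
  haveI : (P.inverseImage F).IsStableUnderRetracts := ⟨fun r h => P.prop_of_retract (r.map F) h⟩
  have hle : ObjectProperty.triangEnvelope (fun W : Sm X => W = (L X).obj G') ≤ P.inverseImage F :=
    (ObjectProperty.triangEnvelope_le_iff _).2 fun W (hW : W = _) => by
      subst hW
      exact P.prop_of_iso (e G').symm hPG
  exact P.prop_of_iso (e K') (hle _ henv)

instance isStableUnderRetracts_isPerfect :
    ObjectProperty.IsStableUnderRetracts (fun K : DCoh.D X => DCoh.IsPerfect K) :=
  ⟨fun r h => Gen43.Restrict.isPerfect_of_retract r h⟩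

/-- Pull-back of a generator along an affine morphism. -/
theorem generates_Lpull (g : X ⟶ Y) [IsAffineHom g] [DCoh.HasLpull g] [QuasiSeparated g]
    {G : DCoh.D Y} (hG : Generates G) : Generates ((DCoh.Lpull g).obj G) := by
  intro E hE h
  haveI := DerivedOX.Exists.hasRpush g
  let adj := DerivedOX.PullPushAdj.derivedAdjunction g
  have hz : IsZero ((DCoh.Rpush g).obj E) := by
    refine hG _ (DerivedOX.RpushQCoh.isQCohD_Rpush g E hE) fun n φ => ?_
    apply (adj.homEquiv _ _).symm.injective
    rw [adj.homEquiv_counit, adj.homEquiv_counit, Functor.map_zero, zero_comp]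
    have := h n (((DCoh.Lpull g).commShiftIso n).inv.app G ≫ (adj.homEquiv _ _).symm φ)
    rw [adj.homEquiv_counit] at this
    exact (cancel_epi (((DCoh.Lpull g).commShiftIso n).inv.app G)).1 (this.trans comp_zero.symm)
  haveI : IsIso ((DCoh.Rpush g).map (0 : E ⟶ E)) :=
    ⟨0, hz.eq_of_src _ _, hz.eq_of_src _ _⟩
  haveI : IsIso (0 : E ⟶ E) := DerivedOX.AffinePush.isIso_of_Rpush g hE hE _ inferInstance
  rw [IsZero.iff_id_eq_zero, ← IsIso.hom_inv_id (0 : E ⟶ E), zero_comp]

/-- A perfect generator pulled back along an affine morphism. -/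
theorem exists_pulled_generator (g : X ⟶ Y) [IsAffineHom g] [QuasiSeparated g] [DCoh.HasLpull g]
    [CompactSpace Y] [QuasiSeparatedSpace Y] :
    ∃ G : DCoh.D Y, DCoh.IsPerfect G ∧ DCoh.IsPerfect ((DCoh.Lpull g).obj G) ∧
      Generates ((DCoh.Lpull g).obj G) := by
  obtain ⟨G, hG, -, hgen⟩ := Gen43.Generator.exists_generator (X := Y) ⊥
    (by rw [TopologicalSpace.Opens.coe_bot]; exact isCompact_empty)
  exact ⟨G, hG, Groth.Agent.S0921.result g G hG,
    generates_Lpull g fun E hE h => hgen E hE (Gen43.Restrict.van_bot _) h⟩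

end Groth.Agent.Lib.SchColim29.PerfThick
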