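import Groth.Agent.Lib.Lim.Approx.Main
import Groth.Agent.Lib.Lim.FPDescend
import Groth.Agent.Lib.Lim.Valuative
import Groth.Agent.H2.FlatDescend.Model

/-!
# Noetherian models of proper flat morphisms of finite presentation
-/

set_option autoImplicit false
set_option backward.isDefEq.respectTransparency false
set_option linter.style.haveILetI false

universe u

open CategoryTheory CategoryTheory.Limits AlgebraicGeometry Opposite
open Groth.Agent Groth.Agent.Lib

namespace Groth.Agent.Lib.SchColim29.ProperFlatModel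

/-- A proper flat morphism of finite presentation to an affine scheme is a base change of one to a
Noetherian affine scheme. -/
theorem exists_model {X S : Scheme.{u}} (f : X ⟶ S) [IsAffine S] [IsProper f] [Flat f]
    [LocallyOfFinitePresentation f] :
    ∃ (X₀ S₀ : Scheme.{u}) (f₀ : X₀ ⟶ S₀) (b : S ⟶ S₀) (q : X ⟶ X₀),
      IsAffine S₀ ∧ IsNoetherian S₀ ∧ IsPullback q f f₀ b ∧ IsProper f₀ ∧ Flat f₀ := by
  haveI : CompactSpace X := QuasiCompact.compactSpace_of_compactSpace f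
  haveI : QuasiSeparatedSpace X := quasiSeparatedSpace_of_quasiSeparated f
  obtain ⟨A⟩ := Lim.Approx.Main.exists_approx (S := S)
  haveI : ∀ {i j : A.Iᵒᵖ} (a : i ⟶ j), IsAffineHom (A.D.map a) := fun a => A.affine a
  obtain ⟨i, Xi, fi, g, hXc, hXq, hfi, hsq⟩ :=
    Lim.FPDescend.exists_descent (c := A.cone) A.isLimit (X := X) f
  haveI := hXc; haveI := hXq; haveI := hfi
  obtain ⟨j₁, φ₁, h₁⟩ := Lim.Valuative.isProper_descends A.D A.cone A.isLimit
    (fun _ _ a => A.affine a) i inferInstance inferInstance fi inferInstance inferInstance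
    inferInstance f g hsq inferInstance
  obtain ⟨j₂, φ₂, h₂⟩ := Groth.Agent.H2.FlatDescend.flatFp_descends A.D A.cone A.isLimit
    (fun _ _ a => A.affine a) i inferInstance inferInstance fi inferInstance inferInstance
    inferInstance f g hsq ⟨inferInstance, inferInstance⟩
  haveI : IsAffine A.cone.pt := ‹IsAffine S›
  obtain ⟨j₃, hj₃⟩ := Scheme.exists_isAffine_of_isLimit A.D A.cone A.isLimit
  let k₁ := IsCofiltered.min j₁ j₂
  let k₂ := IsCofiltered.min k₁ j₃
  let a : k₂ ⟶ k₁ := IsCofiltered.minToLeft k₁ j₃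
  let m₁ := IsCofiltered.minToLeft j₁ j₂
  let m₂ := IsCofiltered.minToRight j₁ j₂
  obtain ⟨k, b, hb⟩ : ∃ (k : A.Iᵒᵖ) (b : k ⟶ k₂), (b ≫ a ≫ m₁) ≫ φ₁ = (b ≫ a ≫ m₂) ≫ φ₂ :=
    ⟨k₂, 𝟙 _, Subsingleton.elim _ _⟩
  let t₁ := b ≫ a ≫ m₁
  let t₂ := b ≫ a ≫ m₂
  let ψ := t₁ ≫ φ₁
  let f₀ := pullback.snd fi (A.D.map ψ)
  haveI : IsAffineHom (A.D.map (b ≫ IsCofiltered.minToRight k₁ j₃)) := A.affine _
  haveI : IsAffine (A.D.obj j₃) := hj₃
  haveI : IsAffine (A.D.obj k) := isAffine_of_isAffineHom (A.D.map (b ≫ IsCofiltered.minToRight k₁ j₃))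
  haveI : IsNoetherian (A.D.obj k) := { }
  have hp : IsProper f₀ :=
    Lim.Descend.prop_of_factor (P := @IsProper) h₁ (A.D.map t₁) (A.D.map_comp _ _).symm
      (IsPullback.of_hasPullback fi (A.D.map ψ))
  have hf : Flat f₀ := by
    have hψ : A.D.map t₂ ≫ A.D.map φ₂ = A.D.map ψ := by
      rw [← A.D.map_comp]; exact congrArg A.D.map hb.symm
    haveI : Flat (pullback.snd fi (A.D.map φ₂)) := h₂.1
    exact Lim.Descend.prop_of_factor (P := @Flat) h₂.1 (A.D.map t₂) hψ
      (IsPullback.of_hasPullback fi (A.D.map ψ))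
  exact ⟨_, A.D.obj k, f₀, A.cone.π.app k, _, inferInstance, inferInstance,
    Lim.FPDescend.move (c := A.cone) hsq ψ, hp, hf⟩

end Groth.Agent.Lib.SchColim29.ProperFlatModel
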