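import Groth.Agent.S1118
import Groth.Agent.S11115
import Groth.Agent.S0913
import Groth.Agent.Lib.BettiExact.TorRestrict
import Groth.Agent.Lib.SchColim29.CohPush
import Groth.Agent.Lib.DerivedOX.OpenSupport
import Groth.Agent.Lib.BettiExact.TorPull
import Groth.Agent.Lib.DerivedOX.QCohSky
import Groth.Agent.Lib.DerivedOX.QCohLocal
import Groth.Agent.Lib.DerivedOX.TensorSymm
import Groth.Agent.Lib.DerivedOX.SingleTensor
import Groth.Agent.Lib.DerivedOX.RpushQCoh
import Groth.Agent.Lib.DerivedOX.AmplitudeStalk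
import Groth.Agent.Lib.Perfect.FlatPerfect

/-!
# Tor amplitude of derived direct images
-/

set_option autoImplicit false
set_option linter.style.haveILetI false
set_option linter.unusedSectionVars false

universe u

open CategoryTheory Limits AlgebraicGeometry HomologicalComplex

attribute [local instance] HasDerivedCategory.standard

namespace Groth.Agent.Lib.SchColim29.RpushTor

open Groth.Agent.Lib Groth.Agent.Lib.DerivedOX Groth.Agent.Lib.BettiExact

variable {X S : Scheme.{u}} (f : X ⟶ S)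

/-- Uniform vanishing above. -/
theorem exists_bound [QuasiCompact f] [QuasiSeparated f] [CompactSpace S] [DCoh.HasRpush f] :
    ∃ N : ℕ, ∀ (E : DCoh.D X) (b : ℤ), DCoh.IsQCohD E → E.IsLE b →
      ((DCoh.Rpush f).obj E).IsLE (b + N) := by
  classical
  choose V hV hsV _ using fun s : S =>
    exists_isAffineOpen_mem_and_subset (X := S) (x := s) (U := ⊤) trivial
  obtain ⟨t, ht⟩ := isCompact_univ.elim_finite_subcover (fun s : S => ((V s : S.Opens) : Set S))
    (fun s => (V s).2) (fun s _ => Set.mem_iUnion.2 ⟨s, hsV s⟩)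
  choose N hN using fun s : S => RpushQCoh.exists_bound_RH (f ∣_ V s) (hV s)
  refine ⟨t.sup N, fun E b hE hEb => (DerivedCategory.isLE_iff _ _).2 fun m hm => ?_⟩
  haveI := hEb
  refine (Modules.Stalk.isZero_iff_stalk_subsingleton).2 fun x => ?_
  obtain ⟨s, hs, hxs⟩ : ∃ s ∈ t, x ∈ V s := by simpa using ht (Set.mem_univ x)
  obtain ⟨θ⟩ := RpushQCoh.nonempty_restrict_HD f E (V s) m
  have hle : ((Perfect.Basic.RD (f ⁻¹ᵁ V s).ι).obj E).IsLE b := (DerivedCategory.isLE_iff _ _).2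
    fun i hi => ((Scheme.Modules.restrictFunctor (f ⁻¹ᵁ V s).ι).map_isZero
      (DerivedCategory.isZero_of_isLE E b i hi)).of_iso (Perfect.Coherent.homologyIso _ E i)
  have hz := (hN s _ b (RpushQCoh.isQCohD_restrict hE _) hle m
    (by have := Finset.le_sup (f := N) hs; lia)).of_iso θ
  have h1 := Modules.Stalk.isZero_iff_stalk_subsingleton.1 hz ⟨x, hxs⟩
  exact (Modules.StalkRestrict.restrictStalkAddEquiv (V s).ι (DCoh.HD ((DCoh.Rpush f).obj E) m)
    ⟨x, hxs⟩).symm.injective.subsingleton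

/-- `- ⊗^L M` on a K-flat complex is the tensor product with `M[0]`. -/
theorem nonempty_ltensorMod_iso (M : S.Modules) [DCoh.HasLTensorMod M]
    [DCoh.HasLTensorCx ((single S.Modules (ComplexShape.up ℤ) 0).obj M)]
    {B : CochainComplex S.Modules ℤ} (hB : DCoh.IsKFlat B) :
    Nonempty ((DCoh.LTensorMod M).obj (DerivedCategory.Q.obj B) ≅
      (DCoh.LTensorCx ((single S.Modules (ComplexShape.up ℤ) 0).obj M)).obj (DerivedCategory.Q.obj B)) := by
  obtain ⟨t⟩ := QCohLocal.nonempty_LTensorCx_iso ((single S.Modules (ComplexShape.up ℤ) 0).obj M) hB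
  obtain ⟨s⟩ := Amplitude.nonempty_ltensor_iso M hB
  let c : DCoh.tensorRightMod M ≅ (DCoh.tensorBi (X := S)).obj M :=
    NatIso.ofComponents (fun N => TensorMod.Basic.comm N M) (fun {N N'} g => by
      change ((DCoh.tensorBi (X := S)).map g).app M ≫ _ = _ ≫ ((DCoh.tensorBi (X := S)).obj M).map g
      rw [PullTensor.tensorBi_map_app, PullTensor.tensorBi_obj_map]
      exact TensorMod.Basic.comm_natural g (𝟙 M))
  let e : (Amplitude.tens M).obj B ≅
      (DCoh.tensorCx.obj B).obj ((single S.Modules (ComplexShape.up ℤ) 0).obj M) :=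
    (NatIso.mapHomologicalComplex c (ComplexShape.up ℤ)).app B ≪≫
      (SingleTensor.singleZeroIso (DCoh.tensorBi (X := S)) M).app B ≪≫
      TensorSymm.commCx _ B
  exact ⟨s ≪≫ DerivedCategory.Q.mapIso e ≪≫ t.symm⟩

/-- Tor amplitude of `Rf_*` of a complex of bounded tor amplitude relative to `f`. -/
theorem torAmp_Rpush [QuasiCompact f] [QuasiSeparated f] [QuasiSeparatedSpace S] [DCoh.HasRpush f]
    (N : ℕ) (hN : ∀ (E : DCoh.D X) (a b : ℤ), DCoh.IsQCohD E → E.IsGE a → E.IsLE b →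
      ((DCoh.Rpush f).obj E).IsLE (b + N))
    (F : CochainComplex X.Modules ℤ) (hqc : DCoh.IsQCohD (DCoh.toD X F)) {a b : ℤ}
    (hF : DerSch.HasTorAmplitude f a b F) :
    DCoh.HasTorAmplitudeIn a (b + N) ((DCoh.Rpush f).obj (DCoh.toD X F)) := by
  refine QCohSky.hasTorAmplitudeIn_of_qcoh fun M hM _ i hi => ?_
  haveI := LeftExists.hasLpull f
  haveI := LeftExists.hasLTensorCx F
  let K : CochainComplex S.Modules ℤ := (single S.Modules (ComplexShape.up ℤ) 0).obj M
  haveI := LeftExists.hasLTensorCx K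
  have hKq : DCoh.IsQCohD (DCoh.toD S K) := QCohLocal.isQCoh_HD (fun n => by
    by_cases hn : n = 0
    · subst hn
      exact CohBasics.Closure.isQCoh_of_iso (singleObjXSelf (ComplexShape.up ℤ) 0 M).symm
    · exact RpushQCoh.qc_of_isZero (isZero_single_obj_X _ _ _ _ hn)) (Iso.refl _)
  let P := (KFlat.res S).obj K
  have hP : DCoh.IsKFlat P := KFlat.isKFlat_res K
  haveI : QuasiIso ((KFlat.aug S).app K) := KFlat.quasiIso_aug K
  let eP : DCoh.toD S P ≅ DCoh.toD S K := asIso (DerivedCategory.Q.map ((KFlat.aug S).app K))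
  obtain ⟨l⟩ := TorPull.nonempty_lpull_iso f hP
  let M' := (TorPull.pbC f).obj P
  have hM' : DCoh.IsKFlat M' := KFlatPullback.isKFlat_pullback f hP
  haveI := LeftExists.hasLTensorCx M'
  obtain ⟨pf⟩ := Groth.Agent.S1118.result f (DCoh.toD X F) hqc K hKq M'
    ⟨l.symm ≪≫ (DCoh.Lpull f).mapIso eP⟩
  obtain ⟨B, hB, ⟨eB⟩⟩ := QCohLocal.exists_kflat ((DCoh.Rpush f).obj (DCoh.toD X F))
  obtain ⟨s⟩ := nonempty_ltensorMod_iso M hB
  let F' := (KFlat.res X).obj F
  haveI : QuasiIso ((KFlat.aug X).app F) := KFlat.quasiIso_aug F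
  let eF : DerivedCategory.Q.obj F' ≅ DerivedCategory.Q.obj F :=
    asIso (DerivedCategory.Q.map ((KFlat.aug X).app F))
  obtain ⟨t⟩ := QCohLocal.nonempty_LTensorCx_iso M' (KFlat.isKFlat_res F)
  obtain ⟨u⟩ := QCohLocal.nonempty_tensor_iso hM' eF
  obtain ⟨v⟩ := TorPull.nonempty_ltensor_lpull_iso f F hP
  let W := (DCoh.LTensorCx F).obj ((DCoh.Lpull f).obj (DCoh.inD S M))
  let eW : (DCoh.LTensorCx M').obj (DCoh.toD X F) ≅ W :=
    (DCoh.LTensorCx M').mapIso eF.symm ≪≫ t ≪≫
      DerivedCategory.Q.mapIso (TensorSymm.commCx _ _) ≪≫ u ≪≫ v.symm ≪≫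
      (DCoh.LTensorCx F).mapIso ((DCoh.Lpull f).mapIso
        (eP ≪≫ ((DerivedCategory.singleFunctorIsoCompQ _ 0).app M).symm))
  have hWq : DCoh.IsQCohD W := QCohLocal.isQCohD_LTensorCx F hqc (QCohLocal.isQCohD_Lpull f
    fun n => (SheafOfModules.isQuasicoherent S.ringCatSheaf).prop_of_iso
      ((DerivedCategory.homologyFunctor _ n).mapIso
        ((DerivedCategory.singleFunctorIsoCompQ _ 0).app M).symm) (hKq n))
  haveI : W.IsGE a := (DerivedCategory.isGE_iff _ _).2 fun j hj =>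
    TorPull.isZero_HD_ltensor_lpull f F hF M j (Or.inl hj)
  haveI : W.IsLE b := (DerivedCategory.isLE_iff _ _).2 fun j hj =>
    TorPull.isZero_HD_ltensor_lpull f F hF M j (Or.inr hj)
  haveI := hN W a b hWq inferInstance inferInstance
  haveI := Groth.Agent.S11115.result f W a
  let e : (DCoh.LTensorMod M).obj ((DCoh.Rpush f).obj (DCoh.toD X F)) ≅ (DCoh.Rpush f).obj W :=
    (DCoh.LTensorMod M).mapIso eB.symm ≪≫ s ≪≫ (DCoh.LTensorCx K).mapIso eB ≪≫ pf ≪≫
      (DCoh.Rpush f).mapIso eW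
  refine IsZero.of_iso ?_ ((DerivedCategory.homologyFunctor S.Modules i).mapIso e)
  rcases hi with hi | hi
  · exact DerivedCategory.isZero_of_isGE _ a i hi
  · exact DerivedCategory.isZero_of_isLE _ (b + N) i hi

open Groth.Agent.Lib.WayOut.Bounded

/-- `Rf_*` of a bounded coherent complex with proper support and of bounded tor amplitude relative to
a Noetherian base is perfect. -/
theorem isPerfect_Rpush [IsNoetherian S] [LocallyOfFiniteType f] [DCoh.HasRpush f]
    (F : CochainComplex X.Modules ℤ) (c d : ℤ) [(DCoh.toD X F).IsGE c] [(DCoh.toD X F).IsLE d]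
    (hcoh : DCoh.IsCohD (DCoh.toD X F))
    (hsupp : ∀ i, ClSub.IsProperOver f (CohB1.support (DCoh.HD (DCoh.toD X F) i)))
    {a b : ℤ} (hF : DerSch.HasTorAmplitude f a b F) :
    DCoh.IsPerfect ((DCoh.Rpush f).obj (DCoh.toD X F)) := by
  classical
  let R := (DCoh.Rpush f).obj (DCoh.toD X F)
  have hP : HasP (CohPush.PS f) (DCoh.toD X F) := fun i => ⟨hcoh i, hsupp i⟩
  have hRc : DCoh.IsCohD R := CohPush.isCohD_Rpush f (DCoh.toD X F) hP c
  obtain ⟨d', hd'⟩ := CohPush.exists_isLE_Rpush f (DCoh.toD X F) hP c d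
  haveI := hd'
  let Z : Set X := ⋃ k : Set.Icc c d, CohB1.support (DCoh.HD (DCoh.toD X F) k)
  have hZ : ClSub.IsProperOver f Z := _root_.ZarCoh.ProperOver.isProperOver_of_subset_iUnion f
    (fun k : Set.Icc c d => CohB1.support (DCoh.HD (DCoh.toD X F) k)) (fun k => hsupp k)
    (isClosed_iUnion_of_finite fun k : Set.Icc c d => (hsupp k).1) le_rfl
  have hsub : ∀ i, CohB1.support (DCoh.HD (DCoh.toD X F) i) ⊆ Z := fun i z hz => by
    by_cases hi : i ∈ Set.Icc c d
    · exact Set.mem_iUnion.2 ⟨⟨i, hi⟩, hz⟩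
    · exfalso
      refine hz (Modules.Stalk.isZero_iff_stalk_subsingleton.1 ?_ z)
      rcases not_and_or.1 hi with h | h
      · exact DerivedCategory.isZero_of_isGE _ c i (by omega)
      · exact DerivedCategory.isZero_of_isLE _ d i (by omega)
  obtain ⟨hZc, hZp⟩ := hZ
  haveI := hZp
  have hZcomp : IsCompact Z := by
    let i := (Scheme.IdealSheafData.vanishingIdeal ⟨Z, hZc⟩).subschemeι
    haveI : QuasiCompact (i ≫ f) := inferInstance
    haveI := QuasiCompact.compactSpace_of_compactSpace (i ≫ f)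
    have h := isCompact_range i.continuous
    rwa [show Set.range i = Z from ZarCoh.ProperOver.range_red ⟨Z, hZc⟩] at h
  choose W hW hxW _ using fun x : X =>
    exists_isAffineOpen_mem_and_subset (X := X) (x := x) (U := ⊤) trivial
  obtain ⟨t, ht⟩ := hZcomp.elim_finite_subcover (fun x => (W x : Set X)) (fun x => (W x).2)
    fun x _ => Set.mem_iUnion.2 ⟨x, hxW x⟩
  let V : X.Opens := ⨆ x : t, W x.1
  have hZV : Z ⊆ (V : Set X) := fun z hz => by
    obtain ⟨x, hxt, hzx⟩ := Set.mem_iUnion₂.1 (ht hz)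
    exact TopologicalSpace.Opens.mem_iSup.2 ⟨⟨x, hxt⟩, hzx⟩
  haveI : CompactSpace (V : Scheme.{u}) := isCompact_iff_compactSpace.1 (by
    change IsCompact ((⨆ x : t, W x.1 : X.Opens) : Set X)
    rw [TopologicalSpace.Opens.coe_iSup]
    exact isCompact_iUnion fun x : t => (hW x.1).isCompact)
  haveI : IsLocallyNoetherian X := LocallyOfFiniteType.isLocallyNoetherian f
  let g := V.ι ≫ f
  haveI : IsLocallyNoetherian (V : Scheme.{u}) := isLocallyNoetherian_of_isOpenImmersion V.ι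
  haveI : QuasiCompact g := quasiCompact_of_compactSpace g
  haveI : QuasiSeparated g := inferInstance
  haveI := Exists.hasRpush V.ι
  haveI := Exists.hasRpush g
  let F' := (DCoh.restrictCx V).obj F
  obtain ⟨eR⟩ := OpenSupport.nonempty_iso_Rpush V Z hZc hZV (DCoh.toD X F) hsub
  let e : R ≅ (DCoh.Rpush g).obj (DCoh.toD (V : Scheme.{u}) F') :=
    (DCoh.Rpush f).mapIso eR ≪≫ (PullComp.rpushCompIso V.ι f).app _ ≪≫
      (DCoh.Rpush g).mapIso (Perfect.Basic.RDQ V.ι F)
  have hF' : DerSch.HasTorAmplitude g a b F' := fun x =>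
    TorRestrict.torAmpAt_restrict f g V.ι (𝟙 S) (by simp [g]) F x (hF _)
  obtain ⟨N, hN⟩ := exists_bound g
  have hqc : DCoh.IsQCohD (DCoh.toD (V : Scheme.{u}) F') := fun n =>
    (WayOut.Scheme.qc (V : Scheme.{u})).prop_of_iso
      ((DerivedCategory.homologyFunctor (V : Scheme.{u}).Modules n).mapIso (Perfect.Basic.RDQ V.ι F))
      (RpushQCoh.isQCohD_restrict (fun i => (hcoh i).1) V n)
  have htor := torAmp_Rpush g N (fun E _ b h _ hb => hN E b h hb) F' hqc hF'
  have hab : a ≤ max a (b + N) := le_max_left _ _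
  have hflat : DCoh.HasFlatAmplitudeIn a (max a (b + N)) ((DCoh.Rpush g).obj (DCoh.toD _ F')) :=
    Amplitude.flatAmp_of_torAmp hab (fun G => LeftExists.hasLTensorMod G)
      fun G _ i hi => htor G i (by omega)
  obtain ⟨E, hE, hEf, ⟨eE⟩⟩ := hflat
  exact Groth.Agent.S0913.result R a _ hab ⟨E, hE, hEf, ⟨eE ≪≫ e.symm⟩⟩
    ((Perfect.PseudoCoh.iff_forall _ _).2 fun x => Perfect.PCCoh.pcAt_of_coh (a - 1)
      (d' + 1 - (a - 1)).toNat R d' (by omega) hd' (fun i _ _ => hRc i) x)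

end Groth.Agent.Lib.SchColim29.RpushTor
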