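import Groth.Agent.Lib.SchColim29.RpushGamma
import Groth.Agent.Lib.SchColim29.QCohResolve
import Groth.Agent.Lib.SchColim29.PerfThick
import Groth.Agent.Lib.SchColim29.ProperFlatModel
import Groth.Agent.Lib.SchColim29.PerfTensor
import Groth.Agent.Lib.SchColim29.RpushTor
import Groth.Agent.Lib.DR.BaseChange
import Groth.Agent.Lib.CechRes.BC
import Groth.Agent.Lib.Perfect.Coherent
import Groth.Agent.S1105

/-!
# Perfectness of derived direct images along proper flat morphisms
-/

set_option autoImplicit false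
set_option linter.style.haveILetI false
set_option linter.unusedSectionVars false

universe u

open CategoryTheory Limits AlgebraicGeometry HomologicalComplex

attribute [local instance] HasDerivedCategory.standard

namespace Groth.Agent.Lib.SchColim29.ProperFlatPerfect

open Groth.Agent.Lib Groth.Agent.Lib.DerivedOX Groth.Agent.Lib.BettiExact

variable {X S : Scheme.{u}}

/-- Flat modules are flat over the base along a flat morphism. -/
theorem flat_stalkOver (f : X ⟶ S) [Flat f] {M : X.Modules} (hM : FlatMod.IsFlat M) (x : X) :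
    Module.Flat (S.presheaf.stalk (f.base x)) ((DerSch.stalkOver f x).obj M) := by
  letI : Algebra (S.presheaf.stalk (f.base x)) (X.presheaf.stalk x) := (f.stalkMap x).hom.toAlgebra
  letI : Module (S.presheaf.stalk (f.base x)) (M.presheaf.stalk x) :=
    Module.compHom _ (f.stalkMap x).hom
  haveI : IsScalarTower (S.presheaf.stalk (f.base x)) (X.presheaf.stalk x) (M.presheaf.stalk x) :=
    IsScalarTower.of_algebraMap_smul fun _ _ => rfl
  haveI : Module.Flat (S.presheaf.stalk (f.base x)) (X.presheaf.stalk x) := Flat.stalkMap f x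
  haveI : Module.Flat (X.presheaf.stalk x) (M.presheaf.stalk x) := hM x
  exact Module.Flat.trans (S.presheaf.stalk (f.base x)) (X.presheaf.stalk x) (M.presheaf.stalk x)

theorem isFlatOver_of_isFlat (f : X ⟶ S) [Flat f] {M : X.Modules} (hM : FlatMod.IsFlat M) :
    FlatMod.IsFlatOver f M := fun x => flat_stalkOver f hM x

/-- Closed subsets are proper over the base of a proper morphism. -/
theorem isProperOver (f : X ⟶ S) [IsProper f] {Z : Set X} (hZ : IsClosed Z) :
    ClSub.IsProperOver f Z :=
  ⟨hZ, inferInstance⟩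

/-- A flat representative gives relative tor amplitude along a flat morphism. -/
theorem torAmp_of_flat (f : X ⟶ S) [Flat f] (E : CochainComplex X.Modules ℤ) (a b : ℤ)
    (hE : ∀ i, i < a ∨ b < i → IsZero (E.X i)) (hflat : ∀ i, FlatMod.IsFlat (E.X i)) :
    DerSch.HasTorAmplitude f a b E := fun x =>
  ⟨(DerSch.stalkCxOver f x).obj E, fun i hi => (DerSch.stalkOver f x).map_isZero (hE i hi),
    fun i => flat_stalkOver f (hflat i) x, ⟨Iso.refl _⟩⟩

/-- `Rf'_*` of the pull-back of a perfect object is perfect. -/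
theorem isPerfect_Rpush_pullback {A A' : Type u} [CommRing A] [IsNoetherianRing A] [CommRing A']
    {φ : A →+* A'} {X X' : Scheme.{u}} {f : X ⟶ Spec (CommRingCat.of A)}
    {f' : X' ⟶ Spec (CommRingCat.of A')} {g : X' ⟶ X}
    (H : IsPullback g f' f (Spec.map (CommRingCat.ofHom φ))) [IsProper f] [Flat f]
    [DCoh.HasRpush f] [DCoh.HasRpush f'] [DCoh.HasLpull g]
    [HTor.HasRΓA f] [HTor.HasRΓA f']
    [PreservesFiniteLimits (tilde.functor (CommRingCat.of A))]
    [PreservesFiniteLimits (tilde.functor (CommRingCat.of A'))]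
    {G : DCoh.D X} (hG : DCoh.IsPerfect G) :
    DCoh.IsPerfect ((DCoh.Rpush f').obj ((DCoh.Lpull g).obj G)) := by
  haveI : IsLocallyNoetherian X := LocallyOfFiniteType.isLocallyNoetherian f
  haveI : CompactSpace X := QuasiCompact.compactSpace_of_compactSpace f
  haveI : IsNoetherian X := {}
  haveI : IsProper f' := MorphismProperty.of_isPullback H inferInstance
  obtain ⟨a, b, E, hEz, hEf, ⟨eE⟩⟩ := PerfTensor.flatAmp_of_isPerfect hG
  haveI : E.IsStrictlyGE a := (CochainComplex.isStrictlyGE_iff _ _).2 fun i hi => hEz i (Or.inl hi)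
  haveI : E.IsStrictlyLE b := (CochainComplex.isStrictlyLE_iff _ _).2 fun i hi => hEz i (Or.inr hi)
  haveI : (DerivedCategory.Q.obj E).IsGE a := (DerivedCategory.isGE_Q_obj_iff E a).2 inferInstance
  haveI : (DerivedCategory.Q.obj E).IsLE b := (DerivedCategory.isLE_Q_obj_iff E b).2 inferInstance
  haveI : G.IsGE a := DerivedCategory.TStructure.t.isGE_of_iso eE a
  haveI : G.IsLE b := DerivedCategory.TStructure.t.isLE_of_iso eE b
  obtain ⟨P, hPb, hP, ⟨eP⟩⟩ := QCohResolve.exists_flat_model f G
    (Perfect.QCohD.isQCohD_of_isPerfect hG) a b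
  have hEc : DCoh.IsCohD (DCoh.toD X E) := fun i => CohBasics.Closure.isCoh_of_iso
    ((DerivedCategory.homologyFunctor X.Modules i).mapIso eE).symm
    (Perfect.Coherent.isCohD_of_isPerfect hG i)
  have h1 := RpushTor.isPerfect_Rpush f E a b hEc
    (fun i => haveI := (hEc i).2; isProperOver f (Modules.Support.isClosed_support _))
    (torAmp_of_flat f E a b hEz hEf)
  obtain ⟨e1⟩ := RpushGamma.nonempty_Rpush_iso f P fun i => (hP i).1
  obtain ⟨L, c, d, hLz, hLp, ⟨eL⟩⟩ := (Groth.Agent.S1105.result A _).1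
    (Perfect.Triangle.isPerfect_of_iso ((DCoh.Rpush f).mapIso (eE ≪≫ eP.symm) ≪≫ e1) h1)
  obtain ⟨G₀, e, hGf, hGz, ⟨eG⟩, ⟨eG'⟩⟩ := CechRes.BC.exists_computes_pair H P (fun i => (hP i).1)
    (fun i => haveI := (hP i).1
      CechRes.Flat.secFlat_of_isFlatOver f (P.X i) (isFlatOver_of_isFlat f (hP i).2)) b hPb
  haveI : ∀ i, Projective (L.X i) := fun i =>
    (IsProjective.iff_projective _).1 (hLp i).2
  haveI : L.IsKProjective :=
    haveI : L.IsStrictlyLE d := (L.isStrictlyLE_iff d).2 fun i hi => hLz i (Or.inr hi)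
    CochainComplex.isKProjective_of_projective L d
  let α : DerivedCategory.Q.obj L ≅ DerivedCategory.Q.obj G₀ := eL ≪≫ eG.symm
  let q := DerivedCategory.quotientCompQhIso (ModuleCat.{u} A)
  obtain ⟨s', hs'⟩ := (CochainComplex.IsKProjective.Qh_map_bijective L _).2
    ((q.app L).hom ≫ α.hom ≫ (q.app G₀).inv)
  obtain ⟨s, rfl⟩ :=
    (HomotopyCategory.quotient (ModuleCat.{u} A) (ComplexShape.up ℤ)).map_surjective s'
  have hQs : DerivedCategory.Q.map s = α.hom := by
    have h := q.hom.naturality s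
    simp only [Functor.comp_map, hs'] at h
    simpa [q] using h.symm
  haveI : IsIso (DerivedCategory.Q.map s) := by rw [hQs]; infer_instance
  haveI : QuasiIso s := (DerivedCategory.isIso_Q_map_iff_quasiIso _ _).1 inferInstance
  haveI := DR.BaseChange.isIso_ext_map φ s (max d e)
    (fun i hi => hLz i (Or.inr (lt_of_le_of_lt (le_max_left _ _) hi)))
    (fun i hi => hGz i (lt_of_le_of_lt (le_max_right _ _) hi))
    (fun i => DR.BaseChange.flat_of_proj _ (hLp i).2) hGf
  have hperf : DRing.IsPerfect A' ((HTor.RΓA f').obj (DCoh.toD X' ((TorPull.pbC g).obj P))) := by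
    refine ⟨((ModuleCat.extendScalars.{u, u, u} φ).mapHomologicalComplex (ComplexShape.up ℤ)).obj L, c, d,
      fun i hi => (ModuleCat.extendScalars.{u, u, u} φ).map_isZero (hLz i hi),
      fun i => DR.BaseChange.ext_fproj φ _ (hLp i), ⟨?_⟩⟩
    exact asIso (DerivedCategory.Q.map ((DR.BaseChange.ext φ).map s)) ≪≫ eG'
  obtain ⟨e2⟩ := RpushGamma.nonempty_Rpush_iso f' ((TorPull.pbC g).obj P) fun i => by
    haveI := (hP i).1
    exact QCoh.Pullback.isQCoh_pullback g (P.X i)
  obtain ⟨l⟩ := TorPull.nonempty_lpull_iso g (P := P)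
    (Amplitude.isKFlat_of_bounded P b hPb fun i => (hP i).2)
  exact Perfect.Triangle.isPerfect_of_iso
    (e2.symm ≪≫ (DCoh.Rpush f').mapIso (l.symm ≪≫ (DCoh.Lpull g).mapIso eP))
    ((Groth.Agent.S1105.result A' _).2 hperf)

end Groth.Agent.Lib.SchColim29.ProperFlatPerfect
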