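import Groth.Agent.Lib.DerivedOX.SingleTensor
import Mathlib.Algebra.Homology.HomotopyCategory.DegreewiseSplit
import Mathlib.Algebra.Homology.HomotopyCategory.ShortExact
import Mathlib.Algebra.Homology.DerivedCategory.ShortExact
import Mathlib.Algebra.Homology.HomologicalComplexLimits
import Mathlib.Algebra.Homology.Single

/-!
# Dévissage along short exact sequences: abstract lemmas
-/

set_option autoImplicit false
set_option linter.style.haveILetI false
set_option linter.unusedSectionVars false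

universe w v u

open CategoryTheory CategoryTheory.Limits CategoryTheory.Pretriangulated HomologicalComplex ZeroObject

namespace Groth.Agent.Lib.SchColim29.StepGen

open Groth.Agent.Lib.DerivedOX

section Bif

variable {C₁ C₂ D : Type*} [Category C₁] [Category C₂] [Category D] [Abelian C₁] [Abelian C₂]
  [Abelian D] (F : C₁ ⥤ C₂ ⥤ D) [F.Additive] [∀ X₁, (F.obj X₁).Additive]
  [∀ (K₁ : CochainComplex C₁ ℤ) (K₂ : CochainComplex C₂ ℤ), HasMapBifunctor K₁ K₂ F (.up ℤ)]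

lemma singleHom₁_natural {A A' : C₁} (g : A ⟶ A') (P : CochainComplex C₂ ℤ) (n m q : ℤ)
    (h : n + q = m) :
    Bifunctor.singleHom₁ F A n P m q h ≫
        ((F.map₂CochainComplex.flip.obj P).map ((single C₁ (.up ℤ) n).map g)).f m =
      (F.map g).app (P.X q) ≫ Bifunctor.singleHom₁ F A' n P m q h := by
  dsimp only [Bifunctor.singleHom₁]
  refine (Category.assoc _ _ _).trans ?_
  refine (congrArg (_ ≫ ·) (ι_mapBifunctorMap ((single C₁ (.up ℤ) n).map g) (𝟙 P) F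
    (.up ℤ) n q m h)).trans ?_
  simp only [HomologicalComplex.id_f, CategoryTheory.Functor.map_id, Category.id_comp, single_map_f_self,
    ← NatTrans.comp_app_assoc, ← Functor.map_comp, Iso.inv_hom_id_assoc]

end Bif

/-- `F A ≅ 𝟭` gives `A[0] ⊗ P ≅ P`. -/
noncomputable def unitIso {C D : Type*} [Category C] [Category D] [Abelian C] [Abelian D]
    (F : C ⥤ D ⥤ D) [F.Additive] [∀ X₁, (F.obj X₁).Additive]
    [∀ (K₁ : CochainComplex C ℤ) (K₂ : CochainComplex D ℤ), HasMapBifunctor K₁ K₂ F (.up ℤ)]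
    (A : C) (e : F.obj A ≅ 𝟭 D) (P : CochainComplex D ℤ) :
    (F.map₂CochainComplex.flip.obj P).obj ((single C (.up ℤ) 0).obj A) ≅ P :=
  ((SingleTensor.singleZeroIso F A).app P).symm ≪≫
    (NatIso.mapHomologicalComplex e (ComplexShape.up ℤ)).app P ≪≫
    (Functor.mapHomologicalComplexIdIso D (ComplexShape.up ℤ)).app P

variable {C : Type u} [Category.{v} C] [Abelian C] [HasDerivedCategory.{w} C]
  (Φ : CochainComplex C ℤ ⥤ CochainComplex C ℤ)

variable (C) in
/-- The localization functor. -/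
noncomputable abbrev qc : CochainComplex C ℤ ⥤ DerivedCategory C := DerivedCategory.Q
local notation "S'" => HomologicalComplex.single C (ComplexShape.up ℤ)

/-- `A ↦ Φ(A[-n])`. -/
noncomputable abbrev T (n : ℤ) : C ⥤ DerivedCategory C := S' n ⋙ Φ ⋙ (qc C)

lemma map_desc {J : Type v} (G : J → C) [HasCoproduct G] {A : C} (g : (∐ G) ⟶ A) (n : ℤ)
    [PreservesColimit (Discrete.functor G) (T Φ n)] {N : DerivedCategory C} (u : (T Φ n).obj A ⟶ N)
    (h : ∀ j, (T Φ n).map (Sigma.ι G j ≫ g) ≫ u = 0) : (T Φ n).map g ≫ u = 0 := by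
  refine Cofan.IsColimit.hom_ext (isColimitCofanMkObjOfIsColimit (T Φ n) G _
    (coproductIsCoproduct G)) _ _ fun j => ?_
  change (T Φ n).map (Sigma.ι G j) ≫ (T Φ n).map g ≫ u = (T Φ n).map (Sigma.ι G j) ≫ 0
  rw [comp_zero, ← Functor.map_comp_assoc]
  exact h j

variable [Φ.PreservesZeroMorphisms] (Fl : C → Prop) (hFl₀ : ∀ A, IsZero A → Fl A)
  (hFl : ∀ {A B : C}, (A ≅ B) → Fl A → Fl B)
  (hΦ : ∀ R : ShortComplex (CochainComplex C ℤ), R.ShortExact → (∀ m, Fl (R.X₃.X m)) →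
    (R.map Φ).ShortExact)

include hFl₀ hFl hΦ in
/-- Factor `u` through the connecting map of a short exact sequence it kills. -/
theorem exists_step {E : ShortComplex C} (hE : E.ShortExact) (hE₁ : Fl E.X₁) (n : ℤ)
    {N : DerivedCategory C} (u : (T Φ n).obj E.X₃ ⟶ N) (hu : (T Φ n).map E.g ≫ u = 0) :
    ∃ (K : CochainComplex C ℤ) (π : K ⟶ (S' n).obj E.X₃) (_ : QuasiIso π)
      (q : K ⟶ (S' (n - 1)).obj E.X₁) (u' : (T Φ (n - 1)).obj E.X₁ ⟶ N),
      (Φ ⋙ (qc C)).map π ≫ u = (Φ ⋙ (qc C)).map q ≫ u' := by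
  have hES := hE.map_of_exact (S' n)
  let φ : (S' n).obj E.X₁ ⟶ (S' n).obj E.X₂ := (S' n).map E.f
  let π : CochainComplex.mappingCone φ ⟶ (S' n).obj E.X₃ :=
    CochainComplex.mappingCone.descShortComplex (E.map (S' n))
  haveI : QuasiIso π := CochainComplex.mappingCone.quasiIso_descShortComplex hES
  let R := CochainComplex.mappingCone.triangleRotateShortComplex φ
  have hR : R.ShortExact := HomologicalComplex.shortExact_of_degreewise_shortExact R fun m =>
    (CochainComplex.mappingCone.triangleRotateShortComplexSplitting φ m).shortExact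
  have hR3 : ∀ m, Fl (R.X₃.X m) := fun m => by
    change Fl (((S' n).obj E.X₁).X (m + 1))
    by_cases hm : m + 1 = n
    · rw [hm]
      exact hFl (singleObjXSelf (.up ℤ) n E.X₁).symm hE₁
    · exact hFl₀ _ (isZero_single_obj_X (.up ℤ) n E.X₁ _ hm)
  have hT := hΦ R hR hR3
  obtain ⟨u'', hu''⟩ := Triangle.yoneda_exact₂ _ (DerivedCategory.triangleOfSES_distinguished hT)
    (show (Φ ⋙ (qc C)).obj (CochainComplex.mappingCone φ) ⟶ N from (Φ ⋙ (qc C)).map π ≫ u) (by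
      change (Φ ⋙ (qc C)).map (CochainComplex.mappingCone.inr φ) ≫ (Φ ⋙ (qc C)).map π ≫ u = 0
      rw [← Functor.map_comp_assoc,
        show CochainComplex.mappingCone.inr φ ≫ π = (S' n).map E.g from
          CochainComplex.mappingCone.inr_descShortComplex (E.map (S' n))]
      exact hu)
  let σ := ((CochainComplex.singleFunctors C).shiftIso 1 (n - 1) n (by omega)).app E.X₁
  refine ⟨_, π, inferInstance, (CochainComplex.mappingCone.triangle φ).mor₃ ≫ σ.hom,
    (Φ ⋙ (qc C)).map σ.inv ≫ u'', ?_⟩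
  refine hu''.trans ?_
  refine Eq.trans ?_ ((Φ ⋙ (qc C)).map_comp_assoc _ _ _)
  exact congrArg (fun t => (Φ ⋙ (qc C)).map t ≫ u'')
    ((Category.assoc _ _ _).trans ((congrArg (_ ≫ ·) σ.hom_inv_id).trans (Category.comp_id _))).symm

variable (hinv : (HomologicalComplex.quasiIso C (ComplexShape.up ℤ)).IsInvertedBy (Φ ⋙ (qc C)))
  {N : DerivedCategory C}

/-- `Φ` on the derived category. -/
noncomputable def Ψ (Φ : CochainComplex C ℤ ⥤ CochainComplex C ℤ)
    (hinv : (HomologicalComplex.quasiIso C (ComplexShape.up ℤ)).IsInvertedBy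
      (Φ ⋙ qc C)) :
    DerivedCategory C ⥤ DerivedCategory C :=
  Localization.lift (Φ ⋙ qc C) hinv
    DerivedCategory.Q

/-- `Ψ` is computed termwise. -/
noncomputable def τ : (qc C) ⋙ Ψ Φ hinv ≅ Φ ⋙ (qc C) := Localization.fac _ _ _

include hinv in
/-- If each step is possible, `u` factors through a morphism into degree `n - (k + 1)`. -/
theorem exists_iter (P : ℤ → C → Prop) (Q : ℤ → Prop)
    (hstep : ∀ (n : ℤ) (A : C), P n A → Q n → ∀ u : (T Φ n).obj A ⟶ N,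
      ∃ (Ω : C) (_ : P (n - 1) Ω) (K : CochainComplex C ℤ) (π : K ⟶ (S' n).obj A)
        (_ : QuasiIso π) (q : K ⟶ (S' (n - 1)).obj Ω) (u' : (T Φ (n - 1)).obj Ω ⟶ N),
        (Φ ⋙ (qc C)).map π ≫ u = (Φ ⋙ (qc C)).map q ≫ u') :
    ∀ (k : ℕ) (n : ℤ) (A : C), P n A → (∀ i : ℕ, i ≤ k → Q (n - i)) → ∀ u : (T Φ n).obj A ⟶ N,
      ∃ (Ω : C) (e : (qc C).obj ((S' n).obj A) ⟶ (qc C).obj ((S' (n - (k + 1 : ℕ))).obj Ω))
        (u' : (T Φ (n - (k + 1 : ℕ))).obj Ω ⟶ N),
        u = (τ Φ hinv).inv.app _ ≫ (Ψ Φ hinv).map e ≫ (τ Φ hinv).hom.app _ ≫ u' := by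
  have step : ∀ (n : ℤ) (A : C), P n A → Q n → ∀ u : (T Φ n).obj A ⟶ N,
      ∃ (Ω : C) (_ : P (n - 1) Ω) (e : (qc C).obj ((S' n).obj A) ⟶ (qc C).obj ((S' (n - 1)).obj Ω))
        (u' : (T Φ (n - 1)).obj Ω ⟶ N),
        u = (τ Φ hinv).inv.app _ ≫ (Ψ Φ hinv).map e ≫ (τ Φ hinv).hom.app _ ≫ u' := fun n A hA hn u => by
    obtain ⟨Ω, hΩ, K, π, hπ, q, u', h⟩ := hstep n A hA hn u
    haveI := hπ
    refine ⟨Ω, hΩ, inv ((qc C).map π) ≫ (qc C).map q, u', ?_⟩
    haveI : IsIso ((Φ ⋙ (qc C)).map π) := hinv π hπ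
    refine (cancel_epi ((Φ ⋙ (qc C)).map π)).1 (h.trans ?_)
    rw [Functor.map_comp, Functor.map_inv, Category.assoc]
    refine Eq.trans ?_ ((reassoc_of% (τ Φ hinv).inv.naturality π) _).symm
    change _ = (τ Φ hinv).inv.app K ≫ (Ψ Φ hinv).map ((qc C).map π) ≫ _
    rw [IsIso.hom_inv_id_assoc]
    exact (NatIso.naturality_1_assoc (τ Φ hinv) q u').symm
  intro k
  induction k with
  | zero =>
    intro n A hA hQ u
    obtain ⟨Ω, -, e, u', h⟩ := step n A hA (by simpa using hQ 0 le_rfl) u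
    rw [show n - ((0 + 1 : ℕ) : ℤ) = n - 1 by omega]
    exact ⟨Ω, e, u', h⟩
  | succ k ih =>
    intro n A hA hQ u
    obtain ⟨Ω, hΩ, e, u', h⟩ := step n A hA (by simpa using hQ 0 (by omega)) u
    obtain ⟨Ω', e', u'', h'⟩ := ih (n - 1) Ω hΩ
      (fun i hi => by simpa [show n - 1 - (i : ℤ) = n - ((i + 1 : ℕ) : ℤ) by omega] using hQ (i + 1) (by omega)) u'
    rw [show n - ((k + 1 + 1 : ℕ) : ℤ) = n - 1 - (k + 1 : ℕ) by omega]
    refine ⟨Ω', e ≫ e', u'', ?_⟩
    rw [h, h', Iso.hom_inv_id_app_assoc, Functor.map_comp, Category.assoc]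

include hinv in
/-- A factorisation through the image of the zero map is zero. -/
lemma comp_map_zero (A B : CochainComplex C ℤ) (u' : (Φ ⋙ (qc C)).obj B ⟶ N) :
    (τ Φ hinv).inv.app A ≫ (Ψ Φ hinv).map (0 : (qc C).obj A ⟶ (qc C).obj B) ≫
      (τ Φ hinv).hom.app B ≫ u' = 0 := by
  have hz : IsZero ((Ψ Φ hinv).obj ((qc C).obj 0)) :=
    (Functor.map_isZero (qc C) (Φ.map_isZero (isZero_zero _))).of_iso ((τ Φ hinv).app 0)
  rw [show (0 : (qc C).obj A ⟶ (qc C).obj B) = (0 : (qc C).obj A ⟶ (qc C).obj 0) ≫ 0 from zero_comp.symm,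
    Functor.map_comp, hz.eq_of_tgt ((Ψ Φ hinv).map (0 : (qc C).obj A ⟶ (qc C).obj 0)) 0, zero_comp,
    zero_comp, comp_zero]

end Groth.Agent.Lib.SchColim29.StepGen
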