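import Groth.Agent.Lib.SchColim29.LocKill
import Groth.Agent.Lib.DerivedOX.Calculus
import Groth.Agent.Lib.DerivedOX.SingleTensor
import Groth.Agent.Lib.DerivedOX.PullTensor
import Groth.Agent.Lib.DerivedOX.FlatResolve
import Groth.Agent.Lib.DerivedOX.TensorCoprod
import Groth.Agent.Lib.ExtHH.Basic
import Groth.Agent.Lib.SchColim29.StepGen
import Mathlib.Algebra.Homology.BifunctorShift

/-!
# Finite cohomological dimension: no maps from perfect objects to very negative objects
-/

set_option autoImplicit false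
set_option linter.style.haveILetI false
set_option linter.unusedSectionVars false

universe u

open CategoryTheory CategoryTheory.Limits CategoryTheory.Pretriangulated AlgebraicGeometry
open HomologicalComplex Opposite TensorProduct ZeroObject

attribute [local instance] HasDerivedCategory.standard

namespace Groth.Agent.Lib.SchColim29.TensorVanish

open Groth.Agent.Lib.DerivedOX Groth.Agent.Lib.DerivedOX.MVExtZero GenSupport LocKill

variable {X : Scheme.{u}}

local notation "QX" => (DerivedCategory.Q : CochainComplex X.Modules ℤ ⥤ DCoh.D X)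
local notation "qis" => HomologicalComplex.quasiIso X.Modules (ComplexShape.up ℤ)

/-- An object in one degree. -/
noncomputable abbrev S (n : ℤ) : X.Modules ⥤ CochainComplex X.Modules ℤ :=
  HomologicalComplex.single X.Modules (ComplexShape.up ℤ) n

variable (P : CochainComplex X.Modules ℤ)

/-- `- ⊗ P`. -/
noncomputable abbrev Φ : CochainComplex X.Modules ℤ ⥤ CochainComplex X.Modules ℤ :=
  (DCoh.tensorCx (X := X)).flip.obj P

/-- `A ↦ A[-n] ⊗ P` in the derived category. -/
noncomputable abbrev T (n : ℤ) : X.Modules ⥤ DCoh.D X := S n ⋙ Φ P ⋙ QX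

/-- `A ⊗ P` vanishes where `A` does. -/
lemma subsingleton_stalk_tensor (A : X.Modules) (n m : ℤ) {x : X}
    (hA : Subsingleton (A.presheaf.stalk x)) :
    Subsingleton ((((Φ P).obj ((S n).obj A)).X m).presheaf.stalk x) := by
  have h : n + (m - n) = m := by omega
  haveI := Bifunctor.isIso_singleHom₁ (DCoh.tensorBi (X := X)) A n P m (m - n) h
  haveI : Subsingleton (((DCoh.tensorBi.obj A).obj (P.X (m - n))).presheaf.stalk x) := by
    refine (TensorSheaf.tensorStalk x A (P.X (m - n))).toEquiv.subsingleton_congr.2 ?_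
    refine subsingleton_of_forall_eq 0 fun t => ?_
    induction t using TensorProduct.induction_on with
    | zero => rfl
    | tmul a b => exact (congrArg (· ⊗ₜ b) (Subsingleton.elim a 0)).trans (TensorProduct.zero_tmul _ b)
    | add a b ha hb => rw [ha, hb, add_zero]
  exact (Modules.StalkModule.stalkLinearEquiv (asIso (Bifunctor.singleHom₁ (DCoh.tensorBi (X := X))
    A n P m (m - n) h)) x).symm.toEquiv.subsingleton

lemma isIso_εD_T (W : X.Opens) (n : ℤ) : IsIso ((εD W).app ((T P n).obj (FlatGen.gen W))) :=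
  isIso_εD_Q W _ fun m _ hx =>
    subsingleton_stalk_tensor P _ n m (GenStalk.subsingleton_stalk_gen hx)

/-- Tensoring commutes with translations. -/
noncomputable def shiftT (n : ℤ) : T P 0 ⋙ shiftFunctor (DCoh.D X) (-n) ≅ T P n :=
  Functor.associator _ _ _ ≪≫
    Functor.isoWhiskerLeft (S 0) ((Φ P ⋙ QX).commShiftIso (-n)).symm ≪≫
      (Functor.associator _ _ _).symm ≪≫
      Functor.isoWhiskerRight
        ((CochainComplex.singleFunctors X.Modules).shiftIso (-n) n 0 (by omega)) (Φ P ⋙ QX)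

/-- `O_X ⊗ P ≅ P`. -/
noncomputable def unitT : (T P 0).obj (Coh.structureModule X) ≅ (QX).obj P :=
  let F := (DCoh.tensorBi (X := X)).obj (Coh.structureModule X)
  let e : F ≅ 𝟭 X.Modules := NatIso.ofComponents (fun M => TensorMod.Basic.leftUnit M) fun {M N} f => by
    rw [PullTensor.tensorBi_obj_map]
    exact TensorMod.Basic.leftUnit_natural f
  (QX).mapIso (StepGen.unitIso (DCoh.tensorBi (X := X)) (Coh.structureModule X) e P)

lemma isIso_LD_map_T (W : X.Opens) (n : ℤ) :
    IsIso ((LD W).map ((T P n).map (oneHom W))) := by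
  let f := (Φ P).map ((S 0).map (oneHom W))
  haveI : ∀ m, IsIso (((LC W).map f).f m) := fun m => by
    let iA := @asIso _ _ _ _ (Bifunctor.singleHom₁ (DCoh.tensorBi (X := X)) (FlatGen.gen W) 0 P m m
      (zero_add m)) (Bifunctor.isIso_singleHom₁ _ _ _ _ _ _ _)
    let iB := @asIso _ _ _ _ (Bifunctor.singleHom₁ (DCoh.tensorBi (X := X)) (Coh.structureModule X) 0 P m m
      (zero_add m)) (Bifunctor.isIso_singleHom₁ _ _ _ _ _ _ _)
    haveI : IsIso ((L W).map (((DCoh.tensorBi (X := X)).map (oneHom W)).app (P.X m))) := by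
      refine isIso_L_map W _ fun x hx => ?_
      let F := Modules.StalkModule.stalkModFunctor X x
      haveI : IsIso (F.map (oneHom W)) :=
        (ConcreteCategory.isIso_iff_bijective _).2 (bijective_stalk_oneHom W hx)
      exact (ConcreteCategory.isIso_iff_bijective _).1
        ((NatIso.isIso_map_iff (TensorSheaf.tensorRightStalkIso x (P.X m)) (oneHom W)).2
          (Functor.map_isIso (MonoidalCategory.tensorRight _) (F.map (oneHom W))))
    have e : f.f m = iA.inv ≫ ((DCoh.tensorBi (X := X)).map (oneHom W)).app (P.X m) ≫ iB.hom :=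
      (Iso.eq_inv_comp iA).2 (StepGen.singleHom₁_natural (DCoh.tensorBi (X := X)) (oneHom W) P 0 m m (zero_add m))
    have h2 : IsIso ((L W).map iA.inv ≫
        (L W).map (((DCoh.tensorBi (X := X)).map (oneHom W)).app (P.X m)) ≫ (L W).map iB.hom) :=
      inferInstance
    have e2 : (L W).map (f.f m) = (L W).map iA.inv ≫
        (L W).map (((DCoh.tensorBi (X := X)).map (oneHom W)).app (P.X m)) ≫ (L W).map iB.hom :=
      (congrArg (L W).map e).trans (((L W).map_comp _ _).trans (congrArg (_ ≫ ·) ((L W).map_comp _ _)))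
    change IsIso ((L W).map (f.f m))
    rw [e2]
    exact h2
  haveI := HomologicalComplex.Hom.isIso_of_components ((LC W).map f)
  have h0 : IsIso ((T P 0 ⋙ LD W).map (oneHom W)) :=
    (NatIso.isIso_map_iff (LDQ W) f).2 (Functor.map_isIso (QX) ((LC W).map f))
  exact (NatIso.isIso_map_iff ((Functor.isoWhiskerRight (shiftT P n) (LD W)).symm ≪≫
    Functor.associator _ _ _ ≪≫ Functor.isoWhiskerLeft (T P 0) ((LD W).commShiftIso (-n)) ≪≫
      (Functor.associator _ _ _).symm) (oneHom W)).2
    (Functor.map_isIso (shiftFunctor (DCoh.D X) (-n)) ((T P 0 ⋙ LD W).map (oneHom W)))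

/-- On a good open, `gen W ⊗ P` is free. -/
lemma freeOn_T {U W : X.Opens} (h : W ≤ U) {p q : ℤ} (hP : FreeOn U p q ((LD U).obj ((QX).obj P)))
    (n : ℤ) : FreeOn W (p + n) (q + n) ((LD W).obj ((T P n).obj (FlatGen.gen W))) := by
  haveI := isIso_LD_map_T P W n
  let A := ((QX).obj P)⟦-n⟧
  haveI := isIso_LD_map_εD h A
  refine FreeOn.of_iso ?_ (((hP.shift (-n) (p + n) (q + n) (by omega) (by omega)).of_iso
    (((LD U).commShiftIso (-n)).app _).symm).restrict h)
  exact asIso ((LD W).map ((εD U).app A)) ≪≫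
    (LD W).mapIso ((shiftFunctor (DCoh.D X) (-n)).mapIso (unitT P).symm ≪≫ (shiftT P n).app _) ≪≫
      (asIso ((LD W).map ((T P n).map (oneHom W)))).symm

/-- The structure module is flat. -/
lemma isFlat_structureModule : FlatMod.IsFlat (Coh.structureModule X) :=
  haveI : IsIso (oneHom (⊤ : X.Opens)) := (Modules.StalkModule.isIso_iff_stalkMapₗ_bijective _).2
    fun _ => bijective_stalk_oneHom ⊤ trivial
  FlatResolve.good_isFlat.iso (asIso (oneHom (⊤ : X.Opens))) (FlatGen.isFlat_gen ⊤)

/-- Kernels of epimorphisms between flat modules are flat. -/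
lemma isFlat_kernel {S : ShortComplex X.Modules} (hS : S.ShortExact) (h2 : FlatMod.IsFlat S.X₂)
    (h3 : FlatMod.IsFlat S.X₃) : FlatMod.IsFlat S.X₁ := fun x => by
  obtain ⟨hf, hg, hex⟩ := Calculus.stalk_shortExact hS x
  haveI : Module.Flat (X.presheaf.stalk x) (S.X₂.presheaf.stalk x) := h2 x
  haveI : Module.Flat (X.presheaf.stalk x) (S.X₃.presheaf.stalk x) := h3 x
  let f := Modules.StalkModule.stalkMapₗ S.f x
  change Module.Flat (X.presheaf.stalk x) (S.X₁.presheaf.stalk x)
  rw [Module.Flat.iff_lTensor_preserves_injective_linearMap]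
  intro M N _ _ _ _ φ hφ
  have hfM : Function.Injective (f.rTensor M) :=
    (LinearMap.lTensor_inj_iff_rTensor_inj _ _).1
      (LinearMap.lTensor_injective_of_exact_of_flat _ hg f hf hex M)
  refine Function.Injective.of_comp (f := f.rTensor N) ?_
  have e : ⇑(f.rTensor N) ∘ ⇑(φ.lTensor (S.X₁.presheaf.stalk x)) =
      ⇑(φ.lTensor (S.X₂.presheaf.stalk x)) ∘ ⇑(f.rTensor M) := funext fun z =>
    congrArg (fun l => l z) ((LinearMap.rTensor_comp_lTensor _ f φ).trans
      (LinearMap.lTensor_comp_rTensor _ f φ).symm)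
  rw [e]
  exact (Module.Flat.lTensor_preserves_injective_linearMap φ hφ).comp hfM

/-- The index type of the small sections killed by `u`. -/
abbrev Idx {n : ℤ} {A : X.Modules} {N : DCoh.D X} (u : (T P n).obj A ⟶ N) : Type u :=
  Σ W : X.Opens, {s : Γ(A, W) // (T P n).map (mk W A s) ≫ u = 0}

/-- The corresponding sum of generators. -/
noncomputable abbrev cover {n : ℤ} {A : X.Modules} {N : DCoh.D X} (u : (T P n).obj A ⟶ N) :
    (∐ fun p : Idx P u => FlatGen.gen p.1) ⟶ A :=
  Sigma.desc fun p => mk p.1 A p.2.1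

lemma epi_cover {a n : ℤ} {A : X.Modules}
    (hfree : ∀ x : X, ∃ (U : X.Opens) (p q : ℤ), x ∈ U ∧ a < p + n ∧
      FreeOn U p q ((LD U).obj ((QX).obj P)))
    {N : DCoh.D X} (hN : N.IsLE a) (u : (T P n).obj A ⟶ N) : Epi (cover P u) := by
  let G : Idx P u → X.Modules := fun p => FlatGen.gen p.1
  rw [Modules.StalkModule.epi_iff_stalkMapₗ_surjective]
  intro x v
  obtain ⟨W₀, hx₀, s, rfl⟩ := TopCat.Presheaf.exists_germ_eq A.presheaf v
  obtain ⟨U, p, q, hxU, hp, hU⟩ := hfree x
  let W := W₀ ⊓ U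
  let h := mk W A (A.presheaf.map (homOfLE (inf_le_left : W₀ ⊓ U ≤ W₀)).op s)
  let u₁ := (T P n).map h ≫ u
  obtain ⟨V, hxV, hVW, hV⟩ := exists_kills (U := W) hp (freeOn_T P inf_le_right hU n) hN
    ((εD W).app _ ≫ u₁) (show x ∈ W from ⟨hx₀, hxU⟩)
  have hk := (kills_trans hVW u₁ hV).comp ((T P n).map (incl hVW))
  haveI := isIso_εD_T P V n
  have h0 : (T P n).map (incl hVW ≫ h) ≫ u = 0 := by
    rw [Functor.map_comp, Category.assoc]
    refine (cancel_epi ((εD V).app ((T P n).obj (FlatGen.gen V)))).1 ?_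
    rw [comp_zero]
    exact hk
  let j : Idx P u := ⟨V, secOf (incl hVW ≫ h), by
    rw [show mk V A (secOf (incl hVW ≫ h)) = incl hVW ≫ h from
      secOf_injective (secOf_mk _ _ _)]
    exact h0⟩
  refine ⟨Modules.StalkModule.stalkMapₗ (Sigma.ι G j) x (GenStalk.genGerm hxV), ?_⟩
  rw [← LinearMap.comp_apply, ← Modules.StalkModule.stalkMapₗ_comp, Sigma.ι_desc,
    PullbackStalk.stalkMapₗ_genGerm]
  refine (congrArg (A.presheaf.germ V x hxV) (secOf_mk V A j.2.1)).trans ?_
  refine (congrArg (A.presheaf.germ V x hxV) (secOf_incl_comp hVW h)).trans ?_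
  rw [TopCat.Presheaf.germ_res_apply]
  refine (congrArg (A.presheaf.germ W x ⟨hx₀, hxU⟩) (secOf_mk _ _ _)).trans ?_
  exact TopCat.Presheaf.germ_res_apply A.presheaf (homOfLE (inf_le_left : W₀ ⊓ U ≤ W₀)) x ⟨hx₀, hxU⟩ s

lemma map_cover {n : ℤ} {A : X.Modules} {N : DCoh.D X} (u : (T P n).obj A ⟶ N) :
    (T P n).map (cover P u) ≫ u = 0 := by
  let G : Idx P u → X.Modules := fun p => FlatGen.gen p.1
  haveI : PreservesColimitsOfShape (Discrete (Idx P u)) (Φ P) := inferInstance
  haveI : PreservesColimitsOfShape (Discrete (Idx P u)) (S (X := X) n) := inferInstance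
  haveI : PreservesColimit (Discrete.functor G) (S n ⋙ Φ P) :=
    (comp_preservesColimitsOfShape (S n) (Φ P)).preservesColimit
  haveI := DerivedOX.TensorCoprod.preservesColimit_Q ((S n ⋙ Φ P).obj ∘ G)
  haveI : PreservesColimit (Discrete.functor G ⋙ (S n ⋙ Φ P)) QX :=
    preservesColimit_of_iso_diagram _ (Discrete.compNatIsoDiscrete G (S n ⋙ Φ P)).symm
  haveI h1 : PreservesColimit (Discrete.functor G) ((S n ⋙ Φ P) ⋙ QX) := inferInstance
  haveI : PreservesColimit (Discrete.functor G) (StepGen.T (Φ P) n) :=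
    preservesColimit_of_natIso _ (Functor.associator _ _ _)
  exact StepGen.map_desc (Φ P) G (cover P u) n u fun j =>
    (congrArg (fun t => (T P n).map t ≫ u) (Sigma.ι_desc _ j)).trans j.2.2

variable {P}
variable (hP : DCoh.IsKFlat P)

include hP in
lemma inverts : (HomologicalComplex.quasiIso X.Modules (ComplexShape.up ℤ)).IsInvertedBy (Φ P ⋙ QX) :=
  fun A B f hf => by
    haveI : QuasiIso f := hf
    haveI := LeftExists.quasiIso_tensor_right hP f
    exact Localization.inverts QX qis ((Φ P).map f) (by assumption)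

instance : (Φ P).Additive := LeftExists.additive_tensorCx_flip_obj P

/-- Maps out of `O_X` into a module in very negative degree vanish. -/
lemma eq_zero_of_cohDim (d : ℕ) (hd : ∀ (F : X.Modules) (i : ℕ), d < i → Subsingleton (Coh.HH X F i))
    (Ω : X.Modules) (e : (QX).obj ((S 0).obj (Coh.structureModule X)) ⟶
      (QX).obj ((S (0 - (d + 1 : ℕ))).obj Ω)) : e = 0 := by
  haveI : HasExt.{u} X.Modules := hasExt_of_enoughInjectives _
  haveI : Subsingleton (Abelian.Ext.{u} (Coh.structureModule X) Ω (d + 1)) :=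
    haveI : Subsingleton (Coh.HH X ((𝟭 X.Modules).obj Ω) (d + 1)) := hd Ω (d + 1) (by omega)
    (ExtHH.Basic.extHH_bijective (𝟭 X.Modules) (𝟙 (Coh.structureModule X))
      (fun Y => ⟨fun f g h => ((Category.id_comp f).symm.trans h).trans (Category.id_comp g),
        fun g => ⟨g, Category.id_comp g⟩⟩) (fun I hI => hI) Ω (d + 1)).1.subsingleton
  haveI := (Abelian.Ext.homEquiv.{u + 1, u} (X := Coh.structureModule X) (Y := Ω)
    (n := d + 1)).symm.subsingleton
  let i0 := (DerivedCategory.singleFunctorIsoCompQ X.Modules 0).app (Coh.structureModule X)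
  let i1 := (DerivedCategory.singleFunctorIsoCompQ X.Modules (0 - (d + 1 : ℕ))).app Ω
  let i2 := ((DerivedCategory.singleFunctors X.Modules).shiftIso ((d + 1 : ℕ) : ℤ)
    (0 - (d + 1 : ℕ)) 0 (by omega)).app Ω
  have h0 : i0.hom ≫ e ≫ i1.inv ≫ i2.inv = 0 :=
    Subsingleton.elim (α := ShiftedHom _ _ _) _ _
  have h1 : e ≫ i1.inv ≫ i2.inv = 0 := (cancel_epi i0.hom).1 (h0.trans comp_zero.symm)
  exact (cancel_mono (i1.inv ≫ i2.inv)).1 (h1.trans zero_comp.symm)

include hP in
/-- The vanishing theorem. -/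
theorem eq_zero (d : ℕ) (hd : ∀ (F : X.Modules) (i : ℕ), d < i → Subsingleton (Coh.HH X F i))
    {a p₀ : ℤ} (hfree : ∀ x : X, ∃ (U : X.Opens) (p q : ℤ), x ∈ U ∧ p₀ ≤ p ∧
      FreeOn U p q ((LD U).obj ((QX).obj P))) (ha : a < p₀ - d)
    {N : DCoh.D X} (hN : N.IsLE a) (f : (QX).obj P ⟶ N) : f = 0 := by
  obtain ⟨Ω, e, u', h⟩ := StepGen.exists_iter (Φ P) (inverts hP) (N := N)
    (fun _ A => FlatMod.IsFlat A) (fun n => a < p₀ + n) (fun n A hA hn u => by
      have hf : ∀ x : X, ∃ (U : X.Opens) (p q : ℤ), x ∈ U ∧ a < p + n ∧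
          FreeOn U p q ((LD U).obj ((QX).obj P)) := fun x => by
        obtain ⟨U, p, q, hx, hp, hU⟩ := hfree x
        exact ⟨U, p, q, hx, by omega, hU⟩
      haveI := epi_cover P hf hN u
      let g := cover P u
      let E := ShortComplex.mk (kernel.ι g) g (kernel.condition g)
      have hE : E.ShortExact :=
        { exact := ShortComplex.exact_of_f_is_kernel _ (kernelIsKernel g) }
      have hΩ : FlatMod.IsFlat E.X₁ :=
        isFlat_kernel hE (KFlat.isFlat_sigma _ fun p => FlatGen.isFlat_gen p.1) hA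
      obtain ⟨K, π, hπ, q, u', h⟩ := StepGen.exists_step (Φ P) (fun A => FlatMod.IsFlat A)
        (fun A hA => FlatResolve.good_isFlat.zero hA) (fun e h => FlatResolve.good_isFlat.iso e h)
        (fun R hR hR3 => Calculus.shortExact_tensor_right hR hR3 P) hE hΩ n u (map_cover P u)
      exact ⟨E.X₁, hΩ, K, π, hπ, q, u', h⟩)
    d 0 (Coh.structureModule X) isFlat_structureModule (fun i hi => by omega) ((unitT P).hom ≫ f)
  rw [eq_zero_of_cohDim d hd Ω e, StepGen.comp_map_zero] at h
  exact (cancel_epi (unitT P).hom).1 (h.trans comp_zero.symm)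

end Groth.Agent.Lib.SchColim29.TensorVanish
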