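import Groth.Agent.Lib.SchColim29.RpushPC
import Groth.Agent.Lib.SchColim29.RpushTor
import Groth.Agent.H56.RelPC.RelTor

/-!
# Direct images of relatively perfect objects
-/

set_option autoImplicit false
set_option linter.style.haveILetI false
set_option linter.unusedSectionVars false

universe u

open CategoryTheory Limits AlgebraicGeometry

attribute [local instance] HasDerivedCategory.standard

namespace Groth.Agent.Lib.SchColim29.RelPerfPush

open Groth.Agent.Lib Groth.Agent.Lib.DerivedOX Groth.Agent.Lib.BettiExact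

variable {X S : Scheme.{u}} (f : X ⟶ S)

/-- On a quasi-compact space a locally finite tor amplitude is finite. -/
theorem exists_torAmplitude [CompactSpace X] (F : CochainComplex X.Modules ℤ)
    (h : DerSch.LocFiniteTorAmplitude f F) : ∃ a b : ℤ, a ≤ b ∧ DerSch.HasTorAmplitude f a b F := by
  choose V a b hx hV using h
  obtain ⟨t, ht⟩ := CompactSpace.isCompact_univ.elim_finite_subcover (fun x => (V x : Set X))
    (fun x => (V x).2) (fun x _ => Set.mem_iUnion.2 ⟨x, hx x⟩)
  obtain ⟨A, hA⟩ := (t.finite_toSet.image a).bddBelow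
  obtain ⟨B, hB⟩ := (t.finite_toSet.image b).bddAbove
  refine ⟨A, max A B, le_max_left _ _, fun z => ?_⟩
  obtain ⟨x, hxt, hzx⟩ := Set.mem_iUnion₂.1 (ht (Set.mem_univ z))
  obtain ⟨T, hT, hTf, e⟩ := hV x z hzx
  have h1 := hA ⟨x, hxt, rfl⟩
  have h2 := hB ⟨x, hxt, rfl⟩
  exact ⟨T, fun i hi => hT i (by omega), hTf, e⟩

/-- The affine case. -/
theorem isPerfect_Rpush_affine [IsAffine S] [IsProper f] [Flat f] [LocallyOfFinitePresentation f]
    [DCoh.HasRpush f] (F : CochainComplex X.Modules ℤ)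
    (hpc : ∀ m : ℤ, DCoh.IsPseudoCoherentD m (DCoh.toD X F))
    (htor : DerSch.LocFiniteTorAmplitude f F) :
    DCoh.IsPerfect ((DCoh.Rpush f).obj (DCoh.toD X F)) := by
  haveI : CompactSpace X := QuasiCompact.compactSpace_of_compactSpace f
  obtain ⟨a, b, hab, hF⟩ := exists_torAmplitude f F htor
  obtain ⟨N, hN⟩ := RpushTor.exists_bound f
  have h1 := RpushTor.torAmp_Rpush f N (fun E _ b h _ hb => hN E b h hb) F
    (Groth.Agent.S11122.isQCohD_of_pc hpc) hF
  have hab' : a ≤ max a (b + N) := le_max_left _ _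
  have hflat : DCoh.HasFlatAmplitudeIn a (max a (b + N)) ((DCoh.Rpush f).obj (DCoh.toD X F)) :=
    Amplitude.flatAmp_of_torAmp hab' (fun G => LeftExists.hasLTensorMod G)
      fun G _ i hi => h1 G i (by omega)
  exact Groth.Agent.S0913.result _ a _ hab' hflat (RpushPC.isPC_Rpush f hpc (a - 1))

/-- `Rf_*` of a relatively perfect object is perfect. -/
theorem isPerfect_Rpush [IsProper f] [Flat f] [LocallyOfFinitePresentation f]
    [DCoh.HasRpush f] (E : DCoh.D X) (hpc : ∀ m : ℤ, DCoh.IsPseudoCoherentD m E)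
    (htor : DCoh.LocHasFiniteRelTorDim f E) : DCoh.IsPerfect ((DCoh.Rpush f).obj E) := by
  let F := DerivedCategory.Q.objPreimage E
  let e : DCoh.toD X F ≅ E := DerivedCategory.Q.objObjPreimageIso E
  have hF : DerSch.LocFiniteTorAmplitude f F :=
    H56.RelPC.RelTor.locFiniteTorAmplitudeD_of_relTorDim f htor F ⟨e⟩
  refine (Perfect.Triangle.isPerfect_iff _).2 fun x => ?_
  obtain ⟨V, hV, hxV, -⟩ := exists_isAffineOpen_mem_and_subset (X := S) (x := x) (U := ⊤) trivial
  haveI : IsAffine (V : Scheme.{u}) := hV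
  haveI := Exists.hasRpush (f ∣_ V)
  haveI : IsProper (f ∣_ V) := IsZariskiLocalAtTarget.restrict ‹IsProper f› V
  haveI : Flat (f ∣_ V) := MorphismProperty.of_isPullback (isPullback_morphismRestrict f V).flip ‹Flat f›
  haveI : LocallyOfFinitePresentation (f ∣_ V) :=
    MorphismProperty.of_isPullback (isPullback_morphismRestrict f V).flip ‹LocallyOfFinitePresentation f›
  let U := f ⁻¹ᵁ V
  let eU : DCoh.toD (U : Scheme.{u}) ((DCoh.restrictCx U).obj F) ≅ (DCoh.restrictD U.ι).obj E :=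
    (Perfect.Basic.RDQ U.ι F).symm ≪≫ (DCoh.restrictD U.ι).mapIso e
  have hF' : DerSch.LocFiniteTorAmplitude (f ∣_ V) ((DCoh.restrictCx U).obj F) := fun y => by
    obtain ⟨W, a, b, hyW, hW⟩ := hF (U.ι y)
    exact ⟨U.ι ⁻¹ᵁ W, a, b, hyW, fun y' hy' => TorRestrict.torAmpAt_restrict f (f ∣_ V) U.ι V.ι
      (morphismRestrict_ι f V).symm F y' (hW _ hy')⟩
  have hpc' : ∀ m : ℤ, DCoh.IsPseudoCoherentD m (DCoh.toD (U : Scheme.{u}) ((DCoh.restrictCx U).obj F)) :=
    fun m => (Perfect.PseudoCoh.iff_forall _ _).2 fun y => Perfect.PseudoCoh.PCAt.of_iso eU.symm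
      ((Perfect.PseudoCoh.iff_forall _ _).1 (RpushPC.isPC_restrictD U.ι (hpc m)) y)
  have h := Perfect.Triangle.isPerfect_of_iso
    ((DCoh.Rpush (f ∣_ V)).mapIso eU ≪≫ ((RestrictRpush.restrictD_Rpush_iso f V).app E).symm)
    (isPerfect_Rpush_affine (f ∣_ V) _ hpc' hF')
  exact Perfect.Triangle.PerfAt.of_restrict (j := V.ι) (y := ⟨x, hxV⟩) rfl
    ((Perfect.Triangle.isPerfect_iff _).1 h _)

end Groth.Agent.Lib.SchColim29.RelPerfPush
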