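import Groth.Agent.Lib.SchColim29.RpushTor
import Groth.Agent.Lib.SchColim29.PerfTensor
import Groth.Agent.Lib.DerivedOX.ProjectionLocal
import Groth.Agent.Lib.Perfect.Regular
import Groth.Agent.Lib.RefHull.LocFree
import Groth.Agent.Lib.BettiExact.TorAmpStalk

/-!
# Direct images of perfect objects tensored with flat coherent modules
-/

set_option autoImplicit false
set_option linter.style.haveILetI false

universe u

open CategoryTheory Limits AlgebraicGeometry HomologicalComplex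

attribute [local instance] HasDerivedCategory.standard

namespace Groth.Agent.Lib.SchColim29.RpushPerfFlat

open Groth.Agent.Lib Groth.Agent.Lib.DerivedOX Groth.Agent.Lib.BettiExact
open Groth.Agent.Lib.Modules StalkModule

variable {X S : Scheme.{u}} (f : X ⟶ S)

/-- A module flat over the base has relative tor amplitude `[0, 0]`. -/
theorem torAmp_single {G : X.Modules} (hflat : FlatMod.IsFlatOver f G) :
    DerSch.HasTorAmplitude f 0 0 ((single X.Modules (ComplexShape.up ℤ) 0).obj G) := fun x => by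
  let T := (DerSch.stalkCxOver f x).obj ((single X.Modules (ComplexShape.up ℤ) 0).obj G)
  refine ⟨T, fun i hi => (DerSch.stalkOver f x).map_isZero
    (isZero_single_obj_X (ComplexShape.up ℤ) 0 G i (hi.elim ne_of_lt ne_of_gt)), fun i => ?_,
    ⟨Iso.refl _⟩⟩
  by_cases hi : i = 0
  · subst hi
    haveI : Module.Flat (S.presheaf.stalk (f.base x)) ((DerSch.stalkOver f x).obj G) := hflat x
    exact Module.Flat.of_linearEquiv ((DerSch.stalkOver f x).mapIso
      (singleObjXSelf (ComplexShape.up ℤ) 0 G)).toLinearEquiv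
  · have hz : IsZero (T.X i) :=
      (DerSch.stalkOver f x).map_isZero (isZero_single_obj_X (ComplexShape.up ℤ) 0 G i hi)
    haveI : Subsingleton (T.X i) := ModuleCat.subsingleton_of_isZero hz
    infer_instance

variable [IsNoetherian S] [LocallyOfFiniteType f] [DCoh.HasRpush f]

/-- `Rf_*(G ⊗^L D)` is perfect for `D` perfect and `G` flat coherent with proper support. -/
theorem isPerfect_Rpush_tensor (D : CochainComplex X.Modules ℤ) (hDk : DCoh.IsKFlat D)
    (hD : DCoh.IsPerfect (DerivedCategory.Q.obj D)) [DCoh.HasLTensorCx D] {G : X.Modules}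
    (hG : Coh.IsCoh G) (hflat : DerSch.HasTorAmplitude f 0 0 ((single X.Modules (ComplexShape.up ℤ) 0).obj G)) (hsupp : ClSub.IsProperOver f (CohB1.support G))
    [CompactSpace X] :
    DCoh.IsPerfect ((DCoh.Rpush f).obj ((DCoh.LTensorCx D).obj (DCoh.inD X G))) := by
  haveI : IsLocallyNoetherian X := LocallyOfFiniteType.isLocallyNoetherian f
  let K : CochainComplex X.Modules ℤ := (single X.Modules (ComplexShape.up ℤ) 0).obj G
  haveI := LeftExists.hasLTensorCx K
  haveI := LeftExists.hasLpull (𝟙 X)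
  let P := (KFlat.res X).obj K
  have hP : DCoh.IsKFlat P := KFlat.isKFlat_res K
  haveI : QuasiIso ((KFlat.aug X).app K) := KFlat.quasiIso_aug K
  let eP : DerivedCategory.Q.obj P ≅ DerivedCategory.Q.obj K :=
    asIso (DerivedCategory.Q.map ((KFlat.aug X).app K))
  let eG : DCoh.toD X K ≅ DCoh.inD X G := ((DerivedCategory.singleFunctorIsoCompQ _ 0).app G).symm
  obtain ⟨l⟩ := TorPull.nonempty_lpull_iso (𝟙 X) hP
  let l' : (DCoh.Lpull (𝟙 X)).obj (DCoh.toD X K) ≅ DCoh.inD X G :=
    (DCoh.Lpull (𝟙 X)).mapIso eP.symm ≪≫ l ≪≫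
      DerivedCategory.Q.mapIso ((NatIso.mapHomologicalComplex (Scheme.Modules.pullbackId X)
        (ComplexShape.up ℤ)).app P ≪≫ (Functor.mapHomologicalComplexIdIso _ _).app P) ≪≫ eP ≪≫ eG
  obtain ⟨a, b, hamp⟩ := PerfTensor.flatAmp_of_isPerfect hD
  let W := (DCoh.LTensorCx D).obj (DCoh.inD X G)
  have hW0 := TorPull.torAmpD_ltensor_lpull (𝟙 X) f D (TorAmpStalk.torAmp_of_flatAmp hamp) K
    hflat
  let F := DerivedCategory.Q.objPreimage W
  let eF : DCoh.toD X F ≅ W := DerivedCategory.Q.objObjPreimageIso W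
  have hF : DerSch.HasTorAmplitude (𝟙 X ≫ f) (a + 0) (b + 0) F := hW0 F ⟨eF ≪≫ (DCoh.LTensorCx D).mapIso l'.symm⟩
  rw [Category.id_comp] at hF
  haveI : (DCoh.toD X K).IsGE 0 := DerivedCategory.TStructure.t.isGE_of_iso eG.symm 0
  haveI : (DCoh.toD X K).IsLE 0 := DerivedCategory.TStructure.t.isLE_of_iso eG.symm 0
  let eH : DCoh.HD (DCoh.toD X K) 0 ≅ G :=
    (DerivedCategory.homologyFunctorFactors X.Modules 0).app K ≪≫ singleObjHomologySelfIso _ _ _
  have hKc : DCoh.IsCohD (DCoh.toD X K) := fun i => by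
    by_cases hi : i = 0
    · subst hi
      exact CohBasics.Closure.isCoh_of_iso eH.symm hG
    · rcases lt_or_gt_of_ne hi with h | h
      · exact CohPush.isCoh_of_isZero (DerivedCategory.isZero_of_isGE _ 0 i h)
      · exact CohPush.isCoh_of_isZero (DerivedCategory.isZero_of_isLE _ 0 i h)
  obtain ⟨hc, ⟨m, n, hm, hn⟩, hs⟩ := PerfTensor.tensor_perfect K 0 0 hKc hD
  obtain ⟨t⟩ := QCohLocal.nonempty_LTensorCx_iso K hDk
  obtain ⟨s⟩ := QCohLocal.nonempty_LTensorCx_iso D hP
  obtain ⟨c⟩ := QCohLocal.nonempty_tensor_iso hDk eP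
  let e : W ≅ (DCoh.LTensorCx K).obj (DerivedCategory.Q.obj D) :=
    (DCoh.LTensorCx D).mapIso (eG.symm ≪≫ eP.symm) ≪≫ s ≪≫
      DerivedCategory.Q.mapIso (TensorSymm.commCx _ _) ≪≫ c ≪≫ t.symm
  let e' := eF ≪≫ e
  haveI : (DCoh.toD X F).IsGE m := DerivedCategory.TStructure.t.isGE_of_iso e'.symm m
  haveI : (DCoh.toD X F).IsLE n := DerivedCategory.TStructure.t.isLE_of_iso e'.symm n
  have hcF : DCoh.IsCohD (DCoh.toD X F) := fun i => CohBasics.Closure.isCoh_of_iso
    ((DerivedCategory.homologyFunctor _ i).mapIso e').symm (hc i)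
  refine Perfect.Triangle.isPerfect_of_iso ((DCoh.Rpush f).mapIso eF)
    (RpushTor.isPerfect_Rpush f F m n hcF (fun i => ?_) hF)
  haveI := (hcF i).2
  refine _root_.ZarCoh.ProperOver.isProperOver_of_subset f hsupp (Modules.Support.isClosed_support _) ?_
  rw [Modules.Support.support_congr ((DerivedCategory.homologyFunctor _ i).mapIso e')]
  intro z hz
  obtain ⟨⟨k, hk⟩, hzk⟩ := Set.mem_iUnion.1 (hs i hz)
  obtain rfl : k = 0 := le_antisymm hk.2 hk.1
  rwa [Modules.Support.support_congr eH] at hzk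

omit [LocallyOfFiniteType f] [DCoh.HasRpush f] in
/-- A compact open neighbourhood of a subset proper over the base. -/
theorem exists_compact_nhd {Z : Set X} (hZ : ClSub.IsProperOver f Z) :
    ∃ V : X.Opens, IsCompact (V : Set X) ∧ Z ⊆ (V : Set X) := by
  obtain ⟨hZc, hZp⟩ := hZ
  haveI := hZp
  have hZcomp : IsCompact Z := by
    let i := (Scheme.IdealSheafData.vanishingIdeal ⟨Z, hZc⟩).subschemeι
    haveI : QuasiCompact (i ≫ f) := inferInstance
    haveI := QuasiCompact.compactSpace_of_compactSpace (i ≫ f)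
    have h := isCompact_range i.continuous
    rwa [show Set.range i = Z from ZarCoh.ProperOver.range_red ⟨Z, hZc⟩] at h
  choose W hW hxW _ using fun x : X =>
    exists_isAffineOpen_mem_and_subset (X := X) (x := x) (U := ⊤) trivial
  obtain ⟨t, ht⟩ := hZcomp.elim_finite_subcover (fun x => (W x : Set X)) (fun x => (W x).2)
    fun x _ => Set.mem_iUnion.2 ⟨x, hxW x⟩
  refine ⟨⨆ x : t, W x.1, ?_, fun z hz => ?_⟩
  · rw [TopologicalSpace.Opens.coe_iSup]
    exact isCompact_iUnion fun x : t => (hW x.1).isCompact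
  · obtain ⟨x, hxt, hzx⟩ := Set.mem_iUnion₂.1 (ht hz)
    exact TopologicalSpace.Opens.mem_iSup.2 ⟨⟨x, hxt⟩, hzx⟩

/-- The same without quasi-compactness of the source. -/
theorem isPerfect_Rpush_tensor' (D : CochainComplex X.Modules ℤ) (hDk : DCoh.IsKFlat D)
    (hD : DCoh.IsPerfect (DerivedCategory.Q.obj D)) [DCoh.HasLTensorCx D] {G : X.Modules}
    (hG : Coh.IsCoh G) (hflat : FlatMod.IsFlatOver f G) (hsupp : ClSub.IsProperOver f (CohB1.support G)) :
    DCoh.IsPerfect ((DCoh.Rpush f).obj ((DCoh.LTensorCx D).obj (DCoh.inD X G))) := by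
  haveI : IsLocallyNoetherian X := LocallyOfFiniteType.isLocallyNoetherian f
  let K : CochainComplex X.Modules ℤ := (single X.Modules (ComplexShape.up ℤ) 0).obj G
  let eG : DCoh.toD X K ≅ DCoh.inD X G := ((DerivedCategory.singleFunctorIsoCompQ _ 0).app G).symm
  obtain ⟨V, hVc, hGV⟩ := exists_compact_nhd f hsupp
  haveI : CompactSpace (V : Scheme.{u}) := isCompact_iff_compactSpace.1 hVc
  let W := (DCoh.LTensorCx D).obj (DCoh.inD X G)
  let P := (KFlat.res X).obj K
  have hP : DCoh.IsKFlat P := KFlat.isKFlat_res K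
  haveI : QuasiIso ((KFlat.aug X).app K) := KFlat.quasiIso_aug K
  let eP : DerivedCategory.Q.obj P ≅ DerivedCategory.Q.obj K :=
    asIso (DerivedCategory.Q.map ((KFlat.aug X).app K))
  obtain ⟨s⟩ := QCohLocal.nonempty_LTensorCx_iso D hP
  obtain ⟨c⟩ := QCohLocal.nonempty_tensor_iso hDk eP
  let eW : W ≅ DerivedCategory.Q.obj ((DCoh.tensorCx.obj D).obj K) :=
    (DCoh.LTensorCx D).mapIso (eG.symm ≪≫ eP.symm) ≪≫ s ≪≫
      DerivedCategory.Q.mapIso (TensorSymm.commCx _ _) ≪≫ c
  have hsub : ∀ i, CohB1.support (DCoh.HD W i) ⊆ CohB1.support G := fun i z hz hzG => by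
    refine hz (@Equiv.subsingleton _ _ ((stalkModFunctor X z).mapIso
      ((DerivedCategory.homologyFunctor X.Modules i).mapIso eW ≪≫
        (DerivedCategory.homologyFunctorFactors X.Modules i).app _)).toLinearEquiv.toEquiv
      (PerfTensor.subsingleton_stalk_homology hDk z (fun k => ?_) i))
    by_cases hk : k = 0
    · subst hk
      exact @Equiv.subsingleton _ _ ((stalkModFunctor X z).mapIso
        (singleObjHomologySelfIso (ComplexShape.up ℤ) 0 G)).toLinearEquiv.toEquiv hzG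
    · exact Modules.Stalk.isZero_iff_stalk_subsingleton.1
        (ExactAt.isZero_homology (exactAt_single_obj _ 0 G k hk)) z
  haveI := Exists.hasRpush V.ι
  let g := V.ι ≫ f
  haveI := Exists.hasRpush g
  obtain ⟨eR⟩ := OpenSupport.nonempty_iso_Rpush V (CohB1.support G) hsupp.1 hGV W hsub
  obtain ⟨D', ⟨eD'⟩, hD'⟩ := ProjectionLocal.exists_restrict_LTensor V.ι D
  haveI := LeftExists.hasLTensorCx D'
  obtain ⟨r⟩ := hD' inferInstance (DCoh.inD X G)
  let D'' := (KFlat.res (V : Scheme.{u})).obj D'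
  haveI : QuasiIso ((KFlat.aug (V : Scheme.{u})).app D') := KFlat.quasiIso_aug D'
  haveI := LeftExists.hasLTensorCx D''
  let eD'' : DerivedCategory.Q.obj D'' ≅ DerivedCategory.Q.obj D' :=
    asIso (DerivedCategory.Q.map ((KFlat.aug (V : Scheme.{u})).app D'))
  obtain ⟨P', hP', ⟨eP'⟩⟩ := QCohLocal.exists_kflat (DCoh.inD (V : Scheme.{u}) (G.restrict V.ι))
  obtain ⟨s'⟩ := QCohLocal.nonempty_LTensorCx_iso D' hP'
  obtain ⟨s''⟩ := QCohLocal.nonempty_LTensorCx_iso D'' hP'
  obtain ⟨c'⟩ := QCohLocal.nonempty_tensor_iso hP' eD''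
  have hD''p : DCoh.IsPerfect (DerivedCategory.Q.obj D'') :=
    Perfect.Triangle.isPerfect_of_iso (eD'' ≪≫ eD').symm
      ((Perfect.Triangle.isPerfect_iff _).2 fun y => (Perfect.Triangle.isPerfect_iff _).1 hD (V.ι y)
        |> Perfect.Triangle.PerfAt.restrict V.ι y)
  have hflat' : DerSch.HasTorAmplitude g 0 0
      ((single (V : Scheme.{u}).Modules (ComplexShape.up ℤ) 0).obj (G.restrict V.ι)) := fun y =>
    TorPull.torAmpAt_of_iso g y (DerivedCategory.Q.mapIso
      ((singleMapHomologicalComplex (Scheme.Modules.restrictFunctor V.ι) (ComplexShape.up ℤ) 0).app G))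
      (TorRestrict.torAmpAt_restrict f g V.ι (𝟙 S) (by simp [g]) K y (torAmp_single f hflat _))
  have hG' : Coh.IsCoh (G.restrict V.ι) := RefHull.LocFree.isCoh_restrict hG V
  have hsupp' : ClSub.IsProperOver g (CohB1.support (G.restrict V.ι)) := by
    rw [Modules.Support.support_restrict]
    obtain ⟨hc, hp⟩ := hsupp
    let i := (ZarCoh.ProperOver.red ⟨CohB1.support G, hc⟩).subschemeι
    have hi : Set.range i ⊆ Set.range V.ι := by
      rw [ZarCoh.ProperOver.range_red, Scheme.Opens.range_ι]; exact hGV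
    let j := IsOpenImmersion.lift V.ι i hi
    have hj : j ≫ V.ι = i := IsOpenImmersion.lift_fac _ _ _
    haveI : IsClosedImmersion (j ≫ V.ι) := by rw [hj]; infer_instance
    haveI : IsClosedImmersion j := IsClosedImmersion.of_comp j V.ι
    have hr : Set.range j = V.ι ⁻¹' CohB1.support G := by
      ext y
      constructor
      · rintro ⟨t, rfl⟩
        have h1 : i t ∈ CohB1.support G := by
          have := Set.mem_range_self (f := ⇑i) t
          rwa [ZarCoh.ProperOver.range_red] at this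
        rw [← hj] at h1
        exact h1
      · intro hy
        obtain ⟨t, ht⟩ : V.ι y ∈ Set.range i := by rw [ZarCoh.ProperOver.range_red]; exact hy
        exact ⟨t, V.ι.isOpenEmbedding.injective (by rw [← ht, ← hj]; rfl)⟩
    refine (ZarCoh.ProperOver.isProper_comp_iff g j hr).1 ?_
    rw [show j ≫ g = i ≫ f by simp [g, ← hj]]
    exact hp
  refine Perfect.Triangle.isPerfect_of_iso ?_
    (isPerfect_Rpush_tensor g D'' (KFlat.isKFlat_res D') hD''p hG' hflat' hsupp')
  exact (DCoh.Rpush g).mapIso ((DCoh.LTensorCx D'').mapIso eP'.symm ≪≫ s'' ≪≫ c' ≪≫ s'.symm ≪≫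
      (DCoh.LTensorCx D').mapIso (eP' ≪≫ (Perfect.Regular.RDinD V.ι G).symm) ≪≫ r.symm) ≪≫
    ((PullComp.rpushCompIso V.ι f).app _).symm ≪≫ (DCoh.Rpush f).mapIso eR.symm

omit [AlgebraicGeometry.IsNoetherian S] [LocallyOfFiniteType f] [DCoh.HasRpush f] in
/-- `G[0] ⊗^L D` and `D ⊗^L G[0]` agree. -/
theorem nonempty_swap (D : CochainComplex X.Modules ℤ) (hDk : DCoh.IsKFlat D) [DCoh.HasLTensorCx D]
    (G : X.Modules) [DCoh.HasLTensorCx ((single X.Modules (ComplexShape.up ℤ) 0).obj G)] :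
    Nonempty ((DCoh.LTensorCx ((single X.Modules (ComplexShape.up ℤ) 0).obj G)).obj
        (DerivedCategory.Q.obj D) ≅ (DCoh.LTensorCx D).obj (DCoh.inD X G)) := by
  let K : CochainComplex X.Modules ℤ := (single X.Modules (ComplexShape.up ℤ) 0).obj G
  let eG : DCoh.toD X K ≅ DCoh.inD X G := ((DerivedCategory.singleFunctorIsoCompQ _ 0).app G).symm
  let P := (KFlat.res X).obj K
  have hP : DCoh.IsKFlat P := KFlat.isKFlat_res K
  haveI : QuasiIso ((KFlat.aug X).app K) := KFlat.quasiIso_aug K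
  let eP : DerivedCategory.Q.obj P ≅ DerivedCategory.Q.obj K :=
    asIso (DerivedCategory.Q.map ((KFlat.aug X).app K))
  obtain ⟨t⟩ := QCohLocal.nonempty_LTensorCx_iso K hDk
  obtain ⟨s⟩ := QCohLocal.nonempty_LTensorCx_iso D hP
  obtain ⟨c⟩ := QCohLocal.nonempty_tensor_iso hDk eP
  exact ⟨((DCoh.LTensorCx D).mapIso (eG.symm ≪≫ eP.symm) ≪≫ s ≪≫
      DerivedCategory.Q.mapIso (TensorSymm.commCx _ _) ≪≫ c ≪≫ t.symm).symm⟩

end Groth.Agent.Lib.SchColim29.RpushPerfFlat
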