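import Groth.Agent.Lib.DerivedOX.MVExtZero
import Groth.Agent.Lib.DerivedOX.PullbackStalk
import Groth.Agent.Lib.DerivedOX.GammaAcyclic
import Groth.Agent.Lib.DerivedOX.OpenImm
import Groth.Agent.Lib.Modules.Free
import Groth.Agent.Lib.Modules.FreeStalk
import Groth.Agent.Lib.TensorMod.LocIso

/-!
# `j_! j^*` and the generators: supports
-/

set_option autoImplicit false
set_option linter.style.haveILetI false
set_option linter.unusedSectionVars false

universe u

open CategoryTheory CategoryTheory.Limits AlgebraicGeometry Opposite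

namespace Groth.Agent.Lib.SchColim29.GenSupport

open Groth.Agent.Lib.DerivedOX Groth.Agent.Lib.Modules Groth.Agent.Lib.DerivedOX.MVExtZero

variable {X : Scheme.{u}}

/-- The map `gen U ⟶ M` given by a section. -/
noncomputable def mk (U : X.Opens) (M : X.Modules) (s : Γ(M, U)) : FlatGen.gen U ⟶ M :=
  (FlatGen.genHomEquiv U M).symm s

/-- The section of a map out of `gen U`. -/
noncomputable def secOf {U : X.Opens} {M : X.Modules} (φ : FlatGen.gen U ⟶ M) : Γ(M, U) :=
  FlatGen.genHomEquiv U M φ

@[simp] lemma secOf_mk (U : X.Opens) (M : X.Modules) (s : Γ(M, U)) : secOf (mk U M s) = s :=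
  (FlatGen.genHomEquiv U M).apply_symm_apply s

lemma secOf_injective {U : X.Opens} {M : X.Modules} :
    Function.Injective (secOf : (FlatGen.gen U ⟶ M) → Γ(M, U)) :=
  (FlatGen.genHomEquiv U M).injective

lemma secOf_comp {U : X.Opens} {M N : X.Modules} (φ : FlatGen.gen U ⟶ M) (ψ : M ⟶ N) :
    secOf (φ ≫ ψ) = ψ.app U (secOf φ) :=
  PullbackStalk.genHomEquiv_comp U φ ψ

/-- The map `gen V ⟶ gen U` for `V ≤ U`. -/
noncomputable def incl {V U : X.Opens} (h : V ≤ U) : FlatGen.gen V ⟶ FlatGen.gen U :=
  mk V _ ((FlatGen.gen U).presheaf.map (homOfLE h).op (secOf (𝟙 (FlatGen.gen U))))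

lemma secOf_incl_comp {V U : X.Opens} (h : V ≤ U) {M : X.Modules} (φ : FlatGen.gen U ⟶ M) :
    secOf (incl h ≫ φ) = M.presheaf.map (homOfLE h).op (secOf φ) := by
  rw [secOf_comp, incl, secOf_mk]
  conv_rhs => rw [← Category.id_comp φ, secOf_comp]
  exact ConcreteCategory.congr_hom (φ.mapPresheaf.naturality (homOfLE h).op) (secOf (𝟙 _))

/-- A map out of `gen U` is bijective on the stalk at `x ∈ U` as soon as the germ of its section
freely generates. -/
lemma bijective_stalk_of_germ {U : X.Opens} {M : X.Modules} (φ : FlatGen.gen U ⟶ M) {x : X}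
    (hx : x ∈ U)
    (h : Function.Bijective fun c : X.presheaf.stalk x => c • M.presheaf.germ U x hx (secOf φ)) :
    Function.Bijective (StalkModule.stalkMapₗ φ x) := by
  refine (Function.Bijective.of_comp_iff _ (GenStalk.bijective_smul_genGerm hx)).1 ?_
  refine (congrArg Function.Bijective (funext fun c => ?_)).mp h
  change _ = StalkModule.stalkMapₗ φ x (c • GenStalk.genGerm hx)
  rw [map_smul]
  exact congrArg (c • ·) (PullbackStalk.stalkMapₗ_genGerm φ hx).symm

lemma bijective_stalk_incl {V U : X.Opens} (h : V ≤ U) {x : X} (hx : x ∈ V) :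
    Function.Bijective (StalkModule.stalkMapₗ (incl h) x) := by
  refine bijective_stalk_of_germ (incl h) hx ?_
  rw [incl, secOf_mk, TopCat.Presheaf.germ_res_apply]
  refine (congrArg Function.Bijective (funext fun c => ?_)).mp (GenStalk.bijective_smul_genGerm (h hx))
  refine congrArg (c • ·) ?_
  have := PullbackStalk.stalkMapₗ_genGerm (𝟙 (FlatGen.gen U)) (h hx)
  rw [StalkModule.stalkMapₗ_id] at this
  exact this

/-- Restriction to `W` of a map bijective on the stalks in `W` is invertible. -/
lemma isIso_restrict_of_bijective {M N : X.Modules} (φ : M ⟶ N) (W : X.Opens)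
    (h : ∀ x ∈ W, Function.Bijective (StalkModule.stalkMapₗ φ x)) :
    IsIso ((Scheme.Modules.restrictFunctor W.ι).map φ) := by
  refine (Stalk.isIso_iff_stalk _).2 fun y => ?_
  haveI : IsIso ((Stalk.stalkFunctor X (W.ι y)).map φ) :=
    (ConcreteCategory.isIso_iff_bijective _).2 (h _ y.2)
  exact (NatIso.isIso_map_iff (Modules.Local.restrictStalkIso W.ι y) φ).2 inferInstance

lemma bijective_of_isIso_restrict {M N : X.Modules} (φ : M ⟶ N) (W : X.Opens)
    [IsIso ((Scheme.Modules.restrictFunctor W.ι).map φ)] {x : X} (hx : x ∈ W) :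
    Function.Bijective (StalkModule.stalkMapₗ φ x) := by
  haveI : IsIso ((Scheme.Modules.restrictFunctor W.ι ⋙
      Stalk.stalkFunctor (W : Scheme.{u}) (⟨x, hx⟩ : (W : Scheme.{u}))).map φ) :=
    Functor.map_isIso (Stalk.stalkFunctor (W : Scheme.{u}) (⟨x, hx⟩ : (W : Scheme.{u})))
      ((Scheme.Modules.restrictFunctor W.ι).map φ)
  exact (ConcreteCategory.isIso_iff_bijective _).1
    ((NatIso.isIso_map_iff (Modules.Local.restrictStalkIso W.ι (⟨x, hx⟩ : (W : Scheme.{u}))) φ).1 inferInstance)

/-- `j_! j^* M` vanishes outside the open. -/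
lemma subsingleton_stalk_L (W : X.Opens) (M : X.Modules) {x : X} (hx : x ∉ W) :
    Subsingleton (((L W).obj M).presheaf.stalk x) := by
  let N := (L W).obj M
  let J := Σ V : {V : X.Opens // V ≤ W}, (Γ(N, V.1) : Type u)
  let P : J → X.Modules := fun p => FlatGen.gen p.1.1
  let π : (∐ P) ⟶ N := Sigma.desc fun p => mk p.1.1 N p.2
  haveI : Epi π := by
    refine Preadditive.epi_of_cancel_zero _ fun {K} q hq => ?_
    apply ((CxOX.extZeroAdj W.ι).homEquiv _ _).injective
    have hR : (Scheme.Modules.restrictFunctor W.ι).map q = 0 := by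
      refine Scheme.Modules.hom_ext _ _ fun O => ConcreteCategory.ext_apply fun s => ?_
      have := congrArg (Sigma.ι P ⟨⟨W.ι ''ᵁ O, W.ι_image_le O⟩, s⟩ ≫ ·) hq
      simp only [π, Sigma.ι_desc_assoc, comp_zero] at this
      refine Eq.trans ?_ ((congrArg secOf this).trans (GammaAcyclic.genHomEquiv_zero _ _))
      exact ((secOf_comp _ q).trans (congrArg (q.app (W.ι ''ᵁ O)) (secOf_mk _ _ _))).symm
    rw [Adjunction.homEquiv_unit, Adjunction.homEquiv_unit, hR, Functor.map_zero]
  have hP : IsZero ((StalkModule.stalkModFunctor X x).obj (∐ P)) := by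
    refine IsZero.of_iso ?_ (PreservesCoproduct.iso (StalkModule.stalkModFunctor X x) P)
    rw [IsZero.iff_id_eq_zero]
    refine Sigma.hom_ext _ _ fun p => IsZero.eq_of_src ?_ _ _
    haveI : Subsingleton ((StalkModule.stalkModFunctor X x).obj (P p)) :=
      GenStalk.subsingleton_stalk_gen (U := p.1.1) (x := x) fun h => hx (p.1.2 h)
    exact ModuleCat.isZero_of_subsingleton _
  haveI : Subsingleton ((∐ P : X.Modules).presheaf.stalk x) := ModuleCat.subsingleton_of_isZero hP
  exact ((StalkModule.epi_iff_stalkMapₗ_surjective π).1 inferInstance x).subsingleton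

/-- `j_! j^* M ⟶ M` is invertible if `M` vanishes outside the open. -/
lemma isIso_ε (W : X.Opens) (M : X.Modules)
    (hM : ∀ x ∉ W, Subsingleton (M.presheaf.stalk x)) : IsIso ((ε W).app M) := by
  rw [StalkModule.isIso_iff_stalkMapₗ_bijective]
  intro x
  by_cases hx : x ∈ W
  · haveI := isIso_restrict_ε (W := W) M
    exact bijective_of_isIso_restrict _ W hx
  · haveI := hM x hx
    haveI := subsingleton_stalk_L W M hx
    exact ⟨fun a b _ => Subsingleton.elim (α := ((L W).obj M).presheaf.stalk x) a b,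
      fun a => ⟨0, Subsingleton.elim (α := M.presheaf.stalk x) _ a⟩⟩

lemma isIso_ε_gen (W : X.Opens) : IsIso ((ε W).app (FlatGen.gen W)) :=
  isIso_ε W _ fun _ hx => GenStalk.subsingleton_stalk_gen hx

/-- `j_! j^*` of a map bijective on the stalks in the open is invertible. -/
lemma isIso_L_map (W : X.Opens) {M N : X.Modules} (φ : M ⟶ N)
    (h : ∀ x ∈ W, Function.Bijective (StalkModule.stalkMapₗ φ x)) : IsIso ((L W).map φ) := by
  haveI := isIso_restrict_of_bijective φ W h
  exact Functor.map_isIso (CxOX.extZero W.ι) ((Scheme.Modules.restrictFunctor W.ι).map φ)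

lemma isIso_L_map_ε {V W : X.Opens} (h : V ≤ W) (M : X.Modules) :
    IsIso ((L V).map ((ε W).app M)) :=
  haveI := isIso_restrict_ε (W := W) M
  isIso_L_map V _ fun _ hx => bijective_of_isIso_restrict _ W (h hx)

/-- The section `1` of the structure module. -/
noncomputable def oneHom (U : X.Opens) : FlatGen.gen U ⟶ Coh.structureModule X :=
  mk U _ (1 : Γ(X, U))

lemma bijective_stalk_oneHom (U : X.Opens) {x : X} (hx : x ∈ U) :
    Function.Bijective (StalkModule.stalkMapₗ (oneHom U) x) := by
    let one : Γ(Coh.structureModule X, U) := (1 : Γ(X, U))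
    refine bijective_stalk_of_germ (oneHom U) hx ?_
    rw [oneHom, secOf_mk]
    refine ⟨fun a b e => ?_, fun v => ?_⟩
    · have h1 : ∀ c : X.presheaf.stalk x, (FreeStalk.unitStalkToRing x
          (c • (Coh.structureModule X).presheaf.germ U x hx one) : X.presheaf.stalk x) = c := fun c =>
        (FreeStalk.unitStalkToRing_smul x c _).trans ((congrArg (c * ·)
          ((FreeStalk.unitStalkToRing_germ hx (1 : Γ(X, U))).trans
            (map_one (X.presheaf.germ U x hx).hom))).trans (mul_one c))
      exact (h1 a).symm.trans ((congrArg (FreeStalk.unitStalkToRing x) e).trans (h1 b))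
    · obtain ⟨V, hV, r, rfl⟩ := TopCat.Presheaf.exists_germ_eq (Coh.structureModule X).presheaf v
      let m : Γ(Coh.structureModule X, V ⊓ U) :=
        (Coh.structureModule X).presheaf.map (homOfLE inf_le_left).op r
      refine ⟨X.presheaf.germ (V ⊓ U) x ⟨hV, hx⟩ m, ?_⟩
      have h1 : (Coh.structureModule X).presheaf.germ (V ⊓ U) x ⟨hV, hx⟩ (1 : Γ(X, V ⊓ U)) =
          (Coh.structureModule X).presheaf.germ U x hx one := by
        rw [← TopCat.Presheaf.germ_res_apply (Coh.structureModule X).presheaf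
          (homOfLE (inf_le_right : V ⊓ U ≤ U)) x ⟨hV, hx⟩ one]
        congr 1
        exact (map_one (X.presheaf.map (homOfLE (inf_le_right : V ⊓ U ≤ U)).op).hom).symm
      dsimp only
      refine (congrArg (_ • ·) h1.symm).trans ((StalkModule.germ_smul (M := Coh.structureModule X)
        (⟨hV, hx⟩ : x ∈ V ⊓ U) m (1 : Γ(X, V ⊓ U))).symm.trans ?_)
      refine Eq.trans ?_ (TopCat.Presheaf.germ_res_apply (Coh.structureModule X).presheaf
        (homOfLE (inf_le_left : V ⊓ U ≤ V)) x ⟨hV, hx⟩ r)
      congr 1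
      exact mul_one (show Γ(X, V ⊓ U) from m)

/-- `j_! O_U` is `gen U`. -/
lemma nonempty_extZero_unit (U : X.Opens) :
    Nonempty ((CxOX.extZero U.ι).obj (Coh.structureModule (U : Scheme.{u})) ≅ FlatGen.gen U) := by
  let γ : FlatGen.gen U ⟶ Coh.structureModule X := oneHom U
  haveI : IsIso ((L U).map γ) := isIso_L_map U γ fun x hx => bijective_stalk_oneHom U hx
  haveI := isIso_ε_gen U
  exact ⟨(CxOX.extZero U.ι).mapIso (Scheme.Modules.restrictUnitIso U.ι).symm ≪≫
    (asIso ((L U).map γ)).symm ≪≫ asIso ((ε U).app (FlatGen.gen U))⟩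

/-- `j_!` of a finite free module is a finite sum of copies of `gen U`. -/
lemma nonempty_extZero_free (U : X.Opens) (m : ℕ) :
    Nonempty ((CxOX.extZero U.ι).obj (FlatMod.freeMod (U : Scheme.{u}) m) ≅
      ∐ fun _ : Fin m => FlatGen.gen U) := by
  haveI := (CxOX.extZeroAdj U.ι).leftAdjoint_preservesColimits
  haveI : PreservesColimitsOfShape (Discrete (Fin m)) (CxOX.extZero U.ι) :=
    PreservesFiniteCoproducts.preserves _
  exact ⟨PreservesCoproduct.iso (CxOX.extZero U.ι) _ ≪≫
    Sigma.mapIso fun _ => (nonempty_extZero_unit U).some⟩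

/-- `j_! j^*` of finite sums of copies of `gen U`. -/
lemma nonempty_L_sum {V U : X.Opens} (h : V ≤ U) (m : ℕ) :
    Nonempty ((L V).obj (∐ fun _ : Fin m => FlatGen.gen U) ≅ ∐ fun _ : Fin m => FlatGen.gen V) := by
  haveI : IsIso ((L V).map (incl h)) := isIso_L_map V _ fun _ hx => bijective_stalk_incl h hx
  haveI := isIso_ε_gen V
  haveI : PreservesFiniteCoproducts (L V) := inferInstance
  haveI : PreservesColimitsOfShape (Discrete (Fin m)) (L V) := PreservesFiniteCoproducts.preserves _
  exact ⟨PreservesCoproduct.iso (L V) _ ≪≫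
    Sigma.mapIso fun _ => (asIso ((L V).map (incl h))).symm ≪≫ asIso ((ε V).app (FlatGen.gen V))⟩

end Groth.Agent.Lib.SchColim29.GenSupport
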