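import Groth.Agent.Lib.SchColim29.Opens
import Groth.Agent.Lib.WayOut.Scheme

/-!
# Filtered colimits of `O_X`-modules: sections, acyclicity, direct images
-/

set_option autoImplicit false
set_option linter.style.haveILetI false

universe w u

open CategoryTheory CategoryTheory.Limits Opposite CategoryTheory.Abelian TopologicalSpace
open AlgebraicGeometry Groth.Agent.Lib.WayOut.Scheme
open Groth.Agent.Lib.SpecSeq.RightHom Groth.Agent.Lib.SpecSeq.AcyclicComplex

namespace Groth.Agent.Lib.SchColim29.Modules

variable {X : Scheme.{u}} {Λ : Type u} [SmallCategory Λ] [IsFiltered Λ]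

lemma coherent_eps (W : X.Opens) (hW : IsCompact (W : Set X)) (hW' : IsQuasiSeparated (W : Set X)) :
    _root_.ToposFin.IsCoherent (_root_.ToposFin.eps (Opens.Jz X) W) :=
  ⟨Opens.isQC_eps hW,
    Groth.TFin.qs_of_closed Opens.isGenerating Opens.isQC_of_mem Opens.closedUnderPullbacks _
      ⟨W, hW, hW', rfl⟩⟩

/-- Sections of abelian sheaves over compact quasi-separated opens commute with filtered colimits. -/
lemma preservesColimitsOfShape_sections (W : X.Opens) (hW : IsCompact (W : Set X))
    (hW' : IsQuasiSeparated (W : Set X)) :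
    PreservesColimitsOfShape Λ (sheafToPresheaf (Opens.Jz X) AddCommGrpCat.{u} ⋙
      (evaluation (X.Opens)ᵒᵖ AddCommGrpCat.{u}).obj (op W)) := by
  have hgen : Groth.TFin.Gen (Opens.Jz X) :=
    Groth.TFin.gen_of_generating Opens.isGenerating Opens.isQC_of_mem
  have hfp := Groth.TFin.fp_of_coherent hgen (coherent_eps W hW hW')
  haveI : PreservesColimitsOfShape Λ (coyoneda.obj (op (_root_.ToposFin.eps (Opens.Jz X) W))) := by
    constructor
    intro D
    haveI : IsIso (colimit.post D (coyoneda.obj (op (_root_.ToposFin.eps (Opens.Jz X) W)))) :=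
      (isIso_iff_bijective _).2 (hfp Λ D)
    exact preservesColimit_of_isIso_post _ _
  let e : sheafCompose (Opens.Jz X) (forget AddCommGrpCat.{u}) ⋙
      coyoneda.obj (op (_root_.ToposFin.eps (Opens.Jz X) W)) ≅
      (sheafToPresheaf (Opens.Jz X) AddCommGrpCat.{u} ⋙
        (evaluation (X.Opens)ᵒᵖ AddCommGrpCat.{u}).obj (op W)) ⋙ forget AddCommGrpCat.{u} :=
    NatIso.ofComponents (fun F => (CanonSheaf.pt W _).toIso) (fun {F G} φ => by
      ext g
      exact CanonSheaf.pt_comp g _)
  haveI : PreservesColimitsOfShape Λ ((sheafToPresheaf (Opens.Jz X) AddCommGrpCat.{u} ⋙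
      (evaluation (X.Opens)ᵒᵖ AddCommGrpCat.{u}).obj (op W)) ⋙ forget AddCommGrpCat.{u}) :=
    preservesColimitsOfShape_of_natIso e
  haveI : ReflectsColimitsOfShape Λ (forget AddCommGrpCat.{u}) :=
    reflectsColimitsOfShape_of_reflectsIsomorphisms
  exact preservesColimitsOfShape_of_reflects_of_preserves _ (forget AddCommGrpCat.{u})

/-- Sections of modules over compact quasi-separated opens commute with filtered colimits. -/
lemma preservesColimitsOfShape_sect (W : X.Opens) (hW : IsCompact (W : Set X))
    (hW' : IsQuasiSeparated (W : Set X)) : PreservesColimitsOfShape Λ (sect W) := by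
  haveI := preservesColimitsOfShape_sections (Λ := Λ) W hW hW'
  haveI : PreservesColimitsOfShape Λ (SheafOfModules.toSheaf.{u} X.ringCatSheaf) :=
    Groth.Agent.Lib.Modules.ToSheaf.toSheaf_preservesColimitsOfShape _ _
  let G : X.Modules ⥤ AddCommGrpCat.{u} := SheafOfModules.toSheaf.{u} X.ringCatSheaf ⋙
    sheafToPresheaf (Opens.Jz X) AddCommGrpCat.{u} ⋙
      (evaluation (X.Opens)ᵒᵖ AddCommGrpCat.{u}).obj (op W)
  haveI : PreservesColimitsOfShape Λ G := comp_preservesColimitsOfShape
    (SheafOfModules.toSheaf.{u} X.ringCatSheaf) _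
  exact preservesColimitsOfShape_of_natIso (F := G) (NatIso.ofComponents (fun _ => Iso.refl _))

/-- A filtered colimit of injective modules is acyclic for sections over compact quasi-separated opens. -/
lemma acyc_colimit [HasDerivedCategory.{w} X.Modules] (D : Λ ⥤ X.Modules) (hD : ∀ i, Injective (D.obj i))
    (W : X.Opens) (hW : IsCompact (W : Set X)) (hW' : IsQuasiSeparated (W : Set X)) :
    Acyc (sect W) (colimit D) := by
  intro n hn
  refine isZero_RS_sect W 0 (colimit D) (fun p hp => ?_) n (by lia)
  obtain ⟨q, rfl⟩ : ∃ q, p = q + 1 := ⟨p - 1, by omega⟩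
  haveI : PreservesColimitsOfShape Λ (SheafOfModules.toSheaf.{u} X.ringCatSheaf) :=
    Groth.Agent.Lib.Modules.ToSheaf.toSheaf_preservesColimitsOfShape _ _
  let F : X.Modules ⥤ Sheaf (Opens.Jz X) AddCommGrpCat.{u} := SheafOfModules.toSheaf.{u} X.ringCatSheaf
  haveI : PreservesColimitsOfShape Λ F :=
    Groth.Agent.Lib.Modules.ToSheaf.toSheaf_preservesColimitsOfShape _ _
  haveI := Opens.subsingleton_HU_colimit (D ⋙ F) (fun i => by
    haveI := hD i
    exact ⟨fun {U V} g => (AddCommGrpCat.epi_iff_surjective _).2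
      (CohDelta.Flasque.surjective_res (D.obj i) (leOfHom g.unop))⟩) W hW hW' q
  refine subsingleton_of_forall_eq 0 fun x => ?_
  let x' : Abelian.Ext.{u} (ZarCoh.Basic.Zs.obj W) (F.obj (colimit D)) (q + 1) := x
  have h0 : x'.comp (Abelian.Ext.mk₀ (preservesColimitIso F D).hom) (add_zero _) = 0 :=
    Subsingleton.elim (α := CohTop.HU (colimit (D ⋙ F)) (q + 1) W) _ 0
  have h1 := congrArg (fun t : Abelian.Ext.{u} (ZarCoh.Basic.Zs.obj W) (colimit (D ⋙ F)) (q + 1) =>
    t.comp (Abelian.Ext.mk₀ (preservesColimitIso F D).inv) (add_zero _)) h0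
  simp only [Abelian.Ext.comp_assoc_of_third_deg_zero, Abelian.Ext.mk₀_comp_mk₀, Iso.hom_inv_id,
    Abelian.Ext.comp_mk₀_id, Abelian.Ext.zero_comp] at h1
  exact h1

variable {S : Scheme.{u}}

/-- Direct images along quasi-compact quasi-separated morphisms commute with filtered colimits. -/
theorem preservesColimitsOfShape_pushforward (f : X ⟶ S) [QuasiCompact f] [QuasiSeparated f] :
    PreservesColimitsOfShape Λ (Scheme.Modules.pushforward f) := by
  constructor
  intro D
  haveI : IsIso (colimit.post D (Scheme.Modules.pushforward f)) := by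
    apply (isIso_iff_of_reflects_iso _ (SheafOfModules.toSheaf.{u} S.ringCatSheaf)).1
    refine TopCat.Sheaf.isIso_iff_isIso_basis (B := fun V : S.affineOpens => V.1) (by
      simpa using! S.isBasis_affineOpens) fun V => ?_
    haveI := preservesColimitsOfShape_sect (Λ := Λ) V.1 V.2.isCompact V.2.isQuasiSeparated
    haveI := preservesColimitsOfShape_sect (Λ := Λ) (f ⁻¹ᵁ V.1) (f.isCompact_preimage V.2.isCompact)
      (f.isQuasiSeparated_preimage V.2.isQuasiSeparated)
    haveI : PreservesColimit D (Scheme.Modules.pushforward f ⋙ sect V.1) :=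
      preservesColimit_of_natIso D (F := sect (f ⁻¹ᵁ V.1)) (NatIso.ofComponents fun _ => Iso.refl _)
    have h : IsIso ((sect V.1).map (colimit.post D (Scheme.Modules.pushforward f))) := by
      haveI : IsIso (colimit.post D (Scheme.Modules.pushforward f ⋙ sect V.1)) := inferInstance
      haveI : IsIso (colimit.post (D ⋙ Scheme.Modules.pushforward f) (sect V.1)) := inferInstance
      exact IsIso.of_isIso_fac_left (colimit.post_post D (Scheme.Modules.pushforward f) (sect V.1))
    exact h
  exact preservesColimit_of_isIso_post _ _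

end Groth.Agent.Lib.SchColim29.Modules
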