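import Groth.Agent.Lib.SchColim29.RHomLocal
import Groth.Agent.Lib.PCoh.Cone

/-!
# Internal Hom into a bounded complex of injectives with coherent cohomology

For a bounded complex `I` of injectives only finitely many cohomology modules of a complex `L`
contribute to a given cohomology module of `Hom(L, I)`, so coherence and bounds are exchanged.
-/

set_option autoImplicit false
set_option linter.unusedSectionVars false
set_option linter.style.haveILetI false

universe u

open CategoryTheory CategoryTheory.Limits AlgebraicGeometry HomologicalComplex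

attribute [local instance] HasDerivedCategory.standard

namespace Groth.Agent.Lib.SchColim29.RHomFid

open Groth.Agent.Lib Groth.Agent.Lib.DerivedOX
open DualHom DualQis DualExact LeftRes
open Groth.Agent.Lib.Perfect Groth.Agent.Lib.Perfect.Basic Groth.Agent.Lib.Perfect.PseudoCoh
open RHomLocal

variable {X : Scheme.{u}}

lemma isZero_tensorCx_X_lower {A B : CochainComplex X.Modules ℤ} {a b : ℤ}
    (hA : ∀ i, i < a → IsZero (A.X i)) (hB : ∀ i, i < b → IsZero (B.X i)) (n : ℤ) (hn : n < a + b) :
    IsZero (((DCoh.tensorCx.obj A).obj B).X n) := by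
  rw [IsZero.iff_id_eq_zero]
  refine mapBifunctor.hom_ext fun p q h => IsZero.eq_of_src ?_ _ _
  change p + q = n at h
  by_cases hp : p < a
  · exact ((DCoh.tensorBi (X := X)).flip.obj (B.X q)).map_isZero (hA p hp)
  · exact ((DCoh.tensorBi (X := X)).obj (A.X p)).map_isZero (hB q (by omega))

/-- Cohomology of `Hom(C, J)` vanishes in degrees `n` with `b < n + c` when `C ≥ c` and `J ≤ b`. -/
theorem isZero_homology_Hc_upper (J C : CochainComplex X.Modules ℤ) (c b : ℤ) [C.IsStrictlyGE c]
    [J.IsStrictlyLE b] (n : ℤ) (hn : b < n + c) : IsZero (((Hc C).obj J).homology n) := by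
  let H := (Hc C).obj J
  let g : (single X.Modules (ComplexShape.up ℤ) n).obj (H.cycles n) ⟶ H :=
    mkHomFromSingle (H.iCycles n) (fun k _ => H.iCycles_d n k)
  have hg : g = 0 := by
    apply ((adj C).homEquiv _ J).symm.injective
    refine HomologicalComplex.hom_ext _ _ fun k => ?_
    by_cases hk : k < n + c
    · exact (isZero_tensorCx_X_lower (a := n) (b := c)
        (fun i hi => isZero_single_obj_X (ComplexShape.up ℤ) n (H.cycles n) i (ne_of_lt hi))
        (fun i hi => C.isZero_of_isStrictlyGE c i hi) k hk).eq_of_src _ _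
    · exact (J.isZero_of_isStrictlyLE b k (by omega)).eq_of_tgt _ _
  have h0 : H.iCycles n = 0 := by
    have h := congrArg (fun φ => φ.f n) hg
    simpa [g, mkHomFromSingle_f] using h
  have hz : IsZero (H.cycles n) :=
    (IsZero.iff_id_eq_zero _).2 ((cancel_mono (H.iCycles n)).1 (by simp [h0]))
  exact IsZero.of_epi (H.homologyπ n) hz

variable {J : CochainComplex X.Modules ℤ} [J.IsKInjective]

/-- The same for a complex with cohomology only in degrees `≥ c`. -/
theorem isZero_homology_Hc_of_isGE (hJ : InjTerms J) (C : CochainComplex X.Modules ℤ) (c b : ℤ)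
    [C.IsGE c] [J.IsStrictlyLE b] (n : ℤ) (hn : b < n + c) : IsZero (((Hc C).obj J).homology n) := by
  haveI : QuasiIso (C.πTruncGE c) := (C.quasiIso_πTruncGE_iff c).2 inferInstance
  have hq := qisAt_pre (V := ⊤) hJ (C.πTruncGE c) (QisAt.of_quasiIso _)
  haveI : QuasiIso ((pre (C.πTruncGE c)).app J) :=
    (Qis.quasiIso_iff_forall_stalk _).2 fun x => hq x trivial
  exact (isZero_homology_Hc_upper J (C.truncGE c) c b n hn).of_iso
    (isoOfQuasiIsoAt ((pre (C.πTruncGE c)).app J) n).symm

/-- Coherence of the cohomology of `Hom(P, J)` for `P` bounded above with coherent cohomology. -/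
theorem isCoh_homology_Hc_of_isLE [IsLocallyNoetherian X] (hJ : InjTerms J) (a : ℤ)
    [J.IsStrictlyGE a] (hJc : ∀ i, Coh.IsCoh (J.homology i)) (P : CochainComplex X.Modules ℤ) (b : ℤ)
    [P.IsLE b] (hP : ∀ i, Coh.IsCoh (P.homology i)) (n : ℤ) :
    Coh.IsCoh (((Hc P).obj J).homology n) :=
  Perfect.Coherent.isCoh_of_cover fun x => by
    let F := DerivedCategory.homologyFunctorFactors X.Modules
    haveI : (DerivedCategory.Q.obj P).IsLE b := (DerivedCategory.isLE_Q_obj_iff P b).2 inferInstance
    obtain ⟨V, hxV, h⟩ := exists_of_pcAt hJ a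
      (Perfect.PCCoh.pcAt_of_coh (a - n - 1) (b + 1 - (a - n - 1)).toNat (DerivedCategory.Q.obj P) b
        (by omega) inferInstance
        (fun i _ _ => CohBasics.Closure.isCoh_of_iso ((F i).app P).symm (hP i)) x)
    exact ⟨V, V.ι, inferInstance, ⟨x, hxV⟩, rfl,
      h (cohCls X) (fun k => RefHull.LocFree.isCoh_restrict (hJc k) V) n (by omega)⟩

/-- Coherence of the cohomology of `Hom(P, J)` for `P` with coherent cohomology and `J` bounded. -/
theorem isCoh_homology_Hc [IsLocallyNoetherian X] (hJ : InjTerms J) (a b : ℤ) [J.IsStrictlyGE a]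
    [J.IsStrictlyLE b] (hJc : ∀ i, Coh.IsCoh (J.homology i)) (P : CochainComplex X.Modules ℤ)
    (hP : ∀ i, Coh.IsCoh (P.homology i)) (n : ℤ) :
    Coh.IsCoh (((Hc P).obj J).homology n) := by
  let t : ℤ := b - n + 2
  let ι := P.ιTruncLE t
  let C := CochainComplex.mappingCone ι
  let P' := (P.truncLE t)⟦(1 : ℤ)⟧
  have hC : ∀ k, b < k + t → IsZero (((Hc C).obj J).homology k) := fun k hk => by
    haveI : C.IsGE t := (C.isGE_iff t).2 fun i hi => by
      haveI := P.quasiIsoAt_ιTruncLE t i (by omega)
      haveI := P.quasiIsoAt_ιTruncLE t (i + 1) (by omega)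
      exact PCoh.Cone.exactAt_of_epi_of_mono ι i (i + 1) rfl
    exact isZero_homology_Hc_of_isGE hJ C t b k hk
  have hP' : ∀ i, IsZero (P'.homology i) ∨ Nonempty (P'.homology i ≅ P.homology (i + 1)) := fun i => by
    let e : P'.homology i ≅ (P.truncLE t).homology (i + 1) :=
      ((HomologicalComplex.homologyFunctor X.Modules (ComplexShape.up ℤ) 0).shiftIso (1 : ℤ) i (i + 1)
        (add_comm 1 i)).app (P.truncLE t)
    by_cases hi : i + 1 ≤ t
    · haveI := P.quasiIsoAt_ιTruncLE t (i + 1) hi
      exact Or.inr ⟨e ≪≫ isoOfQuasiIsoAt (P.ιTruncLE t) (i + 1)⟩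
    · exact Or.inl (IsZero.of_iso (HomologicalComplex.ExactAt.isZero_homology
        (HomologicalComplex.ExactAt.of_isZero
          ((P.truncLE t).isZero_of_isStrictlyLE t (i + 1) (by omega)))) e)
  haveI : P'.IsLE (t - 1) := (P'.isLE_iff (t - 1)).2 fun i hi =>
    (HomologicalComplex.exactAt_iff_isZero_homology _ _).2 <| by
      refine IsZero.of_iso (HomologicalComplex.ExactAt.isZero_homology
        (HomologicalComplex.ExactAt.of_isZero
          ((P.truncLE t).isZero_of_isStrictlyLE t (i + 1) (by omega)))) ?_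
      exact ((HomologicalComplex.homologyFunctor X.Modules (ComplexShape.up ℤ) 0).shiftIso (1 : ℤ) i
        (i + 1) (add_comm 1 i)).app (P.truncLE t)
  have hc' : ∀ k, Coh.IsCoh (((Hc P').obj J).homology k) :=
    isCoh_homology_Hc_of_isLE hJ a hJc P' (t - 1) fun i => by
      obtain h | ⟨⟨e⟩⟩ := hP' i
      · exact CohPush.isCoh_of_isZero h
      · exact CohBasics.Closure.isCoh_of_iso e.symm (hP (i + 1))
  have s := shortExact_hcSC
    (HomologicalComplex.shortExact_of_degreewise_shortExact _
      fun k => (LocalTor.Split.coneSplitting ι k).shortExact)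
    (fun k => IsSplitMono.mk' ⟨(LocalTor.Split.coneSplitting ι k).r,
      (LocalTor.Split.coneSplitting ι k).f_r⟩) hJ
  exact CohPush.isCoh_mid _ _ _ _ _ _ _
    (s.homology_exact₂ n) (s.homology_exact₃ n (n + 1) (by simp))
    (s.homology_exact₁ n (n + 1) (by simp))
    (hc' n).1 (CohPush.isCoh_of_isZero (hC n (by omega)))
    (hc' (n + 1)) (CohPush.isCoh_of_isZero (hC (n + 1) (by omega))).1

end Groth.Agent.Lib.SchColim29.RHomFid
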