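import Groth.Prelude.Def_DCoh2
import Groth.Agent.Lib.DerCat.Compact
import Groth.Agent.Lib.DerivedOX.TensorCoprod
import Groth.Agent.Lib.DerivedOX.Exists
import Groth.Agent.Lib.DerivedOX.RestrictRpush
import Groth.Agent.Lib.DR.ExactPush

/-!
# Compactness with respect to uniformly bounded below families: formal properties
-/

set_option autoImplicit false
set_option linter.style.haveILetI false
set_option linter.unusedSectionVars false

universe v v' u u' w

open CategoryTheory CategoryTheory.Limits CategoryTheory.Pretriangulated AlgebraicGeometry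
open CohDer Groth.Agent.Lib.DerCat.Compact

attribute [local instance] HasDerivedCategory.standard

namespace Groth.Agent.Lib.SchColim29.CompactB

section Adj

variable {C : Type u} [Category.{v} C] [Preadditive C] {D : Type u'} [Category.{v} D] [Preadditive D]

/-- Transport along an adjunction whose right adjoint preserves the given direct sum. -/
lemma mem_range_of_adj {L : C ⥤ D} {R : D ⥤ C} (adj : L ⊣ R) [L.Additive] {ι : Type v}
    (M : ι → D) [HasCoproduct M] [HasCoproduct fun i => R.obj (M i)] [IsIso (sigmaComparison R M)]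
    {K : C} (hK : ∀ g : K ⟶ ∐ fun i => R.obj (M i), g ∈ (homSumToHomCoprod K _).range)
    (f : L.obj K ⟶ ∐ M) : f ∈ (homSumToHomCoprod (L.obj K) M).range := by
  let H := adj.homAddEquiv K (∐ M)
  let θ := asIso (sigmaComparison R M)
  obtain ⟨s, hs⟩ := exists_cut (fun i => R.obj (M i)) (hK ((H f) ≫ θ.inv))
  have hf : f = H.symm (((H f ≫ θ.inv) ≫ cut _ s) ≫ θ.hom) := by
    rw [hs, Category.assoc, θ.inv_hom_id, Category.comp_id, AddEquiv.symm_apply_apply]
  rw [hf, cut, Preadditive.comp_sum, Preadditive.sum_comp, map_sum]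
  refine AddSubgroup.sum_mem _ fun i _ => ?_
  have e1 : ∀ (g : K ⟶ R.obj (M i)),
      H.symm (g ≫ R.map (Sigma.ι M i)) = (adj.homEquiv K (M i)).symm g ≫ Sigma.ι M i := fun g =>
    adj.homEquiv_naturality_right_symm g (Sigma.ι M i)
  have e2 : Sigma.ι (fun i => R.obj (M i)) i ≫ θ.hom = R.map (Sigma.ι M i) :=
    ι_comp_sigmaComparison _ _ i
  simp only [Category.assoc]
  rw [e2, ← Category.assoc, ← Category.assoc, e1]
  exact ι_comp_mem_range M i _

end Adj

variable {X : Scheme.{u}}

/-- Compactness with respect to uniformly bounded below families. -/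
def CptB (K : DCoh.D X) : Prop :=
  ∀ (I : Type u) (M : ULift.{u + 1} I → DCoh.D X) [HasCoproduct M] (a : ℤ), (∀ i, (M i).IsGE a) →
    ∀ f : K ⟶ ∐ M, f ∈ (homSumToHomCoprod K M).range

variable {K L : DCoh.D X}

lemma CptB.of_retract (r : Retract L K) (h : CptB K) : CptB L := fun I M _ a ha f => by
  have := comp_mem_range M (h I M a ha (r.r ≫ f)) r.i
  rwa [← Category.assoc, r.retract, Category.id_comp] at this

lemma CptB.of_iso (e : K ≅ L) (h : CptB K) : CptB L :=
  CptB.of_retract ⟨e.inv, e.hom, e.inv_hom_id⟩ h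

lemma CptB.of_isZero (h : IsZero K) : CptB K := fun I M _ a _ f => by
  rw [h.eq_of_src f 0]; exact AddSubgroup.zero_mem _

lemma CptB.ext₂ (T : Triangle (DCoh.D X)) (hT : T ∈ distinguishedTriangles)
    (h₁ : CptB T.obj₁) (h₃ : CptB T.obj₃) : CptB T.obj₂ := fun I M _ a ha f => by
  obtain ⟨s, hs⟩ := exists_cut M (h₁ I M a ha (T.mor₁ ≫ f))
  obtain ⟨g, hg⟩ := Triangle.yoneda_exact₂ T hT (f - f ≫ cut M s) (by
    rw [Preadditive.comp_sub, ← Category.assoc, hs, sub_self])
  have h := comp_mem_range M (h₃ I M a ha g) T.mor₂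
  rw [← hg] at h
  have := AddSubgroup.add_mem _ h (comp_cut_mem_range M f s)
  rwa [sub_add_cancel] at this

lemma CptB.shift (h : CptB K) (n : ℤ) : CptB (K⟦n⟧) := fun I M _ a ha f => by
  let R := shiftFunctor (DCoh.D X) (-n)
  let adj : shiftFunctor (DCoh.D X) n ⊣ R := (shiftEquiv (DCoh.D X) n).toAdjunction
  have : R.IsEquivalence := inferInstance
  have hc : HasCoproduct fun i => R.obj (M i) :=
    hasColimit_of_iso (F := Discrete.functor M ⋙ R) (Discrete.natIso fun _ => Iso.refl _)
  exact mem_range_of_adj adj M (h I _ (a + n) fun i => by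
    have := ha i
    exact DerivedCategory.TStructure.t.isGE_shift (M i) a (-n) (a + n) (by omega)) f

section Rep

variable {I : Type u}

/-- Coproducts in `D(O_X)` are computed by representing complexes. -/
lemma exists_coprodIso (M : ULift.{u + 1} I → DCoh.D X) [HasCoproduct M]
    (B : I → CochainComplex X.Modules ℤ) (e : ∀ i, M ⟨i⟩ ≅ DerivedCategory.Q.obj (B i)) :
    ∃ θ : (∐ M) ≅ DerivedCategory.Q.obj (∐ B),
      ∀ i, Sigma.ι M ⟨i⟩ ≫ θ.hom = (e i).hom ≫ DerivedCategory.Q.map (Sigma.ι B i) := by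
  haveI := DerivedOX.TensorCoprod.preservesColimit_Q B
  let hQ := isColimitCofanMkObjOfIsColimit DerivedCategory.Q B _ (coproductIsCoproduct B)
  let p : (∐ M) ⟶ DerivedCategory.Q.obj (∐ B) :=
    Sigma.desc fun i => (e i.down).hom ≫ DerivedCategory.Q.map (Sigma.ι B i.down)
  let q : DerivedCategory.Q.obj (∐ B) ⟶ ∐ M :=
    Cofan.IsColimit.desc hQ fun i => (e i).inv ≫ Sigma.ι M ⟨i⟩
  have hq : ∀ i, DerivedCategory.Q.map (Sigma.ι B i) ≫ q = (e i).inv ≫ Sigma.ι M ⟨i⟩ := fun i =>
    Cofan.IsColimit.fac hQ _ i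
  refine ⟨⟨p, q, ?_, ?_⟩, fun i => Sigma.ι_desc _ _⟩
  · refine Sigma.hom_ext _ _ fun ⟨i⟩ => ?_
    simp [p, hq]
  · refine Cofan.IsColimit.hom_ext hQ _ _ fun i => ?_
    refine ((Category.assoc _ _ _).symm.trans (congrArg (· ≫ p) (hq i))).trans ?_
    simp [p]

lemma hasCoproduct_ulift (M : ULift.{u + 1} I → DCoh.D X) : HasCoproduct M := by
  let B : I → CochainComplex X.Modules ℤ := fun i => DerivedCategory.Q.objPreimage (M ⟨i⟩)
  let e : ∀ i, M ⟨i⟩ ≅ DerivedCategory.Q.obj (B i) := fun i => (DerivedCategory.Q.objObjPreimageIso _).symm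
  haveI := DerivedOX.TensorCoprod.preservesColimit_Q B
  let hQ := isColimitCofanMkObjOfIsColimit DerivedCategory.Q B _ (coproductIsCoproduct B)
  refine HasColimit.mk ⟨Cofan.mk (DerivedCategory.Q.obj (∐ B))
    fun i => (e i.down).hom ≫ DerivedCategory.Q.map (Sigma.ι B i.down), ?_⟩
  refine Cofan.IsColimit.mk _ (fun s => Cofan.IsColimit.desc hQ fun i => (e i).inv ≫ s.inj ⟨i⟩)
    (fun s i => ?_) fun s m hm => Cofan.IsColimit.hom_ext hQ _ _ fun i => ?_
  · change ((e i.down).hom ≫ DerivedCategory.Q.map (Sigma.ι B i.down)) ≫ _ = _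
    rw [Category.assoc]
    refine (congrArg ((e i.down).hom ≫ ·) (Cofan.IsColimit.fac hQ _ i.down)).trans ?_
    exact (e i.down).hom_inv_id_assoc _
  · refine Eq.trans ?_ (Cofan.IsColimit.fac hQ _ i).symm
    rw [← hm ⟨i⟩]
    exact ((e i).eq_inv_comp).2 (Category.assoc _ _ _).symm

end Rep

section Functor

variable {Y : Scheme.{u}} (G : X.Modules ⥤ Y.Modules) [G.Additive] [PreservesFiniteLimits G]
  [PreservesFiniteColimits G] [G.IsLeftAdjoint]

/-- An exact left adjoint commutes with direct sums on derived categories. -/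
lemma isIso_sigmaComparison {I : Type u} (M : ULift.{u + 1} I → DCoh.D X) [HasCoproduct M]
    [HasCoproduct fun i => G.mapDerivedCategory.obj (M i)] :
    IsIso (sigmaComparison G.mapDerivedCategory M) := by
  let B : I → CochainComplex X.Modules ℤ := fun i => DerivedCategory.Q.objPreimage (M ⟨i⟩)
  let e : ∀ i, M ⟨i⟩ ≅ DerivedCategory.Q.obj (B i) := fun i => (DerivedCategory.Q.objObjPreimageIso _).symm
  obtain ⟨θ, hθ⟩ := exists_coprodIso M B e
  let GC := G.mapHomologicalComplex (ComplexShape.up ℤ)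
  haveI : G.rightAdjoint.Additive := (Adjunction.ofIsLeftAdjoint G).right_adjoint_additive
  haveI : (G.mapHomologicalComplex (ComplexShape.up ℤ)).IsLeftAdjoint :=
    (DerCat.DerAdj.adjC (Adjunction.ofIsLeftAdjoint G) (ComplexShape.up ℤ)).isLeftAdjoint
  haveI : PreservesColimit (Discrete.functor B) GC :=
    ((Adjunction.ofIsLeftAdjoint GC).leftAdjoint_preservesColimits).preservesColimitsOfShape.preservesColimit
  let F := G.mapDerivedCategoryFactors
  obtain ⟨θ', hθ'⟩ := exists_coprodIso (fun i => G.mapDerivedCategory.obj (M i))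
    (fun i => GC.obj (B i)) fun i => G.mapDerivedCategory.mapIso (e i) ≪≫ F.app (B i)
  have key : sigmaComparison G.mapDerivedCategory M = θ'.hom ≫
      DerivedCategory.Q.map (sigmaComparison GC B) ≫ F.inv.app _ ≫ G.mapDerivedCategory.map θ.inv := by
    refine Sigma.hom_ext _ _ fun ⟨i⟩ => ?_
    rw [ι_comp_sigmaComparison, reassoc_of% (hθ' i), ← DerivedCategory.Q.map_comp_assoc,
      ι_comp_sigmaComparison]
    have e1 : Sigma.ι M ⟨i⟩ = (e i).hom ≫ DerivedCategory.Q.map (Sigma.ι B i) ≫ θ.inv := by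
      rw [← reassoc_of% (hθ i), θ.hom_inv_id, Category.comp_id]
    conv_lhs => rw [e1, Functor.map_comp, Functor.map_comp]
    simp only [Iso.trans_hom, Functor.mapIso_hom, Category.assoc, Iso.app_hom]
    congr 1
    exact (NatIso.naturality_2_assoc F (Sigma.ι B i) _).symm
  rw [key]
  infer_instance

end Functor

end Groth.Agent.Lib.SchColim29.CompactB
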