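import Groth.Agent.Lib.SchColim29.Modules
import Mathlib.CategoryTheory.Limits.Constructions.Filtered
import Mathlib.CategoryTheory.Preadditive.AdditiveFunctor

/-!
# Direct sums as filtered colimits of finite sums
-/

set_option autoImplicit false
set_option linter.style.haveILetI false

universe w u v v'

open CategoryTheory CategoryTheory.Limits Opposite AlgebraicGeometry
open CategoryTheory.Limits.CoproductsFromFiniteFiltered
open Groth.Agent.Lib.WayOut.Scheme Groth.Agent.Lib.SpecSeq.AcyclicComplex

namespace Groth.Agent.Lib.SchColim29.Coprod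

variable {A : Type v} [Category.{u} A] {B : Type v'} [Category.{u} B]

/-- A functor preserving finite coproducts and filtered colimits preserves coproducts. -/
lemma preservesColimit_discrete (G : A ⥤ B) {ι : Type u} (M : ι → A) [HasFiniteCoproducts A]
    [HasFiniteCoproducts B] [HasColimitsOfShape (Finset (Discrete ι)) A] [HasCoproduct M]
    [PreservesFiniteCoproducts G] [PreservesColimitsOfShape (Finset (Discrete ι)) G] :
    PreservesColimit (Discrete.functor M) G := by
  refine preservesColimit_of_preserves_colimit_cocone (coproductIsCoproduct M) ?_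
  let hT := isColimitOfPreserves G (isColimitFiniteSubproductsCocone M)
  let L := liftToFinsetObj (Discrete.functor M)
  have key : ∀ (S : Finset (Discrete ι)) (y : S), G.map (Sigma.ι (fun x : S => M x.1.as) y) ≫
      G.map (Sigma.desc fun x : S => Sigma.ι M x.1.as) = G.map (Sigma.ι M y.1.as) := fun S y => by
    rw [← G.map_comp, Sigma.ι_desc]
  haveI : ∀ S : Finset (Discrete ι), PreservesColimitsOfShape (Discrete S) G := fun S => inferInstance
  have hiso : ∀ S : Finset (Discrete ι), IsIso (sigmaComparison G fun x : S => M x.1.as) :=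
    fun S => inferInstance
  let leg : ∀ (s : Cocone (Discrete.functor M ⋙ G)) (S : Finset (Discrete ι)), G.obj (∐ fun x : S => M x.1.as) ⟶ s.pt :=
    fun s S => @inv _ _ _ _ (sigmaComparison G fun x : S => M x.1.as) (hiso S) ≫ Sigma.desc fun x => s.ι.app x.1
  haveI := hiso
  have hleg : ∀ (s : Cocone (Discrete.functor M ⋙ G)) (S : Finset (Discrete ι)) (y : S),
      G.map (Sigma.ι (fun x : S => M x.1.as) y) ≫ leg s S = s.ι.app y.1 := fun s S y => by
    refine (congrArg (· ≫ leg s S) (ι_comp_sigmaComparison G (fun x : S => M x.1.as) y).symm).trans ?_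
    refine (Category.assoc _ _ _).trans ?_
    refine (congrArg (Sigma.ι (fun x : S => G.obj (M x.1.as)) y ≫ ·)
      (IsIso.hom_inv_id_assoc (sigmaComparison G fun x : S => M x.1.as) _)).trans ?_
    exact Sigma.ι_desc _ _
  have hext : ∀ (S : Finset (Discrete ι)) {Z : B} (p q : G.obj (L.obj S) ⟶ Z),
      (∀ y : S, G.map (Sigma.ι (fun x : S => M x.1.as) y) ≫ p =
        G.map (Sigma.ι (fun x : S => M x.1.as) y) ≫ q) → p = q := fun S Z p q h => by
    have : sigmaComparison G (fun x : S => M x.1.as) ≫ p = sigmaComparison G _ ≫ q :=
      Sigma.hom_ext _ _ fun y =>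
        ((Category.assoc _ _ _).symm.trans
          (congrArg (· ≫ p) (ι_comp_sigmaComparison G (fun x : S => M x.1.as) y))).trans
        ((h y).trans ((Category.assoc _ _ _).symm.trans
          (congrArg (· ≫ q) (ι_comp_sigmaComparison G (fun x : S => M x.1.as) y))).symm)
    exact (cancel_epi (sigmaComparison G fun x : S => M x.1.as)).1 this
  let cc : Cocone (Discrete.functor M ⋙ G) → Cocone (L ⋙ G) := fun s =>
    { pt := s.pt
      ι :=
        { app := leg s
          naturality := fun S T h => hext S _ _ fun y => by
            refine Eq.trans ?_ (congrArg (G.map _ ≫ ·) (Category.comp_id _).symm)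
            refine ((Category.assoc _ _ _).symm.trans ?_).trans (hleg s S y).symm
            refine (congrArg (· ≫ leg s T) (G.map_comp _ _).symm).trans ?_
            exact (congrArg (fun t => G.map t ≫ leg s T)
              (Sigma.ι_desc (fun y : S => Sigma.ι (fun x : T => M x.1.as) ⟨y, h.down.down y.2⟩) y)).trans
              (hleg s T ⟨y, h.down.down y.2⟩) } }
  refine ⟨fun s => hT.desc (cc s), fun s j => ?_, fun s m hm => hT.hom_ext fun S => hext S _ _ fun y => ?_⟩
  · have h1 := hT.fac (cc s) {j}
    let y : ({j} : Finset (Discrete ι)) := ⟨j, Finset.mem_singleton_self j⟩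
    refine Eq.trans ?_ (hleg s {j} y)
    refine (congrArg (· ≫ hT.desc (cc s)) (key {j} y).symm).trans ((Category.assoc _ _ _).trans ?_)
    exact congrArg (G.map _ ≫ ·) h1
  · refine ((Category.assoc _ _ _).symm.trans (congrArg (· ≫ m) (key S y))).trans ((hm y.1).trans ?_)
    refine (hleg s S y).symm.trans ?_
    exact congrArg (G.map _ ≫ ·) (hT.fac (cc s) S).symm

variable {X : Scheme.{u}} {ι : Type u}

lemma preservesColimit_pushforward {S : Scheme.{u}} (f : X ⟶ S) [QuasiCompact f] [QuasiSeparated f]
    (M : ι → X.Modules) [HasCoproduct M] :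
    PreservesColimit (Discrete.functor M) (Scheme.Modules.pushforward f) := by
  classical
  haveI := Modules.preservesColimitsOfShape_pushforward (Λ := Finset (Discrete ι)) f
  haveI : PreservesFiniteCoproducts (Scheme.Modules.pushforward f) := inferInstance
  exact preservesColimit_discrete _ M

lemma acyc_coproduct [HasDerivedCategory.{w} X.Modules] (M : ι → X.Modules) [HasCoproduct M]
    (hM : ∀ i, Injective (M i)) (W : X.Opens) (hW : IsCompact (W : Set X))
    (hW' : IsQuasiSeparated (W : Set X)) : Acyc (sect W) (∐ M) := by
  classical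
  let e : colimit (liftToFinsetObj (Discrete.functor M)) ≅ ∐ M :=
    (colimit.isColimit (liftToFinsetObj (Discrete.functor M))).coconePointUniqueUpToIso
      (isColimitFiniteSubproductsCocone M)
  refine acyc_of_iso _ e (Modules.acyc_colimit _ (fun S => ?_) W hW hW')
  haveI : ∀ x : S, Injective (M x.1.as) := fun x => hM _
  haveI : HasFiniteBiproducts X.Modules := HasFiniteBiproducts.of_hasFiniteProducts
  exact Injective.of_iso (biproduct.isoCoproduct fun x : S => M x.1.as) inferInstance

end Groth.Agent.Lib.SchColim29.Coprod
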