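import Groth.Agent.Lib.SchColim29.CompactB
import Groth.Agent.Lib.SchColim29.RpushBounded
import Groth.Agent.Lib.SchColim29.Coprod
import Groth.Agent.Lib.DerivedOX.TildeEquiv

/-!
# Global sections and compactness: the base case `O_X[n]`
-/

set_option autoImplicit false
set_option linter.style.haveILetI false
set_option linter.unusedSectionVars false

universe u

open CategoryTheory CategoryTheory.Limits CategoryTheory.Pretriangulated AlgebraicGeometry
open HomologicalComplex Opposite
open CohDer Groth.Agent.Lib.DerCat.Compact Groth.Agent.Lib.DerivedOX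

attribute [local instance] HasDerivedCategory.standard

namespace Groth.Agent.Lib.SchColim29.CompactBase

open WayOut.Scheme

variable {X : Scheme.{u}}

/-- A quasi-isomorphism in abelian groups lifts cocycles up to boundaries. -/
lemma exists_cocycle_lift {K L : CochainComplex AddCommGrpCat.{u} ℤ} (i : K ⟶ L) [QuasiIso i] (n : ℤ)
    (s : L.X n) (hs : (L.d n (n + 1)).hom s = 0) :
    ∃ (t : K.X n) (y : L.X (n - 1)), (K.d n (n + 1)).hom t = 0 ∧
      (L.d (n - 1) n).hom y = (i.f n).hom t - s := by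
  obtain ⟨z, hz⟩ := MLSeq.Complex.exists_cycle L (show (ComplexShape.up ℤ).Rel n (n + 1) from rfl) s hs
  have hiso : IsIso (HomologicalComplex.homologyMap i n) := inferInstance
  obtain ⟨c, hc⟩ := ((ConcreteCategory.isIso_iff_bijective _).1 hiso).2 ((L.homologyπ n).hom z)
  obtain ⟨w, rfl⟩ := MLSeq.Complex.homologyπ_surjective K n c
  have h1 : (L.homologyπ n).hom ((cyclesMap i n).hom w - z) = 0 := by
    rw [map_sub, sub_eq_zero, ← hc]
    exact (ConcreteCategory.congr_hom (homologyπ_naturality i n) w).symm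
  obtain ⟨y, hy⟩ := (MLSeq.Complex.homologyπ_eq_zero_iff L (sub_add_cancel n 1) _).1 h1
  refine ⟨(K.iCycles n).hom w, y, MLSeq.Complex.d_iCycles K n (n + 1) w, ?_⟩
  rw [← MLSeq.Complex.iCycles_toCycles L (n - 1) n y, hy, map_sub, ← hz]
  congr 1
  exact ConcreteCategory.congr_hom (cyclesMap_i i n) w

/-- Sections of a direct sum of complexes have finite support. -/
lemma exists_cut_fix {I : Type u} (B : I → CochainComplex X.Modules ℤ) (W : X.Opens)
    (hW : IsCompact (W : Set X)) (hW' : IsQuasiSeparated (W : Set X)) (n : ℤ)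
    (t : (sect W).obj ((∐ B).X n)) :
    ∃ F : Finset I, ((sect W).map ((cut B F).f n)).hom t = t := by
  classical
  let ev := HomologicalComplex.eval X.Modules (ComplexShape.up ℤ) n
  haveI := Modules.preservesColimitsOfShape_sect (Λ := Finset (Discrete I)) W hW hW'
  haveI : PreservesFiniteCoproducts (sect W) := inferInstance
  haveI := Coprod.preservesColimit_discrete (sect W) (fun i => (B i).X n)
  haveI : PreservesColimit (Discrete.functor B) ev := inferInstance
  haveI : PreservesColimit (Discrete.functor B ⋙ ev) (sect W) :=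
    preservesColimit_of_iso_diagram _ (K₁ := Discrete.functor fun i => (B i).X n)
      (Discrete.natIso fun _ => Iso.refl _)
  let hc := isColimitCofanMkObjOfIsColimit (ev ⋙ sect W) B _ (coproductIsCoproduct B)
  let P : AddSubgroup ((sect W).obj ((∐ B).X n)) :=
    ⨆ i, ((sect W).map ((Sigma.ι B i).f n)).hom.range
  have htop : P = ⊤ := by
    have h0 : AddCommGrpCat.ofHom (QuotientAddGroup.mk' P) = 0 := by
      refine Cofan.IsColimit.hom_ext hc _ _ fun i => ?_
      ext x
      refine (QuotientAddGroup.eq_zero_iff _).2 ?_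
      exact AddSubgroup.mem_iSup_of_mem i ⟨x, rfl⟩
    rw [eq_top_iff]
    intro x _
    exact (QuotientAddGroup.eq_zero_iff x).1 (ConcreteCategory.congr_hom h0 x)
  have ht : t ∈ P := htop ▸ AddSubgroup.mem_top t
  refine AddSubgroup.iSup_induction _ (C := fun x => ∃ F : Finset I, ((sect W).map ((cut B F).f n)).hom x = x) ht ?_ ?_ ?_
  · intro i x hx
    obtain ⟨y, rfl⟩ := hx
    refine ⟨{i}, ?_⟩
    rw [← ConcreteCategory.comp_apply, ← Functor.map_comp, ← HomologicalComplex.comp_f, ι_cut,
      if_pos (Finset.mem_singleton_self i)]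
  · exact ⟨∅, map_zero _⟩
  · intro x y hx hy
    obtain ⟨F, hF⟩ := hx
    obtain ⟨G, hG⟩ := hy
    refine ⟨F ∪ G, ?_⟩
    rw [map_add]
    congr 1
    · conv_lhs => rw [← hF]
      rw [← ConcreteCategory.comp_apply, ← Functor.map_comp, ← HomologicalComplex.comp_f,
        cut_comp B Finset.subset_union_left, hF]
    · conv_lhs => rw [← hG]
      rw [← ConcreteCategory.comp_apply, ← Functor.map_comp, ← HomologicalComplex.comp_f,
        cut_comp B Finset.subset_union_right, hG]

/-- The generator `gen ⊤` placed in degree `n`, as an object of `D(O_X)`. -/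
noncomputable abbrev G₀ (X : Scheme.{u}) (n : ℤ) : DCoh.D X :=
  DerivedCategory.Q.obj ((single X.Modules (ComplexShape.up ℤ) n).obj (FlatGen.gen ⊤))

/-- Maps from `O_X[-n]` into a direct sum computed by acyclic representatives. -/
lemma mem_range_of_quasiIso_sect [CompactSpace X] [QuasiSeparatedSpace X] {I : Type u}
    (M : ULift.{u + 1} I → DCoh.D X) [HasCoproduct M] (B : I → CochainComplex X.Modules ℤ)
    (e : ∀ i, M ⟨i⟩ ≅ DerivedCategory.Q.obj (B i)) {J : CochainComplex X.Modules ℤ} [J.IsKInjective]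
    (j : (∐ B) ⟶ J) [QuasiIso j]
    [QuasiIso (((sect (X := X) ⊤).mapHomologicalComplex (ComplexShape.up ℤ)).map j)]
    (n : ℤ) (f : G₀ X n ⟶ ∐ M) : f ∈ (homSumToHomCoprod (G₀ X n) M).range := by
  classical
  obtain ⟨θ, hθ⟩ := CompactB.exists_coprodIso M B e
  obtain ⟨φ, hφ⟩ := TildeEquiv.exists_map_of_kinj (f ≫ θ.hom ≫ DerivedCategory.Q.map j)
  let g₀ : FlatGen.gen ⊤ ⟶ J.X n := (singleObjXSelf (.up ℤ) n _).inv ≫ φ.f n
  let T := sect (X := X) ⊤
  let T' := T.mapHomologicalComplex (ComplexShape.up ℤ)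
  let e₀ := fun (M : X.Modules) => FlatGen.genHomEquiv (⊤ : X.Opens) M
  have hg₀ : ∀ k, (ComplexShape.up ℤ).Rel n k → g₀ ≫ J.d n k = 0 := fun k _ => by
    simp only [g₀, Category.assoc, φ.comm, single_obj_d, zero_comp, comp_zero]
  have hφ' : φ = mkHomFromSingle g₀ hg₀ := from_single_hom_ext (by
    simp only [g₀, mkHomFromSingle_f, Iso.hom_inv_id_assoc])
  have hd : ∀ (C : CochainComplex X.Modules ℤ) (a b : ℤ) (s : FlatGen.gen ⊤ ⟶ C.X a),
      e₀ (C.X b) (s ≫ C.d a b) = ((T'.obj C).d a b).hom (e₀ (C.X a) s) :=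
    fun C a b s => GammaAcyclic.genHomEquiv_comp _ (C.d a b) s
  obtain ⟨t, y, ht, hy⟩ := exists_cocycle_lift (T'.map j) n (e₀ (J.X n) g₀)
    ((hd J n (n + 1) g₀).symm.trans
      ((congrArg (e₀ _) (hg₀ (n + 1) rfl)).trans (GammaAcyclic.genHomEquiv_zero _ _)))
  obtain ⟨F, hF⟩ := exists_cut_fix B ⊤ CompactSpace.isCompact_univ isQuasiSeparated_univ n t
  obtain ⟨g, hg⟩ := (e₀ ((∐ B).X n)).surjective t
  obtain ⟨h, hh⟩ := (e₀ (J.X (n - 1))).surjective y
  have hgd : ∀ k, (ComplexShape.up ℤ).Rel n k → g ≫ (∐ B).d n k = 0 := fun k hk => by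
    obtain rfl : n + 1 = k := hk
    refine (e₀ _).injective ((hd _ n (n + 1) g).trans ?_)
    rw [hg, ht]
    exact (GammaAcyclic.genHomEquiv_zero _ _).symm
  have hgF : g ≫ (cut B F).f n = g :=
    (e₀ _).injective ((GammaAcyclic.genHomEquiv_comp _ _ g).trans
      ((congrArg _ hg).trans (hF.trans hg.symm)))
  have hdiff : h ≫ J.d (n - 1) n = g ≫ j.f n - g₀ := by
    refine (e₀ _).injective ((hd J (n - 1) n h).trans ?_)
    rw [hh, hy, ← hg]
    refine (eq_sub_of_add_eq ?_).symm
    exact (GammaAcyclic.genHomEquiv_add _ _ _ _).symm.trans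
      ((congrArg (e₀ _) (sub_add_cancel _ _)).trans (GammaAcyclic.genHomEquiv_comp _ _ g))
  let ψ := mkHomFromSingle g hgd
  have hψ : ψ ≫ cut B F = ψ := from_single_hom_ext (by
    simp only [ψ, HomologicalComplex.comp_f, mkHomFromSingle_f, Category.assoc, hgF])
  have key : DerivedCategory.Q.map (ψ ≫ j) = f ≫ θ.hom ≫ DerivedCategory.Q.map j := by
    rw [← hφ, hφ', GammaAcyclic.mkHomFromSingle_comp]
    have hz : (HomotopyCategory.quotient X.Modules (.up ℤ)).map (mkHomFromSingle (g ≫ j.f n)
        (fun k hk => by rw [Category.assoc, j.comm, ← Category.assoc, hgd k hk, zero_comp])) =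
        (HomotopyCategory.quotient X.Modules (.up ℤ)).map (mkHomFromSingle g₀ hg₀) := by
      have h0 := (GammaAcyclic.quotient_map_mkHomFromSingle_eq_zero_iff n (g ≫ j.f n - g₀)
        (fun k hk => by rw [Preadditive.sub_comp, Category.assoc, j.comm, ← Category.assoc, hgd k hk,
          zero_comp, hg₀ k hk, sub_zero])).2 ⟨h, hdiff⟩
      rw [← sub_eq_zero, ← Functor.map_sub, ← h0]
      congr 1
      exact from_single_hom_ext (by simp [mkHomFromSingle_f])
    rw [← cancel_mono ((DerivedCategory.quotientCompQhIso _).inv.app J),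
      DerivedCategory.quotientCompQhIso_inv_naturality, DerivedCategory.quotientCompQhIso_inv_naturality, hz]
  rw [Functor.map_comp, ← Category.assoc f, cancel_mono] at key
  have hf : f = DerivedCategory.Q.map ψ ≫ θ.inv := by rw [key, Category.assoc, θ.hom_inv_id, Category.comp_id]
  rw [hf, ← hψ, cut, Preadditive.comp_sum, Functor.map_sum, Preadditive.sum_comp]
  refine AddSubgroup.sum_mem _ fun i _ => ?_
  have hι : DerivedCategory.Q.map (Sigma.ι B i) ≫ θ.inv = (e i).inv ≫ Sigma.ι M ⟨i⟩ := by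
    rw [Iso.comp_inv_eq, Category.assoc, hθ, Iso.inv_hom_id_assoc]
  rw [Functor.map_comp, Functor.map_comp]
  simp only [Category.assoc]
  rw [hι, ← Category.assoc (DerivedCategory.Q.map (proj B i)), ← Category.assoc]
  exact ι_comp_mem_range M ⟨i⟩ _

open Groth.Agent.Lib.SpecSeq.AcyclicComplex in
/-- `O_X` is compact with respect to uniformly bounded below families. -/
theorem cptB_gen [CompactSpace X] [QuasiSeparatedSpace X] (n : ℤ) : CompactB.CptB (G₀ X n) := by
  intro I M _ a ha f
  have hex : ∀ i : I, ∃ (B : CochainComplex X.Modules ℤ), B.IsStrictlyGE a ∧ (∀ k, Injective (B.X k)) ∧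
      Nonempty (M ⟨i⟩ ≅ DerivedCategory.Q.obj B) := fun i => by
    haveI := ha ⟨i⟩
    obtain ⟨K, hK, ⟨e⟩⟩ := (M ⟨i⟩).exists_iso_Q_obj_of_isGE a
    obtain ⟨L, l, hl, hL, hLa⟩ := CochainComplex.Plus.modelCategoryQuillen.exists_quasiIso_injective K a
    haveI := hl
    exact ⟨L, hLa, hL, ⟨e ≪≫ asIso (DerivedCategory.Q.map l)⟩⟩
  choose B hBa hB e using hex
  haveI : (∐ B).IsStrictlyGE a := by
    rw [CochainComplex.isStrictlyGE_iff]
    intro k hk
    refine IsZero.of_iso ?_ (PreservesCoproduct.iso (HomologicalComplex.eval X.Modules (ComplexShape.up ℤ) k) B)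
    rw [IsZero.iff_id_eq_zero]
    exact Sigma.hom_ext _ _ fun i => by
      haveI := hBa i
      exact (CochainComplex.isZero_of_isStrictlyGE (B i) a k hk).eq_of_src _ _
  obtain ⟨J, j, hj, hJ, hJa⟩ := CochainComplex.Plus.modelCategoryQuillen.exists_quasiIso_injective (∐ B) a
  haveI := hj
  haveI : J.IsKInjective := isKInjective_of_isStrictlyGE J a hJ
  haveI : QuasiIso (((sect (X := X) ⊤).mapHomologicalComplex (ComplexShape.up ℤ)).map j) := by
    refine (quasiIso_iff_acyclic_mappingCone _).2 fun m => ?_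
    have := CochainComplex.isStrictlyGE_mappingCone j a a (a - 1)
    exact (exactAt_map_of_acyclic (sect ⊤) (CochainComplex.mappingCone j) (a - 1)
      ((quasiIso_iff_acyclic_mappingCone j).1 inferInstance) (fun k => acyc_of_iso _
        (HomologicalComplex.homotopyCofiber.XIsoBiprod j k (k + 1) rfl).symm
        (acyc_biprod _ (acyc_of_iso _
            (PreservesCoproduct.iso (HomologicalComplex.eval X.Modules (ComplexShape.up ℤ) (k + 1)) B).symm
            (Coprod.acyc_coproduct _ (fun i => hB i (k + 1)) ⊤ CompactSpace.isCompact_univ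
              isQuasiSeparated_univ))
          (have := hJ k; acyc_injective _ (J.X k)))) m).of_iso
      (CochainComplex.mappingCone.mapHomologicalComplexIso j (sect ⊤))
  exact mem_range_of_quasiIso_sect M B (fun i => (e i).some) j n f

end Groth.Agent.Lib.SchColim29.CompactBase
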