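import Groth.Agent.Lib.SchColim29.CompactLocal
import Groth.Agent.Lib.SchColim29.TensorVanish

/-!
# Perfect objects are compact under finite cohomological dimension
-/

set_option autoImplicit false
set_option linter.style.haveILetI false
set_option linter.unusedSectionVars false

universe u

open CategoryTheory CategoryTheory.Limits CategoryTheory.Pretriangulated AlgebraicGeometry
open HomologicalComplex Opposite
open CohDer Groth.Agent.Lib.DerCat.Compact Groth.Agent.Lib.DerivedOX
open Groth.Agent.Lib.Perfect.Basic Groth.Agent.Lib.SchColim29.CompactB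

attribute [local instance] HasDerivedCategory.standard

namespace Groth.Agent.Lib.SchColim29.CompactFinCd

open LocKill

variable {X : Scheme.{u}}

/-- Restricted to a good open, the object is free there. -/
lemma exists_freeOn {U : X.Opens} {K : DCoh.D X} (h : CompactLocal.GoodMap U.ι K) :
    ∃ p q : ℤ, FreeOn U p q ((LD U).obj K) := by
  obtain ⟨P, a, b, hv, hf, ⟨e⟩⟩ := h
  refine ⟨a, b, ((CxOX.extZero U.ι).mapHomologicalComplex (ComplexShape.up ℤ)).obj P,
    fun i hi => (CxOX.extZero U.ι).map_isZero (hv i hi), fun i => ?_, ⟨?_⟩⟩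
  · obtain ⟨m, ⟨em⟩⟩ := hf i
    exact ⟨m, ⟨(CxOX.extZero U.ι).mapIso em ≪≫ (GenSupport.nonempty_extZero_free U m).some⟩⟩
  · let K₀ := DerivedCategory.Q.objPreimage K
    let e₀ := DerivedCategory.Q.objObjPreimageIso K
    exact (LD U).mapIso e₀.symm ≪≫ (LDQ U).app K₀ ≪≫ (MVExtZero.LCIso U K₀).symm ≪≫
      (CxOX.extZeroD U.ι).mapIso ((DCoh.restrictD U.ι).mapIso e₀ ≪≫ e) ≪≫
      (CxOX.extZero U.ι).mapDerivedCategoryFactors.app P

/-- Perfect objects have no maps to very negative objects. -/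
theorem exists_vanishing [CompactSpace X] [QuasiSeparatedSpace X] (K : DCoh.D X) (hK : DCoh.IsPerfect K)
    (d : ℕ) (hd : ∀ (F : X.Modules) (i : ℕ), d < i → Subsingleton (Coh.HH X F i)) :
    ∃ m : ℤ, ∀ N : DCoh.D X, N.IsLE m → ∀ f : K ⟶ N, f = 0 := by
  obtain ⟨k, V, -, hcov, hgood⟩ := CompactLocal.exists_good_cover K hK
  choose p q hfree using fun i => exists_freeOn (hgood i)
  obtain ⟨p₀, hp₀⟩ : ∃ p₀ : ℤ, ∀ i, p₀ ≤ p i := (Set.finite_range p).bddBelow.imp
    fun _ h i => h ⟨i, rfl⟩
  let K₀ := DerivedCategory.Q.objPreimage K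
  let P := (KFlat.res X).obj K₀
  haveI : QuasiIso ((KFlat.aug X).app K₀) := KFlat.quasiIso_aug K₀
  let e : DerivedCategory.Q.obj P ≅ K := asIso (DerivedCategory.Q.map ((KFlat.aug X).app K₀)) ≪≫
    DerivedCategory.Q.objObjPreimageIso K
  refine ⟨p₀ - d - 1, fun N hN f => (cancel_epi e.hom).1 ?_⟩
  rw [comp_zero]
  refine TensorVanish.eq_zero (KFlat.isKFlat_res K₀) d hd (p₀ := p₀) (fun x => ?_) (by omega) hN _
  obtain ⟨i, hi⟩ := TopologicalSpace.Opens.mem_iSup.1 (hcov.ge (show x ∈ (⊤ : X.Opens) from trivial))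
  exact ⟨V i, p i, q i, hi, hp₀ i, (hfree i).of_iso ((LD (V i)).mapIso e.symm)⟩

/-- If `H^k(g)` is invertible for `k ≥ n` then `g` is bijective on maps out of an object with no
maps to `≤ n`. -/
lemma bijective_comp {K A B : DCoh.D X} (g : A ⟶ B) (n : ℤ)
    (hg : ∀ k, n ≤ k → IsIso ((DerivedCategory.homologyFunctor X.Modules k).map g))
    (hK : ∀ N : DCoh.D X, N.IsLE n → ∀ f : K ⟶ N, f = 0) :
    Function.Bijective fun h : K ⟶ A => h ≫ g := by
  obtain ⟨Z, a, b, hT⟩ := distinguished_cocone_triangle g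
  have hZ : ∀ k, n ≤ k → IsZero ((DerivedCategory.homologyFunctor X.Modules k).obj Z) := fun k hk => by
    haveI := hg k hk
    haveI := hg (k + 1) (by omega)
    have h2 := DerivedCategory.HomologySequence.exact₂ _ hT k
    have h3 := DerivedCategory.HomologySequence.exact₃ _ hT k (k + 1) rfl
    let F := DerivedCategory.homologyFunctor X.Modules k
    refine h3.isZero_X₂ ?_ ?_
    · exact (cancel_epi (F.map g)).1 (((F.map_comp _ _).symm.trans
        ((congrArg F.map (comp_distTriang_mor_zero₁₂ _ hT)).trans (F.map_zero _ _))).trans comp_zero.symm)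
    · exact (cancel_mono ((DerivedCategory.homologyFunctor X.Modules (k + 1)).map g)).1
        ((DerivedCategory.HomologySequence.δ_comp _ hT k (k + 1) rfl).trans zero_comp.symm)
  have hZn : Z.IsLE n := (DerivedCategory.isLE_iff Z n).2 fun i hi => hZ i (by omega)
  have hZn' : (Z⟦(-1 : ℤ)⟧).IsLE n := by
    have : Z.IsLE (n - 1) := (DerivedCategory.isLE_iff Z (n - 1)).2 fun i hi => hZ i (by omega)
    exact DerivedCategory.TStructure.t.isLE_shift Z (n - 1) (-1) n (by omega)
  refine ⟨fun h h' e => ?_, fun f => ?_⟩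
  · obtain ⟨c, hc⟩ := Triangle.coyoneda_exact₂ _ (inv_rot_of_distTriang _ hT) (h - h') (by
      change (h - h') ≫ g = 0
      rw [Preadditive.sub_comp]
      exact sub_eq_zero.2 e)
    exact sub_eq_zero.1 (hc.trans ((congrArg (· ≫ _) (hK _ hZn' c)).trans zero_comp))
  · obtain ⟨h, hh⟩ := Triangle.coyoneda_exact₂ _ hT f (hK Z hZn (f ≫ a))
    exact ⟨h, hh.symm⟩

/-- Unbounded families. -/
theorem surjective_of_finCd [CompactSpace X] [QuasiSeparatedSpace X] (K : DCoh.D X) (hK : DCoh.IsPerfect K)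
    (d : ℕ) (hd : ∀ (F : X.Modules) (i : ℕ), d < i → Subsingleton (Coh.HH X F i))
    (I : Type u) (M : ULift.{u + 1} I → DCoh.D X) [HasCoproduct M] (f : K ⟶ ∐ M) :
    f ∈ (homSumToHomCoprod K M).range := by
  obtain ⟨n, hn⟩ := exists_vanishing K hK d hd
  let B : I → CochainComplex X.Modules ℤ := fun i => DerivedCategory.Q.objPreimage (M ⟨i⟩)
  let e : ∀ i, M ⟨i⟩ ≅ DerivedCategory.Q.obj (B i) := fun i =>
    (DerivedCategory.Q.objObjPreimageIso _).symm
  let B' : I → CochainComplex X.Modules ℤ := fun i => (B i).truncGE n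
  let π : ∀ i, B i ⟶ B' i := fun i => (B i).πTruncGE n
  let M' : ULift.{u + 1} I → DCoh.D X := fun i => DerivedCategory.Q.obj (B' i.down)
  haveI := hasCoproduct_ulift M'
  let g : ∀ i, M i ⟶ M' i := fun i => (e i.down).hom ≫ DerivedCategory.Q.map (π i.down)
  have hπ : ∀ i k, n ≤ k → IsIso (HomologicalComplex.homologyMap (π i) k) := fun i k hk => by
    obtain ⟨j, rfl⟩ : ∃ j : ℕ, k = n + j := ⟨(k - n).toNat, by omega⟩
    exact (quasiIsoAt_iff_isIso_homologyMap _ _).1
      ((B i).quasiIsoAt_πTruncGE n (n + j) (by omega))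
  have hQ : ∀ {A C : CochainComplex X.Modules ℤ} (u : A ⟶ C) (k : ℤ),
      IsIso (HomologicalComplex.homologyMap u k) →
        IsIso ((DerivedCategory.homologyFunctor X.Modules k).map (DerivedCategory.Q.map u)) :=
    fun u k h => (NatIso.isIso_map_iff (DerivedCategory.homologyFunctorFactors X.Modules k) u).2 h
  have hg : ∀ i, Function.Bijective fun h : K ⟶ M i => h ≫ g i := fun i =>
    bijective_comp (g i) n (fun k hk => by
      haveI := hQ (π i.down) k (hπ i.down k hk)
      rw [Functor.map_comp]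
      infer_instance) hn
  obtain ⟨θ, hθ⟩ := exists_coprodIso M B e
  obtain ⟨θ', hθ'⟩ := exists_coprodIso M' B' fun i => Iso.refl _
  let φ : (∐ M) ⟶ ∐ M' := Limits.Sigma.map g
  have hφ : φ = θ.hom ≫ DerivedCategory.Q.map (Limits.Sigma.map π) ≫ θ'.inv := by
    refine Sigma.hom_ext _ _ fun ⟨i⟩ => ?_
    have h' : DerivedCategory.Q.map (Sigma.ι B' i) ≫ θ'.inv = Sigma.ι M' ⟨i⟩ := by
      rw [Iso.comp_inv_eq, hθ', Iso.refl_hom]
      exact (Category.id_comp _).symm
    have h'' : DerivedCategory.Q.map (Sigma.ι B i) ≫ DerivedCategory.Q.map (Limits.Sigma.map π) ≫ θ'.inv =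
        DerivedCategory.Q.map (π i) ≫ Sigma.ι M' ⟨i⟩ := by
      rw [← Category.assoc, ← Functor.map_comp, Sigma.ι_map, Functor.map_comp, Category.assoc, h']
    refine (Sigma.ι_map _ _).trans ?_
    rw [reassoc_of% (hθ i)]
    exact (Category.assoc _ _ _).trans (congrArg ((e i).hom ≫ ·) h''.symm)
  have hφiso : ∀ k, n ≤ k → IsIso ((DerivedCategory.homologyFunctor X.Modules k).map φ) := fun k hk => by
    have h1 : IsIso (HomologicalComplex.homologyMap (Limits.Sigma.map π) k) := by
      let H := HomologicalComplex.homologyFunctor X.Modules (ComplexShape.up ℤ) k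
      haveI : ∀ i, IsIso (H.map (π i)) := fun i => hπ i k hk
      have e1 : sigmaComparison H B ≫ H.map (Limits.Sigma.map π) =
          Limits.Sigma.map (fun i => H.map (π i)) ≫ sigmaComparison H B' := by
        refine Sigma.hom_ext _ _ fun i => ?_
        rw [ι_comp_sigmaComparison_assoc, Sigma.ι_map_assoc, ι_comp_sigmaComparison,
          ← Functor.map_comp, ← Functor.map_comp, Sigma.ι_map]
      haveI : IsIso (sigmaComparison H B ≫ H.map (Limits.Sigma.map π)) := by
        rw [e1]; infer_instance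
      exact IsIso.of_isIso_comp_left (sigmaComparison H B) (H.map (Limits.Sigma.map π))
    haveI := hQ _ k h1
    rw [hφ, Functor.map_comp, Functor.map_comp]
    infer_instance
  have hmem : f ≫ φ ∈ (homSumToHomCoprod K M').range :=
    CompactLocal.cptB_of_isPerfect K hK I M' n (fun i => inferInstance) _
  have hle : (homSumToHomCoprod K M').range ≤
      ((homSumToHomCoprod K M).range).map (Preadditive.rightComp K φ) := by
    refine range_le M' fun i h => ?_
    obtain ⟨h', rfl⟩ := (hg i).2 h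
    refine ⟨h' ≫ Sigma.ι M i, ι_comp_mem_range M i h', ?_⟩
    change (h' ≫ Sigma.ι M i) ≫ φ = (h' ≫ g i) ≫ Sigma.ι M' i
    simp [φ]
  obtain ⟨f', hf', e'⟩ := hle hmem
  rwa [← (bijective_comp φ n hφiso hn).1 e']

end Groth.Agent.Lib.SchColim29.CompactFinCd
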