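import Groth.Agent.Lib.SchColim29.CompactBase
import Groth.Agent.Lib.DerivedOX.MVExtZero
import Groth.Agent.Lib.DerivedOX.OpenImm
import Groth.Agent.Lib.Perfect.EulerChar
import Groth.Agent.Lib.PCoh.Derived3

/-!
# Perfect objects are compact for uniformly bounded below families
-/

set_option autoImplicit false
set_option linter.style.haveILetI false
set_option linter.unusedSectionVars false

universe u

open CategoryTheory CategoryTheory.Limits CategoryTheory.Pretriangulated AlgebraicGeometry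
open HomologicalComplex Opposite
open CohDer Groth.Agent.Lib.DerCat.Compact Groth.Agent.Lib.DerivedOX
open Groth.Agent.Lib.Perfect.Basic Groth.Agent.Lib.Perfect.Triangle
open Groth.Agent.Lib.SchColim29.CompactB

attribute [local instance] HasDerivedCategory.standard

namespace Groth.Agent.Lib.SchColim29.CompactLocal

variable {X Y : Scheme.{u}}

lemma exists_retract_unit (X : Scheme.{u}) :
    Nonempty (Retract (Coh.structureModule X) (FlatGen.gen (⊤ : X.Opens))) := by
  let one : Γ(Coh.structureModule X, ⊤) := (1 : Γ(X, ⊤))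
  obtain ⟨a, ha⟩ := (FlatGen.genHomEquiv (⊤ : X.Opens) (Coh.structureModule X)).surjective one
  let b : Coh.structureModule X ⟶ FlatGen.gen (⊤ : X.Opens) :=
    Modules.Free.unitHom _ (FlatGen.genHomEquiv (⊤ : X.Opens) _ (𝟙 _))
  refine ⟨⟨b, a, Modules.Free.unitHom_ext ?_⟩⟩
  refine (show _ = a.app ⊤ (b.app ⊤ one) from rfl).trans ?_
  refine (congrArg (a.app ⊤) (Modules.Free.unitHom_app_one _ _)).trans ?_
  refine (GammaAcyclic.genHomEquiv_comp (⊤ : X.Opens) a (𝟙 _)).symm.trans ?_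
  rw [Category.id_comp]
  exact ha

lemma isZero_modules_of_isEmpty [IsEmpty X] (M : X.Modules) : IsZero M := by
  have : IsIso (0 : M ⟶ M) := (Modules.StalkModule.isIso_iff_stalkMapₗ_bijective _).2 fun x => isEmptyElim x
  rw [IsZero.iff_id_eq_zero]
  rw [← IsIso.inv_hom_id (0 : M ⟶ M), comp_zero]

lemma cptB_biprod {K L : DCoh.D X} (hK : CptB K) (hL : CptB L) : CptB (K ⊞ L) :=
  CptB.ext₂ _ (binaryBiproductTriangle_distinguished K L) hK hL

/-- Free modules of finite rank in a single degree. -/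
theorem cptB_single_free [CompactSpace X] [QuasiSeparatedSpace X] (m : ℕ) (n : ℤ) :
    CptB ((DerivedCategory.singleFunctor X.Modules n).obj (FlatMod.freeMod X m)) := by
  classical
  let S := DerivedCategory.singleFunctor X.Modules n
  have hu : CptB (S.obj (Coh.structureModule X)) :=
    CptB.of_retract ((exists_retract_unit X).some.map S)
      ((CompactBase.cptB_gen n).of_iso (((DerivedCategory.singleFunctorIsoCompQ X.Modules n).app _).symm))
  haveI : HasFiniteBiproducts X.Modules := HasFiniteBiproducts.of_hasFiniteProducts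
  let U : Fin m → X.Modules := fun _ => Coh.structureModule X
  let pr : ∀ i : Fin m, (∐ U) ⟶ U i := fun i => Sigma.desc fun j => if j = i then 𝟙 _ else 0
  have htot : 𝟙 (∐ U) = ∑ i : Fin m, pr i ≫ Sigma.ι U i := Sigma.hom_ext _ _ fun j => by
    rw [Category.comp_id, Preadditive.comp_sum, Finset.sum_eq_single j
      (fun i _ hi => by simp [pr, Ne.symm hi]) (fun h => absurd (Finset.mem_univ j) h)]
    simp [pr]
  intro I M _ a ha f
  have hf : f = ∑ i : Fin m, S.map (pr i) ≫ S.map (Sigma.ι U i) ≫ f := by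
    conv_lhs => rw [← Category.id_comp f, ← CategoryTheory.Functor.map_id]
    rw [show (𝟙 (FlatMod.freeMod X m)) = _ from htot, Functor.map_sum, Preadditive.sum_comp]
    exact Finset.sum_congr rfl fun i _ => by rw [Functor.map_comp, Category.assoc]
  rw [hf]
  exact AddSubgroup.sum_mem _ fun i _ => comp_mem_range M (hu I M a ha _) _

/-- Bounded complexes of finite free modules. -/
theorem cptB_freeCx [CompactSpace X] [QuasiSeparatedSpace X] (P : CochainComplex X.Modules ℤ) (a b : ℤ)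
    (hv : DCoh.VanishesOutside P a b) (hf : ∀ i, ∃ m, Nonempty (P.X i ≅ FlatMod.freeMod X m)) :
    CptB (DerivedCategory.Q.obj P) := by
  obtain ⟨k, hk⟩ : ∃ k : ℕ, b < a + k := ⟨(b - a + 1).toNat, by omega⟩
  induction k generalizing b P with
  | zero =>
    refine CptB.of_isZero (Functor.map_isZero _ ?_)
    rw [IsZero.iff_id_eq_zero]
    exact HomologicalComplex.hom_ext _ _ fun i => (hv i (by omega)).eq_of_src _ _
  | succ k ih =>
    by_cases hb : b < a + k
    · exact ih P b hv hf hb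
    obtain ⟨P', T, hT, ⟨e₁⟩, ⟨e₂⟩, ⟨e₃⟩, hz, hiso⟩ :=
      PCoh.Derived3.exists_stupid_triangle P b fun i hi => hv i (.inr hi)
    obtain ⟨m, ⟨em⟩⟩ := hf b
    refine (CptB.ext₂ T hT ((cptB_single_free m b).of_iso
      ((DerivedCategory.singleFunctor X.Modules b).mapIso em.symm ≪≫ e₁.symm)) ?_).of_iso e₂
    refine (ih P' (b - 1) ?_ ?_ (by omega)).of_iso e₃.symm
    · intro i hi
      by_cases h : b ≤ i
      · exact hz i h
      · exact (hv i (by omega)).of_iso (hiso i (by omega)).some.symm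
    · intro i
      by_cases h : b ≤ i
      · exact ⟨0, ⟨IsZero.iso (hz i h) ((IsZero.iff_id_eq_zero _).2 (Sigma.hom_ext _ _ fun x => x.elim0))⟩⟩
      · obtain ⟨m, ⟨e⟩⟩ := hf i
        exact ⟨m, ⟨(hiso i (by omega)).some.symm ≪≫ e⟩⟩

/-- Extension by zero preserves compactness for uniformly bounded below families. -/
theorem cptB_extZeroD {U : Scheme.{u}} (j : U ⟶ X) [IsOpenImmersion j] {E : DCoh.D U} (hE : CptB E) :
    CptB ((CxOX.extZeroD j).obj E) := by
  intro I M _ a ha f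
  let adj : CxOX.extZeroD j ⊣ DCoh.restrictD j := RestrictRpush.derivedAdjExact (CxOX.extZeroAdj j)
  haveI : HasCoproduct fun i => (DCoh.restrictD j).obj (M i) := hasCoproduct_ulift _
  haveI : IsIso (sigmaComparison (DCoh.restrictD j) M) :=
    isIso_sigmaComparison (Scheme.Modules.restrictFunctor j) M
  exact mem_range_of_adj adj M (hE I _ a fun i => DR.ExactPush.isGE_map _ (ha i)) f

/-- `L` is free near the image of the open immersion `j`. -/
def GoodMap {V : Scheme.{u}} (j : V ⟶ X) [IsOpenImmersion j] (L : DCoh.D X) : Prop :=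
  ∃ (P : CochainComplex V.Modules ℤ) (a b : ℤ), DCoh.VanishesOutside P a b ∧
    (∀ i, ∃ m, Nonempty (P.X i ≅ FlatMod.freeMod V m)) ∧
    Nonempty ((RD j).obj L ≅ DerivedCategory.Q.obj P)

lemma GoodMap.comp {V W : Scheme.{u}} {j : V ⟶ X} [IsOpenImmersion j] {L : DCoh.D X}
    (h : GoodMap j L) (k : W ⟶ V) [IsOpenImmersion k] : GoodMap (k ≫ j) L := by
  obtain ⟨P, a, b, hv, hf, ⟨e⟩⟩ := h
  refine ⟨(rC k).obj P, a, b, fun i hi => (Scheme.Modules.restrictFunctor k).map_isZero (hv i hi),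
    fun i => ?_, ⟨RDComp k j L ≪≫ (RD k).mapIso e ≪≫ RDQ k P⟩⟩
  obtain ⟨m, ⟨em⟩⟩ := hf i
  exact ⟨m, ⟨(Scheme.Modules.restrictFunctor k).mapIso em ≪≫ Modules.Free.restrictFreeIso k m⟩⟩

lemma GoodMap.congr {V : Scheme.{u}} {j j' : V ⟶ X} [IsOpenImmersion j] [IsOpenImmersion j']
    {L : DCoh.D X} (e : j = j') (h : GoodMap j L) : GoodMap j' L := by
  subst e; exact h

lemma cptB_of_goodMap {V : Scheme.{u}} {j : V ⟶ X} [IsOpenImmersion j] [CompactSpace V]
    [QuasiSeparatedSpace V] {L : DCoh.D X} (h : GoodMap j L) : CptB ((RD j).obj L) := by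
  obtain ⟨P, a, b, hv, hf, ⟨e⟩⟩ := h
  exact (cptB_freeCx P a b hv hf).of_iso e.symm

lemma cptB_of_cover (n : ℕ) : ∀ (X : Scheme.{u}) [CompactSpace X] [QuasiSeparatedSpace X]
    (L : DCoh.D X) (V : Fin n → X.Opens), (∀ i, IsCompact (V i : Set X)) → (⨆ i, V i = ⊤) →
      (∀ i, GoodMap (V i).ι L) → CptB L := by
  induction n with
  | zero =>
    intro X _ _ L V _ hcov _
    haveI : IsEmpty X := ⟨fun x => by
      have : x ∈ (⨆ i, V i : X.Opens) := by rw [hcov]; trivial
      obtain ⟨i, -⟩ := TopologicalSpace.Opens.mem_iSup.1 this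
      exact i.elim0⟩
    refine (CptB.of_isZero ?_).of_iso (DerivedCategory.Q.objObjPreimageIso L)
    refine Functor.map_isZero _ ?_
    rw [IsZero.iff_id_eq_zero]
    exact HomologicalComplex.hom_ext _ _ fun i => (isZero_modules_of_isEmpty _).eq_of_src _ _
  | succ n ih =>
    intro X _ _ L V hV hcov hgood
    let U : X.Opens := ⨆ i : Fin n, V i.succ
    have hU : IsCompact (U : Set X) := by
      simpa [U] using isCompact_iUnion fun i : Fin n => hV i.succ
    have hUV : U ⊔ V 0 = ⊤ := by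
      rw [eq_top_iff, ← hcov]
      refine iSup_le fun i => ?_
      obtain rfl | ⟨i, rfl⟩ := i.eq_zero_or_eq_succ
      · exact le_sup_right
      · exact (le_iSup (fun i : Fin n => V i.succ) i).trans le_sup_left
    haveI : CompactSpace (U : Scheme.{u}) := isCompact_iff_compactSpace.1 hU
    haveI : CompactSpace (V 0 : Scheme.{u}) := isCompact_iff_compactSpace.1 (hV 0)
    have hUV' : IsCompact ((U ⊓ V 0 : X.Opens) : Set X) :=
      QuasiSeparatedSpace.inter_isCompact _ _ U.isOpen hU (V 0).isOpen (hV 0)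
    haveI : CompactSpace ((U ⊓ V 0 : X.Opens) : Scheme.{u}) := isCompact_iff_compactSpace.1 hUV'
    haveI hqs : ∀ W : X.Opens, QuasiSeparatedSpace W := fun W =>
      W.isOpenEmbedding'.quasiSeparatedSpace
    have h₀ : CptB ((DCoh.restrictD (V 0).ι).obj L) := cptB_of_goodMap (hgood 0)
    have h₁ : CptB ((DCoh.restrictD (U ⊓ V 0).ι).obj L) :=
      cptB_of_goodMap (((hgood 0).comp (X.homOfLE inf_le_right)).congr (X.homOfLE_ι _))
    have h₂ : CptB ((DCoh.restrictD U.ι).obj L) := by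
      refine ih U ((RD U.ι).obj L) (fun i => U.ι ⁻¹ᵁ V i.succ) (fun i => ?_) ?_ fun i => ?_
      · rw [U.ι.isOpenEmbedding.isEmbedding.isCompact_iff]
        change IsCompact (U.ι '' (U.ι ⁻¹' (V i.succ : Set X)))
        rw [Set.image_preimage_eq_inter_range, Scheme.Opens.range_ι, Set.inter_eq_left.2
          (show (V i.succ : Set X) ⊆ U from le_iSup (fun i : Fin n => V i.succ) i)]
        exact hV i.succ
      · rw [eq_top_iff]
        rintro ⟨x, hx⟩ -
        obtain ⟨i, hi⟩ := TopologicalSpace.Opens.mem_iSup.1 hx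
        exact TopologicalSpace.Opens.mem_iSup.2 ⟨i, hi⟩
      · let k : (U.ι ⁻¹ᵁ V i.succ : Scheme) ⟶ V i.succ := U.ι ∣_ V i.succ
        obtain ⟨P, a, b, hv, hf, ⟨e⟩⟩ := ((hgood i.succ).comp k).congr (morphismRestrict_ι U.ι (V i.succ))
        exact ⟨P, a, b, hv, hf, ⟨(RDComp _ U.ι L).symm ≪≫ e⟩⟩
    obtain ⟨α, β, γ, hT⟩ := MVExtZero.exists_mv_triangle (U := U) (V := V 0) hUV L
    exact CptB.ext₂ _ (rot_of_distTriang _ hT)
      (cptB_biprod (cptB_extZeroD U.ι h₂) (cptB_extZeroD (V 0).ι h₀))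
      ((cptB_extZeroD (U ⊓ V 0).ι h₁).shift 1)

/-- A perfect object is free on a finite cover by compact opens. -/
lemma exists_good_cover [CompactSpace X] (K : DCoh.D X) (hK : DCoh.IsPerfect K) :
    ∃ (n : ℕ) (V : Fin n → X.Opens), (∀ i, IsCompact (V i : Set X)) ∧ (⨆ i, V i = ⊤) ∧
      ∀ i, GoodMap (V i).ι K := by
  have hloc : ∀ x : X, ∃ W : X.Opens, x ∈ W ∧ IsAffineOpen W ∧ GoodMap W.ι K := fun x => by
    obtain ⟨U, j, _, y, E, rfl, hE, ⟨i⟩⟩ := (isPerfect_iff K).1 hK x
    obtain ⟨V, n, hy, -, he⟩ := Perfect.EulerChar.exists_free_terms hE y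
    obtain ⟨⟨a, b, hv⟩, -⟩ := hE
    have hg : GoodMap (V.ι ≫ j) K := ⟨(rC V.ι).obj E, a, b,
      fun l hl => (Scheme.Modules.restrictFunctor V.ι).map_isZero (hv l hl),
      fun l => ⟨n l, he l⟩, ⟨RDComp V.ι j K ≪≫ (RD V.ι).mapIso i ≪≫ RDQ V.ι E⟩⟩
    obtain ⟨(W : X.Opens), hW, hxW, hWV⟩ := TopologicalSpace.Opens.isBasis_iff_nbhd.1 X.isBasis_affineOpens
      (show j y ∈ (V.ι ≫ j).opensRange from ⟨⟨y, hy⟩, rfl⟩)
    have hr : Set.range W.ι ⊆ Set.range (V.ι ≫ j) := by
      rw [Scheme.Opens.range_ι]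
      exact hWV
    exact ⟨W, hxW, hW, (hg.comp (IsOpenImmersion.lift (V.ι ≫ j) W.ι hr)).congr
      (IsOpenImmersion.lift_fac _ _ hr)⟩
  choose W hxW hWa hWg using hloc
  obtain ⟨s, hs⟩ := isCompact_univ.elim_finite_subcover (fun x => (W x : Set X)) (fun x => (W x).isOpen)
    fun x _ => Set.mem_iUnion.2 ⟨x, hxW x⟩
  refine ⟨s.card, fun i => W (s.equivFin.symm i).1, fun i => (hWa _).isCompact, ?_, fun i => hWg _⟩
  rw [eq_top_iff]
  rintro x -
  obtain ⟨y, hy, hxy⟩ := Set.mem_iUnion₂.1 (hs (Set.mem_univ x))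
  exact TopologicalSpace.Opens.mem_iSup.2 ⟨s.equivFin ⟨y, hy⟩, by simpa using hxy⟩

/-- Perfect objects on qcqs schemes are compact for uniformly bounded below families. -/
theorem cptB_of_isPerfect [CompactSpace X] [QuasiSeparatedSpace X] (K : DCoh.D X) (hK : DCoh.IsPerfect K) :
    CptB K := by
  obtain ⟨n, V, hV, hcov, hgood⟩ := exists_good_cover K hK
  exact cptB_of_cover n X K V hV hcov hgood

end Groth.Agent.Lib.SchColim29.CompactLocal
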