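import Groth.Agent.Lib.SchColim29.CohPush
import Groth.Agent.Lib.DerivedOX.Amplitude
import Groth.Agent.Lib.DerivedOX.LpullQCoh
import Groth.Agent.Lib.LocalTor.Main
import Groth.Agent.Lib.TensorMod.TensorQCoh

/-!
# `M ↦ p^* M ⊗ K` for a kernel `K` flat over the base is exact
-/

set_option autoImplicit false
set_option linter.unusedSectionVars false
set_option linter.style.haveILetI false

universe u

open CategoryTheory Limits AlgebraicGeometry
open scoped TensorProduct

attribute [local instance] HasDerivedCategory.standard

namespace Groth.Agent.Lib.SchColim29.FlatKernel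

open Groth.Agent.Lib Groth.Agent.Lib.DerivedOX Groth.Agent.Lib.Modules.StalkModule

variable {Z X : Scheme.{u}} (p : Z ⟶ X) (K : Z.Modules)

/-- Injectivity after base change and tensoring with a module flat over the base. -/
lemma rTensor_baseChange_injective {A : Type u} (B : Type u) [CommRing A] [CommRing B] [Algebra A B]
    {M M' : Type u} [AddCommGroup M] [Module A M] [AddCommGroup M'] [Module A M'] (P : Type u)
    [AddCommGroup P] [Module A P] [Module B P] [IsScalarTower A B P] [Module.Flat A P]
    (u : M →ₗ[A] M') (hu : Function.Injective u) :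
    Function.Injective (LinearMap.rTensor P (u.baseChange B)) := by
  have h1 : Function.Injective (LinearMap.lTensor P (u.baseChange B)) := by
    have h : ∀ z, TensorProduct.AlgebraTensorModule.cancelBaseChange A B B P M'
        (LinearMap.lTensor P (u.baseChange B) z) =
        LinearMap.lTensor P u (TensorProduct.AlgebraTensorModule.cancelBaseChange A B B P M z) := by
      intro z
      induction z using TensorProduct.induction_on with
      | zero => simp
      | tmul m t =>
        induction t using TensorProduct.induction_on with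
        | zero => simp
        | tmul b n => simp
        | add s t hs ht => simp only [TensorProduct.tmul_add, map_add, hs, ht]
      | add s t hs ht => simp only [map_add, hs, ht]
    intro a b hab
    apply (TensorProduct.AlgebraTensorModule.cancelBaseChange A B B P M).injective
    apply Module.Flat.lTensor_preserves_injective_linearMap u hu
    rw [← h, ← h, hab]
  have h2 : ∀ z, LinearMap.rTensor P (u.baseChange B) z =
      TensorProduct.comm B P (B ⊗[A] M')
        (LinearMap.lTensor P (u.baseChange B) (TensorProduct.comm B (B ⊗[A] M) P z)) := by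
    intro z
    induction z using TensorProduct.induction_on with
    | zero => simp
    | tmul m t => simp
    | add s t hs ht => simp only [map_add, hs, ht]
  intro a b hab
  rw [h2, h2] at hab
  exact (TensorProduct.comm B (B ⊗[A] M) P).injective (h1 ((TensorProduct.comm B P (B ⊗[A] M')).injective hab))

/-- `M ↦ p^* M ⊗ K`. -/
noncomputable abbrev T : X.Modules ⥤ Z.Modules := Scheme.Modules.pullback p ⋙ DCoh.tensorRightMod K

/-- Stalks of `p^* M ⊗ K`. -/
noncomputable def stalkIso (z : Z) : T p K ⋙ stalkModFunctor Z z ≅
    (stalkModFunctor X (p.base z) ⋙ ModuleCat.extendScalars.{u, u, u} (p.stalkMap z).hom) ⋙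
      MonoidalCategory.tensorRight (ModuleCat.of (Z.presheaf.stalk z) (K.presheaf.stalk z)) :=
  Functor.associator _ _ _ ≪≫
    Functor.isoWhiskerLeft (Scheme.Modules.pullback p) (TensorSheaf.tensorRightStalkIso z K :) ≪≫
    (Functor.associator _ _ _).symm ≪≫
    Functor.isoWhiskerRight (PullbackStalk.pullbackStalkIso p z).symm _

theorem mono_map (hK : FlatMod.IsFlatOver p K) {M M' : X.Modules} (u : M ⟶ M') [Mono u] :
    Mono ((T p K).map u) := by
  rw [mono_iff_stalkMapₗ_injective]
  intro z
  let uz := stalkMapₗ u (p.base z)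
  have huz : Function.Injective uz := (mono_iff_stalkMapₗ_injective u).1 inferInstance (p.base z)
  letI := (p.stalkMap z).hom.toAlgebra
  letI : Module (X.presheaf.stalk (p.base z)) (K.presheaf.stalk z) := FlatMod.moduleStalkOver p K z
  haveI : IsScalarTower (X.presheaf.stalk (p.base z)) (Z.presheaf.stalk z) (K.presheaf.stalk z) :=
    IsScalarTower.of_algebraMap_smul fun _ _ => rfl
  haveI : Module.Flat (X.presheaf.stalk (p.base z)) (K.presheaf.stalk z) := hK z
  have h := rTensor_baseChange_injective (Z.presheaf.stalk z) (K.presheaf.stalk z) uz huz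
  have hm : Mono (((stalkModFunctor X (p.base z) ⋙ ModuleCat.extendScalars.{u, u, u} (p.stalkMap z).hom) ⋙
      MonoidalCategory.tensorRight (ModuleCat.of (Z.presheaf.stalk z) (K.presheaf.stalk z))).map u) :=
    (ModuleCat.mono_iff_injective _).2 h
  exact (ModuleCat.mono_iff_injective ((T p K ⋙ stalkModFunctor Z z).map u)).1
    (((MorphismProperty.monomorphisms _).arrow_mk_iso_iff
      ((Functor.mapArrowFunctor _ _).mapIso (stalkIso p K z) |>.app (Arrow.mk u))).2 hm)

theorem preservesHomology (hK : FlatMod.IsFlatOver p K) : (T p K).PreservesHomology := by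
  haveI := (Scheme.Modules.pullbackPushforwardAdjunction p).leftAdjoint_preservesColimits
  haveI : PreservesColimitsOfSize.{0, 0} (Scheme.Modules.pullback p) :=
    (Scheme.Modules.pullbackPushforwardAdjunction p).leftAdjoint_preservesColimits
  haveI : PreservesFiniteColimits (Scheme.Modules.pullback p) :=
    PreservesColimitsOfSize.preservesFiniteColimits _
  haveI : PreservesFiniteColimits (DCoh.tensorRightMod K) :=
    inferInstanceAs (PreservesFiniteColimits ((DCoh.tensorBi (X := Z)).flip.obj K))
  haveI : (T p K).PreservesMonomorphisms := ⟨fun u _ => mono_map p K hK u⟩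
  haveI : PreservesFiniteColimits (T p K) := comp_preservesFiniteColimits _ _
  exact (T p K).preservesHomology_of_preservesMonos_and_cokernels

theorem support_subset (M : X.Modules) : CohB1.support ((T p K).obj M) ⊆ CohB1.support K := by
  intro z hz hK'
  apply hz
  haveI : Subsingleton (K.presheaf.stalk z) := hK'
  let e := ((stalkIso p K z).app M).toLinearEquiv
  haveI h0 : Subsingleton (((ModuleCat.extendScalars.{u, u, u} (p.stalkMap z).hom).obj
      ((stalkModFunctor X (p.base z)).obj M) : Type u) ⊗[Z.presheaf.stalk z] K.presheaf.stalk z) :=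
    subsingleton_of_forall_eq 0 fun t => by
      induction t using TensorProduct.induction_on with
      | zero => rfl
      | tmul c a => rw [Subsingleton.elim a 0, TensorProduct.tmul_zero]
      | add s t hs ht => rw [hs, ht, add_zero]
  exact @Equiv.subsingleton _ _ e.toEquiv h0

theorem isCoh_obj (hK : Coh.IsCoh K) {M : X.Modules} (hM : Coh.IsCoh M) :
    Coh.IsCoh ((T p K).obj M) := by
  haveI := (Cyc.FP.Stalk.isCoh_pullback p hM).1
  haveI := (Cyc.FP.Stalk.isCoh_pullback p hM).2
  haveI := hK.1
  haveI := hK.2
  exact ⟨TensorMod.TensorQCoh.isQCoh_tensorMod ((Scheme.Modules.pullback p).obj M) K,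
    TensorMod.TensorQCoh.isFiniteType_tensorMod ((Scheme.Modules.pullback p).obj M) K⟩

variable [DCoh.HasLpull p] [DCoh.HasLTensorMod K]

/-- The cohomology of `Lp^* M ⊗^L K` is `p^* H^i M ⊗ K`. -/
theorem nonempty_HD_iso (hK : FlatMod.IsFlatOver p K) (M : DCoh.D X) (i : ℤ) :
    Nonempty (DCoh.HD ((DCoh.LTensorMod K).obj ((DCoh.Lpull p).obj M)) i ≅ (T p K).obj (DCoh.HD M i)) := by
  haveI := preservesHomology p K hK
  let M₀ := DerivedCategory.Q.objPreimage M
  let P := (KFlat.res X).obj M₀
  have hP : DCoh.IsKFlat P := KFlat.isKFlat_res M₀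
  haveI : QuasiIso ((KFlat.aug X).app M₀) := KFlat.quasiIso_aug M₀
  let eM : DerivedCategory.Q.obj P ≅ M :=
    asIso (DerivedCategory.Q.map ((KFlat.aug X).app M₀)) ≪≫ DerivedCategory.Q.objObjPreimageIso M
  obtain ⟨a⟩ := LpullQCoh.nonempty_Lpull_iso p hP
  obtain ⟨b⟩ := Amplitude.nonempty_ltensor_iso K (KFlatPullback.isKFlat_pullback p hP)
  let H := DerivedCategory.homologyFunctor X.Modules i
  let H' := DerivedCategory.homologyFunctor Z.Modules i
  exact ⟨H'.mapIso ((DCoh.LTensorMod K).mapIso ((DCoh.Lpull p).mapIso eM.symm ≪≫ a) ≪≫ b) ≪≫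
    (DerivedCategory.homologyFunctorFactors Z.Modules i).app _ ≪≫
    (P.sc i).mapHomologyIso (T p K) ≪≫
    (T p K).mapIso (((DerivedCategory.homologyFunctorFactors X.Modules i).app P).symm ≪≫ H.mapIso eM)⟩

end Groth.Agent.Lib.SchColim29.FlatKernel
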