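import Groth.Agent.Lib.SchColim29.GenSupport
import Groth.Agent.Lib.DerivedOX.GammaAcyclic
import Groth.Agent.Lib.DerivedOX.TildeEquiv
import Groth.Agent.Lib.DR.ExactPush
import Groth.Agent.Lib.PCoh.Derived3
import Groth.Agent.Lib.QCoh.Closure
import Mathlib.CategoryTheory.Localization.Predicate

/-!
# Maps from locally free complexes in high degrees are locally zero
-/

set_option autoImplicit false
set_option linter.style.haveILetI false
set_option linter.unusedSectionVars false

universe u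

open CategoryTheory CategoryTheory.Limits CategoryTheory.Pretriangulated AlgebraicGeometry
open HomologicalComplex Opposite

attribute [local instance] HasDerivedCategory.standard

namespace Groth.Agent.Lib.SchColim29.LocKill

open Groth.Agent.Lib.DerivedOX Groth.Agent.Lib.DerivedOX.MVExtZero GenSupport

variable {X : Scheme.{u}}

instance (W : X.Opens) : PreservesFiniteLimits (L W) :=
  comp_preservesFiniteLimits (Scheme.Modules.restrictFunctor W.ι) (CxOX.extZero W.ι)

instance (W : X.Opens) : PreservesFiniteColimits (L W) :=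
  haveI : PreservesColimitsOfSize.{0, 0} (L W) := (adjW W).leftAdjoint_preservesColimits
  PreservesColimitsOfSize.preservesFiniteColimits.{0, 0} _

/-- `j_! j^*` on the derived category. -/
noncomputable abbrev LD (W : X.Opens) : DCoh.D X ⥤ DCoh.D X := (L W).mapDerivedCategory

/-- `j_! j^* ⟶ 𝟭` on complexes. -/
noncomputable def εN (W : X.Opens) : LC W ⟶ 𝟭 (CochainComplex X.Modules ℤ) where
  app K := εC W K
  naturality {K K'} φ := HomologicalComplex.hom_ext _ _ fun n => (ε W).naturality (φ.f n)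

local notation "QX" => (DerivedCategory.Q : CochainComplex X.Modules ℤ ⥤ DCoh.D X)
local notation "qis" => HomologicalComplex.quasiIso X.Modules (ComplexShape.up ℤ)

/-- `LD` is computed termwise. -/
noncomputable def LDQ (W : X.Opens) : QX ⋙ LD W ≅ LC W ⋙ QX := (L W).mapDerivedCategoryFactors

noncomputable instance (W : X.Opens) : Localization.Lifting QX qis (LC W ⋙ QX) (LD W) := ⟨LDQ W⟩

noncomputable instance idLifting : Localization.Lifting QX qis (𝟭 _ ⋙ QX) (𝟭 (DCoh.D X)) :=
  ⟨Functor.rightUnitor _ ≪≫ (Functor.leftUnitor _).symm⟩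

/-- `j_! j^* ⟶ 𝟭` on the derived category. -/
noncomputable def εD (W : X.Opens) : LD W ⟶ 𝟭 (DCoh.D X) :=
  Localization.liftNatTrans QX qis (LC W ⋙ QX) (𝟭 _ ⋙ QX) (LD W) (𝟭 _)
    (Functor.whiskerRight (εN W) QX)

lemma εD_Q (W : X.Opens) (K : CochainComplex X.Modules ℤ) :
    (εD W).app ((QX).obj K) = (LDQ W).hom.app K ≫ (QX).map (εC W K) := by
  refine (Localization.liftNatTrans_app _ qis _ _ _ _ _ K).trans ?_
  change (LDQ W).hom.app K ≫ (QX).map (εC W K) ≫ (𝟙 _ ≫ 𝟙 _) = _
  simp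

lemma isIso_εD_Q (W : X.Opens) (K : CochainComplex X.Modules ℤ)
    (h : ∀ i, ∀ x ∉ W, Subsingleton ((K.X i).presheaf.stalk x)) : IsIso ((εD W).app ((QX).obj K)) := by
  haveI : ∀ i, IsIso ((εC W K).f i) := fun i => isIso_ε W (K.X i) (h i)
  haveI := HomologicalComplex.Hom.isIso_of_components (εC W K)
  rw [εD_Q]
  infer_instance

lemma isIso_LD_map_εD {V W : X.Opens} (h : V ≤ W) (A : DCoh.D X) :
    IsIso ((LD V).map ((εD W).app A)) := by
  let K := DerivedCategory.Q.objPreimage A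
  let e : A ≅ (QX).obj K := (DerivedCategory.Q.objObjPreimageIso A).symm
  haveI : ∀ i, IsIso (((LC V).map (εC W K)).f i) := fun i => isIso_L_map_ε h (K.X i)
  haveI := HomologicalComplex.Hom.isIso_of_components ((LC V).map (εC W K))
  haveI : IsIso ((LD V).map ((QX).map (εC W K))) :=
    (NatIso.isIso_map_iff (LDQ V) (εC W K)).2
      (Functor.map_isIso (QX) ((LC V).map (εC W K)))
  have h0 : IsIso ((LD V).map ((εD W).app ((QX).obj K))) := by
    rw [εD_Q, Functor.map_comp]
    infer_instance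
  have hn := (εD W).naturality e.hom
  have : (εD W).app A = (LD W).map e.hom ≫ (εD W).app ((QX).obj K) ≫ e.inv := by
    rw [reassoc_of% hn]
    simp
  rw [this, Functor.map_comp, Functor.map_comp]
  infer_instance

/-- `z` vanishes on `V`. -/
def Kills (V : X.Opens) {A N : DCoh.D X} (z : A ⟶ N) : Prop := (εD V).app A ≫ z = 0

lemma kills_trans {V W : X.Opens} (h : V ≤ W) {A N : DCoh.D X} (z : A ⟶ N)
    (h0 : Kills V ((εD W).app A ≫ z)) : Kills V z := by
  have hn := (εD V).naturality ((εD W).app A)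
  haveI := isIso_LD_map_εD h A
  refine (cancel_epi ((LD V).map ((εD W).app A))).1 ?_
  change (LD V).map ((εD W).app A) ≫ (εD V).app A ≫ z = (LD V).map ((εD W).app A) ≫ 0
  rw [comp_zero, reassoc_of% hn]
  exact h0

lemma Kills.mono {V W : X.Opens} {A N : DCoh.D X} {z : A ⟶ N} (hW : Kills W z) (h : V ≤ W) :
    Kills V z :=
  kills_trans h z (by rw [Kills, hW, comp_zero])

lemma Kills.comp {V : X.Opens} {A B N : DCoh.D X} {z : B ⟶ N} (hz : Kills V z) (a : A ⟶ B) :
    Kills V (a ≫ z) := by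
  change (εD V).app A ≫ a ≫ z = 0
  have hn := (εD V).naturality a
  rw [show (εD V).app A ≫ a ≫ z = (LD V).map a ≫ (εD V).app B ≫ z from by rw [reassoc_of% hn],
    hz, comp_zero]

/-- Complexes of finite sums of `gen U` in the degrees `[p, q]`. -/
def FreeOn (U : X.Opens) (p q : ℤ) (A : DCoh.D X) : Prop :=
  ∃ E : CochainComplex X.Modules ℤ, DCoh.VanishesOutside E p q ∧
    (∀ i, ∃ m, Nonempty (E.X i ≅ ∐ fun _ : Fin m => FlatGen.gen U)) ∧
    Nonempty (A ≅ (QX).obj E)

lemma FreeOn.of_iso {U : X.Opens} {p q : ℤ} {A B : DCoh.D X} (e : A ≅ B) (h : FreeOn U p q A) :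
    FreeOn U p q B :=
  let ⟨E, hv, hf, ⟨i⟩⟩ := h
  ⟨E, hv, hf, ⟨e.symm ≪≫ i⟩⟩

lemma FreeOn.restrict {U V : X.Opens} (h : V ≤ U) {p q : ℤ} {A : DCoh.D X} (hA : FreeOn U p q A) :
    FreeOn V p q ((LD V).obj A) := by
  obtain ⟨E, hv, hf, ⟨e⟩⟩ := hA
  refine ⟨(LC V).obj E, fun i hi => (L V).map_isZero (hv i hi), fun i => ?_,
    ⟨(LD V).mapIso e ≪≫ (LDQ V).app E⟩⟩
  obtain ⟨m, ⟨em⟩⟩ := hf i
  exact ⟨m, ⟨(L V).mapIso em ≪≫ (nonempty_L_sum h m).some⟩⟩

lemma FreeOn.shift {U : X.Opens} {p q : ℤ} {A : DCoh.D X} (hA : FreeOn U p q A) (n p' q' : ℤ)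
    (hp : p' + n = p) (hq : q' + n = q) : FreeOn U p' q' (A⟦n⟧) := by
  obtain ⟨E, hv, hf, ⟨e⟩⟩ := hA
  exact ⟨E⟦n⟧, fun i hi => hv (i + n) (by omega), fun i => hf (i + n),
    ⟨(shiftFunctor (DCoh.D X) n).mapIso e ≪≫ ((DerivedCategory.Q.commShiftIso n).app E).symm⟩⟩

/-- A single class on `gen U` in a degree where the target is exact is locally zero. -/
lemma exists_kills_gen (U : X.Opens) (b a : ℤ) (hb : a < b) {N : DCoh.D X} (hN : N.IsLE a)
    (z : (QX).obj ((single X.Modules (ComplexShape.up ℤ) b).obj (FlatGen.gen U)) ⟶ N)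
    {x : X} (hx : x ∈ U) : ∃ V : X.Opens, x ∈ V ∧ V ≤ U ∧ Kills V z := by
  obtain ⟨I, i, hI, hi, -⟩ := DerCat.KInjExists.exists_kInjective_resolution
    (DerivedCategory.Q.objPreimage N)
  haveI := hI
  haveI := hi
  let e : N ≅ (QX).obj I := (DerivedCategory.Q.objObjPreimageIso N).symm ≪≫
    asIso ((QX).map i)
  obtain ⟨φ, hφ⟩ := TildeEquiv.exists_map_of_kinj (z ≫ e.hom)
  let g : FlatGen.gen U ⟶ I.X b := (singleObjXSelf (.up ℤ) b _).inv ≫ φ.f b
  have hg : g ≫ I.d b (b + 1) = 0 := by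
    simp only [g, Category.assoc, φ.comm, single_obj_d, zero_comp, comp_zero]
  have hH : IsZero (I.homology b) := by
    refine ((haveI := hN; DerivedCategory.isZero_of_isLE N a b hb).of_iso ?_)
    exact ((DerivedCategory.homologyFunctorFactors X.Modules b).app I).symm ≪≫
      (DerivedCategory.homologyFunctor X.Modules b).mapIso e.symm
  haveI : Epi (I.toCycles (b - 1) b) :=
    Preadditive.epi_of_isZero_cokernel' _ (I.homologyIsCokernel (b - 1) b (by simp)) hH
  let g' : FlatGen.gen U ⟶ I.cycles b := I.liftCycles g (b + 1) (by simp) hg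
  obtain ⟨V, hV, hxV, y, hy⟩ := QCoh.Closure.exists_local_lift_of_epi (I.toCycles (b - 1) b)
    (secOf g') hx
  refine ⟨V, hxV, hV, ?_⟩
  have hlift : mk V (I.X (b - 1)) y ≫ I.d (b - 1) b = incl hV ≫ g := by
    have h1 : mk V (I.X (b - 1)) y ≫ I.toCycles (b - 1) b = incl hV ≫ g' := by
      apply secOf_injective
      rw [secOf_comp, secOf_mk, secOf_incl_comp, hy]
    rw [← I.toCycles_i (b - 1) b, reassoc_of% h1, I.liftCycles_i]
  let s := (single X.Modules (ComplexShape.up ℤ) b).map (incl hV)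
  have h2 : s ≫ φ = mkHomFromSingle (incl hV ≫ g) (fun k hk => by
      obtain rfl : b + 1 = k := hk
      rw [Category.assoc, hg, comp_zero]) := from_single_hom_ext (by
    simp only [s, g, HomologicalComplex.comp_f, mkHomFromSingle_f, single_map_f_self,
      Category.assoc])
  have h3 : (HomotopyCategory.quotient X.Modules (.up ℤ)).map (s ≫ φ) = 0 := by
    rw [h2]
    exact (GammaAcyclic.quotient_map_mkHomFromSingle_eq_zero_iff b _ _).2 ⟨_, hlift⟩
  have h4 : (QX).map s ≫ z = 0 := by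
    refine (cancel_mono e.hom).1 ?_
    rw [zero_comp, Category.assoc, ← hφ, ← Functor.map_comp]
    refine (cancel_mono ((DerivedCategory.quotientCompQhIso _).inv.app I)).1 ?_
    rw [zero_comp, DerivedCategory.quotientCompQhIso_inv_naturality, h3, Functor.map_zero, comp_zero]
  haveI : IsIso ((εD V).app ((QX).obj ((single X.Modules (ComplexShape.up ℤ) b).obj (FlatGen.gen V)))) := by
    refine isIso_εD_Q V _ fun k w hyV => ?_
    by_cases hk : k = b
    · subst hk
      haveI := GenStalk.subsingleton_stalk_gen (U := V) hyV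
      exact (Modules.StalkModule.stalkLinearEquiv (singleObjXSelf (.up ℤ) k (FlatGen.gen V)) w).toEquiv.subsingleton
    · exact ModuleCat.subsingleton_of_isZero ((Modules.StalkModule.stalkModFunctor X w).map_isZero
        (isZero_single_obj_X (.up ℤ) b (FlatGen.gen V) k hk))
  haveI : IsIso ((LC V).map s) := by
    haveI : ∀ k, IsIso (((LC V).map s).f k) := fun k => by
      by_cases hk : k = b
      · subst hk
        haveI : IsIso ((L V).map (incl hV)) := isIso_L_map V _ fun _ hx => bijective_stalk_incl hV hx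
        simp only [s, Functor.mapHomologicalComplex_map_f, single_map_f_self, Functor.map_comp]
        exact IsIso.comp_isIso' (Functor.map_isIso (L V) _)
          (IsIso.comp_isIso' inferInstance (Functor.map_isIso (L V) _))
      · exact isIso_of_isInitial ((L V).map_isZero (isZero_single_obj_X (.up ℤ) b _ k hk)).isInitial
          ((L V).map_isZero (isZero_single_obj_X (.up ℤ) b _ k hk)).isInitial _
    exact HomologicalComplex.Hom.isIso_of_components _
  haveI : IsIso ((LD V).map ((QX).map s)) :=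
    (NatIso.isIso_map_iff (LDQ V) s).2 (Functor.map_isIso (QX) ((LC V).map s))
  refine (cancel_epi ((LD V).map ((QX).map s))).1 ?_
  rw [comp_zero, reassoc_of% ((εD V).naturality ((QX).map s))]
  exact (congrArg ((εD V).app _ ≫ ·) h4).trans comp_zero

/-- A map out of a sum of copies of `gen U` in a high degree is locally zero. -/
lemma exists_kills_single (U : X.Opens) (b a : ℤ) (hb : a < b) (m : ℕ) {N : DCoh.D X} (hN : N.IsLE a)
    (z : (QX).obj ((single X.Modules (ComplexShape.up ℤ) b).obj (∐ fun _ : Fin m => FlatGen.gen U)) ⟶ N)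
    {x : X} (hx : x ∈ U) : ∃ V : X.Opens, x ∈ V ∧ V ≤ U ∧ Kills V z := by
  classical
  let G : Fin m → X.Modules := fun _ => FlatGen.gen U
  let S : X.Modules ⥤ DCoh.D X := single X.Modules (ComplexShape.up ℤ) b ⋙ QX
  choose V hxV hVU hV using fun k : Fin m =>
    exists_kills_gen U b a hb hN (S.map (Sigma.ι G k) ≫ z) hx
  let V₀ : X.Opens := Finset.univ.inf V ⊓ U
  have hx₀ : x ∈ V₀ := ⟨Finset.inf_induction (p := fun W : X.Opens => x ∈ W) trivial
    (fun _ h _ h' => ⟨h, h'⟩) fun k _ => hxV k, hx⟩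
  refine ⟨V₀, hx₀, inf_le_right, ?_⟩
  let pr : ∀ i : Fin m, (∐ G) ⟶ G i := fun i => Sigma.desc fun j => if j = i then 𝟙 _ else 0
  have htot : 𝟙 (∐ G) = ∑ i : Fin m, pr i ≫ Sigma.ι G i := Sigma.hom_ext _ _ fun j => by
    rw [Category.comp_id, Preadditive.comp_sum, Finset.sum_eq_single j
      (fun i _ hi => by simp [pr, Ne.symm hi]) (fun h => absurd (Finset.mem_univ j) h)]
    simp [pr]
  have hz : z = ∑ i : Fin m, S.map (pr i) ≫ S.map (Sigma.ι G i) ≫ z := by
    conv_lhs => rw [← Category.id_comp z]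
    rw [show 𝟙 ((QX).obj ((single X.Modules (ComplexShape.up ℤ) b).obj (∐ G))) = S.map (𝟙 (∐ G)) from
      (S.map_id _).symm, htot, Functor.map_sum, Preadditive.sum_comp]
    exact Finset.sum_congr rfl fun i _ => by rw [Functor.map_comp, Category.assoc]
  rw [hz, Kills, Preadditive.comp_sum]
  exact Finset.sum_eq_zero fun i _ =>
    ((hV i).mono (inf_le_left.trans (Finset.inf_le (Finset.mem_univ i)))).comp (S.map (pr i))

/-- Maps from free complexes in high degrees are locally zero. -/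
theorem exists_kills {U : X.Opens} {p q a : ℤ} (hp : a < p) {A N : DCoh.D X} (hA : FreeOn U p q A)
    (hN : N.IsLE a) (z : A ⟶ N) {x : X} (hx : x ∈ U) :
    ∃ V : X.Opens, x ∈ V ∧ V ≤ U ∧ Kills V z := by
  obtain ⟨k, hk⟩ : ∃ k : ℕ, q < p + k := ⟨(q - p + 1).toNat, by omega⟩
  induction k generalizing q A U with
  | zero =>
    obtain ⟨E, hv, -, ⟨e⟩⟩ := hA
    refine ⟨U, hx, le_rfl, ?_⟩
    have h0 : IsZero A := by
      refine IsZero.of_iso ?_ e
      refine Functor.map_isZero _ ?_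
      rw [IsZero.iff_id_eq_zero]
      exact HomologicalComplex.hom_ext _ _ fun i => (hv i (by omega)).eq_of_src _ _
    rw [Kills, h0.eq_of_src z 0, comp_zero]
  | succ k ih =>
    by_cases hq : q < p + k
    · exact ih hA z hx hq
    obtain ⟨E, hv, hf, ⟨e⟩⟩ := hA
    obtain ⟨E', T, hT, ⟨e₁⟩, ⟨e₂⟩, ⟨e₃⟩, hzero, hiso⟩ :=
      PCoh.Derived3.exists_stupid_triangle E q fun i hi => hv i (.inr hi)
    obtain ⟨m, ⟨em⟩⟩ := hf q
    let d : (QX).obj ((single X.Modules (ComplexShape.up ℤ) q).obj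
        (∐ fun _ : Fin m => FlatGen.gen U)) ≅ T.obj₁ :=
      ((DerivedCategory.singleFunctorIsoCompQ X.Modules q).app _).symm ≪≫
        (DerivedCategory.singleFunctor X.Modules q).mapIso em.symm ≪≫ e₁.symm
    let z₂ : T.obj₂ ⟶ N := (e₂ ≪≫ e.symm).hom ≫ z
    obtain ⟨V, hxV, hVU, hV⟩ := exists_kills_single U q a (by omega) m hN
      (d.hom ≫ T.mor₁ ≫ z₂) hx
    have hV₁ : Kills V (T.mor₁ ≫ z₂) := by
      have := hV.comp d.inv
      rwa [Iso.inv_hom_id_assoc] at this
    obtain ⟨z', hz'⟩ := Triangle.yoneda_exact₂ _ ((LD V).map_distinguished T hT)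
      (show ((LD V).mapTriangle.obj T).obj₂ ⟶ N from (εD V).app T.obj₂ ≫ z₂) (by
        change (LD V).map T.mor₁ ≫ (εD V).app T.obj₂ ≫ z₂ = 0
        rw [reassoc_of% ((εD V).naturality T.mor₁)]
        exact hV₁)
    have hfree : FreeOn U p (q - 1) T.obj₃ := by
      refine FreeOn.of_iso e₃.symm ⟨E', fun i hi => ?_, fun i => ?_, ⟨Iso.refl _⟩⟩
      · by_cases h : q ≤ i
        · exact hzero i h
        · exact (hv i (by omega)).of_iso (hiso i (by omega)).some.symm
      · by_cases h : q ≤ i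
        · exact ⟨0, ⟨IsZero.iso (hzero i h)
            ((IsZero.iff_id_eq_zero _).2 (Sigma.hom_ext _ _ fun x => x.elim0))⟩⟩
        · obtain ⟨m, ⟨em⟩⟩ := hf i
          exact ⟨m, ⟨(hiso i (by omega)).some.symm ≪≫ em⟩⟩
    obtain ⟨V', hxV', hV'V, hV'⟩ := ih (hfree.restrict hVU) z' hxV (by omega)
    refine ⟨V', hxV', hV'V.trans hVU, ?_⟩
    have h2 : Kills V' z₂ := by
      refine kills_trans hV'V z₂ ?_
      rw [show (εD V).app T.obj₂ ≫ z₂ = (LD V).map T.mor₂ ≫ z' from hz']
      exact hV'.comp ((LD V).map T.mor₂)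
    have := h2.comp (e₂ ≪≫ e.symm).inv
    simp only [z₂] at this
    rwa [Iso.inv_hom_id_assoc] at this

end Groth.Agent.Lib.SchColim29.LocKill
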