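import Groth.Agent.Lib.ToposFin.SAcyclic
import Groth.Agent.Lib.ToposFin.Site
import Groth.Agent.Lib.ZarCoh.Basic
import Mathlib.Topology.QuasiSeparated
import Mathlib.AlgebraicGeometry.AffineScheme

/-!
# Filtered colimits of flasque sheaves on a scheme
-/

set_option autoImplicit false
set_option linter.style.haveILetI false

universe u

open CategoryTheory CategoryTheory.Limits Opposite CategoryTheory.Abelian TopologicalSpace
open AlgebraicGeometry ToposFin Groth.TFin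

namespace Groth.Agent.Lib.SchColim29.Opens

variable (X : Scheme.{u})

/-- The topology of the Zariski site. -/
abbrev Jz : GrothendieckTopology X.Opens := Opens.grothendieckTopology X

/-- Compact quasi-separated opens, as sheaves of sets. -/
def qcqsSet : Set (Sh (Jz X)) :=
  {K | ∃ V : X.Opens, IsCompact (V : Set X) ∧ IsQuasiSeparated (V : Set X) ∧ K = eps (Jz X) V}

variable {X}

lemma isQCSite_of_isCompact {V : X.Opens} (hV : IsCompact (V : Set X)) : IsQCSite (Jz X) V := by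
  intro S hS
  choose W g hg hxW using fun x : V => hS x.1 x.2
  obtain ⟨t, ht⟩ := hV.elim_finite_subcover (fun x : V => (W x : Set X)) (fun x => (W x).2)
    fun x hx => Set.mem_iUnion.2 ⟨⟨x, hx⟩, hxW ⟨x, hx⟩⟩
  let e := t.equivFin.symm
  refine ⟨t.card, fun k => W (e k).1, fun k => g (e k).1, fun k => hg _, fun x hx => ?_⟩
  obtain ⟨z, hz⟩ := Set.mem_iUnion.1 (ht hx)
  obtain ⟨hzt, hxz⟩ := Set.mem_iUnion.1 hz
  obtain ⟨k, hk⟩ := e.surjective ⟨z, hzt⟩
  exact ⟨W (e k).1, g (e k).1, Sieve.ofArrows_mk _ _ k, by rw [hk]; exact hxz⟩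

lemma isQC_eps {V : X.Opens} (hV : IsCompact (V : Set X)) : IsQC (eps (Jz X) V) :=
  (qcSite_iff V).1 (isQCSite_of_isCompact hV)

lemma le_of_hom {V W : X.Opens} (f : eps (Jz X) V ⟶ eps (Jz X) W) : V ≤ W := by
  intro x hx
  let η := toSheafify (Jz X) (yoneda.obj W)
  let s : (eps (Jz X) V).obj.obj (op V) := (toSheafify (Jz X) (yoneda.obj V)).app (op V) (𝟙 V)
  have : Presheaf.IsLocallySurjective (Jz X) η := inferInstance
  obtain ⟨U, g, ⟨w, -⟩, hxU⟩ := (Presheaf.imageSieve_mem (Jz X) η (f.hom.app (op V) s)) x hx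
  exact (leOfHom (w : U ⟶ W)) hxU

lemma mono_terminal_eps (V : X.Opens) (Z : Sh (Jz X)) (a b : Z ⟶ eps (Jz X) V) : a = b := by
  have h : IsTerminal (⊤ : X.Opens) := isTerminalTop
  haveI : Mono (homOfLE (le_top : V ≤ ⊤)) := ⟨fun g h _ => Subsingleton.elim _ _⟩
  haveI : Mono ((CanonSheaf.ε (Jz X)).map (homOfLE (le_top : V ≤ ⊤))) :=
    inferInstanceAs (Mono ((presheafToSheaf (Jz X) (Type u)).map (yoneda.map (homOfLE (le_top : V ≤ ⊤)))))
  haveI : PreservesLimitsOfShape (Discrete PEmpty.{1}) (CanonSheaf.ε (Jz X)) :=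
    inferInstanceAs (PreservesLimitsOfShape _ (yoneda ⋙ presheafToSheaf (Jz X) (Type u)))
  have ht := IsTerminal.isTerminalObj (CanonSheaf.ε (Jz X)) _ h
  exact (cancel_mono ((CanonSheaf.ε (Jz X)).map (homOfLE (le_top : V ≤ ⊤)))).1 (ht.hom_ext _ _)

lemma closedUnderPullbacks : ClosedUnderPullbacks (qcqsSet X) := by
  rintro K L M f g ⟨V₁, c₁, q₁, rfl⟩ ⟨V₂, c₂, q₂, rfl⟩ ⟨V₃, c₃, q₃, rfl⟩
  have h₁ : V₁ ≤ V₃ := le_of_hom f
  have h₂ : V₂ ≤ V₃ := le_of_hom g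
  let ε := CanonSheaf.ε (Jz X)
  refine ⟨eps (Jz X) (V₁ ⊓ V₂), ε.map (homOfLE inf_le_left), ε.map (homOfLE inf_le_right),
    ⟨V₁ ⊓ V₂, ?_, q₁.of_subset fun x hx => hx.1, rfl⟩, ?_⟩
  · exact q₃ _ _ (fun x hx => h₁ hx) V₁.2 c₁ (fun x hx => h₂ hx) V₂.2 c₂
  · have hP : IsPullback (homOfLE (inf_le_left : V₁ ⊓ V₂ ≤ V₁)) (homOfLE inf_le_right)
        (homOfLE h₁) (homOfLE h₂) :=
      ⟨⟨Subsingleton.elim _ _⟩, ⟨PullbackCone.IsLimit.mk _
        (fun c => homOfLE (le_inf (leOfHom c.fst) (leOfHom c.snd)))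
        (fun c => Subsingleton.elim _ _) (fun c => Subsingleton.elim _ _)
        (fun c m _ _ => Subsingleton.elim _ _)⟩⟩
    haveI : PreservesLimit (cospan (homOfLE h₁) (homOfLE h₂)) ε :=
      inferInstanceAs (PreservesLimit _ (yoneda ⋙ presheafToSheaf (Jz X) (Type u)))
    have := hP.map ε
    rwa [mono_terminal_eps V₃ _ (ε.map (homOfLE h₁)) f,
      mono_terminal_eps V₃ _ (ε.map (homOfLE h₂)) g] at this

lemma isGenerating : IsGenerating (qcqsSet X) := by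
  intro A
  let ι := Σ' (U : X.Opens) (_ : A.obj.obj (op U)) (V : X.Opens) (_ : V ⟶ U), ULift.{u} (PLift (IsAffineOpen V))
  refine ⟨ι, fun i => eps (Jz X) i.2.2.1, fun i => (CanonSheaf.ε (Jz X)).map i.2.2.2.1 ≫ CanonSheaf.hat A i.2.1,
    fun i => ⟨i.2.2.1, i.2.2.2.2.down.down.isCompact, i.2.2.2.2.down.down.isQuasiSeparated, rfl⟩,
    fun Z a b e => ef_hats A Z a b fun p => ?_⟩
  obtain ⟨U, s⟩ := p
  let κ := Σ V : X.Opens, {v : V ⟶ U // IsAffineOpen V}
  have hcov : Sieve.ofArrows (fun k : κ => k.1) (fun k => k.2.1) ∈ Jz X U := fun x hx => by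
    obtain ⟨_, ⟨V, hV, rfl⟩, hxV, hVU⟩ := X.isBasis_affineOpens.exists_subset_of_mem_open hx U.2
    exact ⟨V, homOfLE (SetLike.coe_subset_coe.1 hVU),
      Sieve.ofArrows_mk (fun k : κ => k.1) (fun k => k.2.1) ⟨V, homOfLE _, hV⟩, hxV⟩
  refine (ef_eps (J := Jz X) (fun k : κ => k.2.1)).2 hcov Z _ _ fun k => ?_
  have := e ⟨U, s, k.1, k.2.1, ⟨⟨k.2.2⟩⟩⟩
  simpa only [Category.assoc] using this

lemma isQC_of_mem : ∀ K ∈ qcqsSet X, IsQC K := by
  rintro _ ⟨V, hV, -, rfl⟩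
  exact isQC_eps hV

/-- A filtered colimit of flasque sheaves has no cohomology on compact quasi-separated opens. -/
theorem subsingleton_HU_colimit {Λ : Type u} [SmallCategory Λ] [IsFiltered Λ]
    (D : Λ ⥤ CohTop.Ab X.toPresheafedSpace.carrier) (hD : ∀ i, TopCat.Sheaf.IsFlasque (D.obj i))
    (W : X.Opens) (hW : IsCompact (W : Set X)) (hW' : IsQuasiSeparated (W : Set X)) (n : ℕ) :
    Subsingleton (CohTop.HU (colimit D) (n + 1) W) := by
  have h := Groth.Agent.Lib.ToposFin.SAcyclic.acyclic_colimit (J := Jz X) isQC_of_mem isGenerating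
    closedUnderPullbacks D (fun i K hK q => ?_) _ ⟨W, hW, hW', rfl⟩ n
  · exact (Groth.Agent.Lib.SiteCoh.FreeSheaf.hkRepEquiv (J := Jz X) (colimit D) W (n + 1)).toEquiv.symm.subsingleton
  · obtain ⟨V, -, -, rfl⟩ := hK
    haveI := hD i
    haveI : Subsingleton (CohSite.HU (J := Jz X) (D.obj i) (q + 1) V) :=
      Groth.Agent.Lib.ZarCoh.Basic.HU_flasque (D.obj i) V q
    exact (Groth.Agent.Lib.SiteCoh.FreeSheaf.hkRepEquiv (J := Jz X) (D.obj i) V (q + 1)).toEquiv.subsingleton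

end Groth.Agent.Lib.SchColim29.Opens
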