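import Mathlib.Algebra.Homology.DerivedCategory.KInjective
import Mathlib.Algebra.Homology.Embedding.CochainComplex
import Mathlib.CategoryTheory.Preadditive.Injective.Basic

/-!
# Canonical truncations of K-injective complexes of injectives
-/

set_option autoImplicit false
set_option linter.style.haveILetI false

universe w v u

open CategoryTheory Limits DerivedCategory

namespace Groth.Agent.Lib.SchColim29.TruncInj

variable {A : Type u} [Category.{v} A] [Abelian A]

/-- A quasi-isomorphism out of a K-injective complex has a left inverse up to homotopy. -/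
lemma exists_homotopyInv [HasDerivedCategory.{w} A] {R T : CochainComplex A ℤ} [R.IsKInjective]
    (p : R ⟶ T) [QuasiIso p] : ∃ g : T ⟶ R, Nonempty (Homotopy (p ≫ g) (𝟙 R)) := by
  obtain ⟨g', hg'⟩ := (CochainComplex.IsKInjective.Qh_map_bijective
    ((HomotopyCategory.quotient A (.up ℤ)).obj T) R).surjective
    ((quotientCompQhIso A).hom.app T ≫ inv (Q.map p) ≫ (quotientCompQhIso A).inv.app R)
  obtain ⟨g, rfl⟩ := (HomotopyCategory.quotient A (.up ℤ)).map_surjective g'
  refine ⟨g, ⟨HomotopyCategory.homotopyOfEq _ _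
    ((CochainComplex.IsKInjective.Qh_map_bijective _ R).injective ?_)⟩⟩
  rw [Functor.map_comp, Functor.map_comp, hg']
  simp [-NatTrans.naturality]

/-- The opcycles of a K-injective complex, which is exact below `n`, are injective in degree `n`. -/
lemma injective_opcycles [HasDerivedCategory.{w} A] (R : CochainComplex A ℤ) [R.IsKInjective] (n : ℤ)
    [R.IsGE n] [Injective (R.X n)] : Injective (R.opcycles n) := by
  obtain ⟨g, ⟨h⟩⟩ := exists_homotopyInv (R.πTruncGE n)
  have h0 : (R.πTruncGE n ≫ g).f (n - 1) = 0 := by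
    rw [HomologicalComplex.comp_f,
      (CochainComplex.isZero_of_isStrictlyGE (R.truncGE n) n (n - 1) (by lia)).eq_of_tgt
        ((R.πTruncGE n).f (n - 1)) 0, zero_comp]
  have hc := h.comm (n - 1)
  rw [h0, dNext_eq _ (show (ComplexShape.up ℤ).Rel (n - 1) n by simp),
    prevD_eq _ (show (ComplexShape.up ℤ).Rel (n - 2) (n - 1) by simp; lia),
    HomologicalComplex.id_f] at hc
  let e : R.X n ⟶ R.X n := 𝟙 _ + h.hom n (n - 1) ≫ R.d (n - 1) n
  have hd : R.d (n - 1) n ≫ e = 0 := by
    have h1 : R.d (n - 1) n ≫ h.hom n (n - 1) =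
        -(h.hom (n - 1) (n - 2) ≫ R.d (n - 2) (n - 1) + 𝟙 _) :=
      eq_neg_of_add_eq_zero_left (by rw [← add_assoc]; exact hc.symm)
    rw [show e = 𝟙 _ + h.hom n (n - 1) ≫ R.d (n - 1) n from rfl, Preadditive.comp_add,
      Category.comp_id, ← Category.assoc, h1]
    simp
  let s := R.descOpcycles e (n - 1) (by simp) hd
  have hs : s ≫ R.pOpcycles n = 𝟙 _ := by
    rw [← cancel_epi (R.pOpcycles n), HomologicalComplex.p_descOpcycles_assoc]
    simp [e]
  exact (⟨s, R.pOpcycles n, hs⟩ : Retract (R.opcycles n) (R.X n)).injective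

/-- The canonical truncation of a K-injective complex of injectives has injective terms. -/
lemma injective_truncGE [HasDerivedCategory.{w} A] (R : CochainComplex A ℤ) [R.IsKInjective] (n : ℤ)
    [R.IsGE n] [∀ k, Injective (R.X k)] (k : ℤ) : Injective ((R.truncGE n).X k) := by
  by_cases hk : n ≤ k
  · obtain ⟨i, rfl⟩ : ∃ i : ℕ, n + i = k := ⟨(k - n).toNat, by lia⟩
    by_cases hi : (ComplexShape.embeddingUpIntGE n).BoundaryGE i
    · have hi0 : i = 0 := by rwa [ComplexShape.boundaryGE_embeddingUpIntGE_iff] at hi
      subst hi0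
      haveI := injective_opcycles R n
      have e : (R.truncGE n).X n ≅ R.opcycles n :=
        HomologicalComplex.truncGEXIsoOpcycles R _ (i := 0) (i' := n) (by simp) hi
      rw [show n + ((0 : ℕ) : ℤ) = n by simp]
      exact Injective.of_iso e.symm inferInstance
    · exact Injective.of_iso (HomologicalComplex.truncGEXIso R
        (ComplexShape.embeddingUpIntGE n) (i := i) rfl hi).symm inferInstance
  · have := CochainComplex.isZero_of_isStrictlyGE (R.truncGE n) n k (by lia)
    exact this.injective

end Groth.Agent.Lib.SchColim29.TruncInj
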