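import Groth.Agent.Lib.SchColim29.RpushCoprod
import Groth.Agent.Lib.SchColim29.Modules
import Groth.Agent.Lib.SchColim29.TruncInj
import Groth.Agent.Lib.DerCat.KInjFunctor
import Groth.Agent.Lib.Tor.HomologyColim
import Mathlib.Algebra.Homology.Embedding.TruncGE

/-!
# `Rf_*` commutes with filtered colimits of uniformly bounded below complexes
-/

set_option autoImplicit false
set_option linter.unusedSectionVars false
set_option linter.style.haveILetI false

universe u

open CategoryTheory Limits AlgebraicGeometry DerivedCategory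

attribute [local instance] HasDerivedCategory.standard

namespace Groth.Agent.Lib.SchColim29.RpushFiltered

open Groth.Agent.Lib.DerivedOX
open Groth.Agent.Lib.SpecSeq.RightHom Groth.Agent.Lib.SpecSeq.AcyclicComplex
open Groth.Agent.Lib.WayOut.Scheme Groth.Agent.Lib.DerCat RpushCoprod

variable {X S : Scheme.{u}}

/-- A quasi-isomorphism of diagrams induces an isomorphism after applying a colimit-preserving functor. -/
lemma isIso_map_colimMap {K E J : Type*} [Category* K] [Category* E] [Category* J] {G : K ⥤ E}
    {F F' : J ⥤ K} (α : F ⟶ F') [HasColimit F] [HasColimit F'] [PreservesColimit F G]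
    [PreservesColimit F' G] [∀ j, IsIso (G.map (α.app j))] : IsIso (G.map (colimMap α)) := by
  haveI : ∀ j, IsIso ((Functor.whiskerRight α G).app j) := fun j =>
    inferInstanceAs (IsIso (G.map (α.app j)))
  haveI : IsIso (Functor.whiskerRight α G) := NatIso.isIso_of_isIso_app _
  let hF := isColimitOfPreserves G (colimit.isColimit F)
  let hF' := isColimitOfPreserves G (colimit.isColimit F')
  have h : G.map (colimMap α) =
      (hF.coconePointsIsoOfNatIso hF' (asIso (Functor.whiskerRight α G))).hom := hF.hom_ext fun j => by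
    rw [IsColimit.coconePointsIsoOfNatIso_hom, IsColimit.ι_map]
    change G.map (colimit.ι F j) ≫ G.map (colimMap α) = G.map (α.app j) ≫ G.map (colimit.ι F' j)
    rw [← G.map_comp, ← G.map_comp, ι_colimMap]
  rw [h]
  infer_instance

variable {J : Type u} [SmallCategory J]

/-- Functorial truncated injective resolution of a diagram of complexes. -/
noncomputable def res (C : J ⥤ CochainComplex X.Modules ℤ) (n : ℤ) :
    J ⥤ CochainComplex X.Modules ℤ :=
  C ⋙ KInjFunctor.R X.Modules ⋙ (ComplexShape.embeddingUpIntGE n).truncGEFunctor X.Modules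

/-- The augmentation of the resolution. -/
noncomputable def toRes (C : J ⥤ CochainComplex X.Modules ℤ) (n : ℤ) : C ⟶ res C n :=
  (Functor.rightUnitor C).inv ≫ Functor.whiskerLeft C (KInjFunctor.j X.Modules ≫
    (Functor.rightUnitor (KInjFunctor.R X.Modules)).inv ≫
    Functor.whiskerLeft (KInjFunctor.R X.Modules)
      ((ComplexShape.embeddingUpIntGE n).πTruncGENatTrans X.Modules))

lemma toRes_app (C : J ⥤ CochainComplex X.Modules ℤ) (n : ℤ) (j : J) :
    (toRes C n).app j = (KInjFunctor.j X.Modules).app (C.obj j) ≫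
      CochainComplex.πTruncGE ((KInjFunctor.R X.Modules).obj (C.obj j)) n :=
  (Category.id_comp _).trans (congrArg ((KInjFunctor.j X.Modules).app (C.obj j) ≫ ·) (Category.id_comp _))

variable (C : J ⥤ CochainComplex X.Modules ℤ) (n : ℤ)

lemma quasiIso_toRes (hC : ∀ j, (C.obj j).IsGE n) (j : J) :
    QuasiIso ((toRes C n).app j) ∧ ((KInjFunctor.R X.Modules).obj (C.obj j)).IsGE n := by
  haveI := hC j
  haveI := KInjFunctor.quasiIso_j (C.obj j)
  haveI hR : ((KInjFunctor.R X.Modules).obj (C.obj j)).IsGE n := (CochainComplex.isGE_iff _ _).2 fun i hi =>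
    (exactAt_iff_of_quasiIsoAt ((KInjFunctor.j X.Modules).app (C.obj j)) i).1
      ((C.obj j).exactAt_of_isGE n i hi)
  haveI : QuasiIso (HomologicalComplex.πTruncGE ((KInjFunctor.R X.Modules).obj (C.obj j))
      (ComplexShape.embeddingUpIntGE n)) :=
    inferInstanceAs (QuasiIso (CochainComplex.πTruncGE _ n))
  refine ⟨?_, hR⟩
  rw [toRes_app]
  exact quasiIso_comp ((KInjFunctor.j X.Modules).app (C.obj j)) (CochainComplex.πTruncGE _ n)

instance isStrictlyGE_res (j : J) : ((res C n).obj j).IsStrictlyGE n :=
  inferInstanceAs ((((KInjFunctor.R X.Modules).obj (C.obj j)).truncGE n).IsStrictlyGE n)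

lemma injective_res (hC : ∀ j, (C.obj j).IsGE n) (j : J) (k : ℤ) : Injective (((res C n).obj j).X k) := by
  haveI := (quasiIso_toRes C n hC j).2
  haveI := (KInjFunctor.kinj_R (C.obj j)).1
  haveI := (KInjFunctor.kinj_R (C.obj j)).2
  exact TruncInj.injective_truncGE _ n k

variable [IsFiltered J]

lemma preservesColimitsOfShape_pushC (f : X ⟶ S) [QuasiCompact f] [QuasiSeparated f] :
    PreservesColimitsOfShape J (pushC f) := by
  constructor
  intro D
  refine preservesColimit_of_preserves_colimit_cocone (colimit.isColimit _)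
    (HomologicalComplex.isColimitOfEval _ _ fun k => ?_)
  haveI := Modules.preservesColimitsOfShape_pushforward (Λ := J) f
  exact isColimitOfPreserves (Scheme.Modules.pushforward f)
    (isColimitOfPreserves (HomologicalComplex.eval X.Modules (ComplexShape.up ℤ) k) (colimit.isColimit D))

theorem isColimit_HD_Rpush (f : X ⟶ S) [QuasiCompact f] [QuasiSeparated f] [DCoh.HasRpush f]
    (hC : ∀ j, (C.obj j).IsGE n) (i : ℤ) :
    Nonempty (IsColimit ((DerivedCategory.Q ⋙ DCoh.Rpush f ⋙
      DerivedCategory.homologyFunctor S.Modules i).mapCocone (colimit.cocone C))) := by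
  let I := res C n
  let H := DerivedCategory.homologyFunctor S.Modules i
  let F := DerivedCategory.Q ⋙ DCoh.Rpush f ⋙ H
  let eX : ∀ k, (colimit I).X k ≅ colimit (I ⋙ HomologicalComplex.eval _ _ k) := fun k =>
    preservesColimitIso (HomologicalComplex.eval X.Modules (ComplexShape.up ℤ) k) I
  haveI : (colimit I).IsStrictlyGE n := by
    rw [CochainComplex.isStrictlyGE_iff]
    intro k hk
    refine IsZero.of_iso ?_ (eX k)
    refine (IsZero.iff_id_eq_zero _).2 (colimit.hom_ext fun j => ?_)
    exact (CochainComplex.isZero_of_isStrictlyGE ((res C n).obj j) n k hk).eq_of_src _ _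
  have hI : ∀ j, IsIso ((cmpPush f).app (I.obj j)) := fun j =>
    isIso_cmpPush_app f (I.obj j) n fun k W hW =>
      haveI : Injective ((I.obj j).X k) := injective_res C n hC j k
      acyc_injective _ _
  have hcolim : IsIso ((cmpPush f).app (colimit I)) :=
    isIso_cmpPush_app f (colimit I) n fun k W hW => acyc_of_iso _ (eX k).symm
      (Modules.acyc_colimit _ (fun j => injective_res C n hC j k) _
        (f.isCompact_preimage hW.isCompact) (f.isQuasiSeparated_preimage hW.isQuasiSeparated))
  haveI := preservesColimitsOfShape_pushC (J := J) f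
  haveI : PreservesColimitsOfShape J (DerivedCategory.Q ⋙ H) :=
    preservesColimitsOfShape_of_natIso (DerivedCategory.homologyFunctorFactors S.Modules i).symm
  haveI : ∀ j, IsIso ((Functor.whiskerLeft I (Functor.whiskerRight (cmpPush f) H)).app j) := fun j =>
    haveI := hI j
    inferInstanceAs (IsIso (H.map ((cmpPush f).app (I.obj j))))
  haveI : IsIso ((Functor.whiskerRight (cmpPush f) H).app (colimit I)) :=
    haveI := hcolim
    inferInstanceAs (IsIso (H.map ((cmpPush f).app (colimit I))))
  let η : I ⋙ pushC f ⋙ DerivedCategory.Q ⋙ H ≅ I ⋙ F :=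
    @asIso _ _ _ _ (Functor.whiskerLeft I (Functor.whiskerRight (cmpPush f) H))
      (NatIso.isIso_of_isIso_app _)
  have hIc : IsColimit (F.mapCocone (colimit.cocone I)) :=
    IsColimit.equivOfNatIsoOfIso η ((pushC f ⋙ DerivedCategory.Q ⋙ H).mapCocone (colimit.cocone I))
      (F.mapCocone (colimit.cocone I))
      (Cocone.ext (asIso ((Functor.whiskerRight (cmpPush f) H).app (colimit I))) fun j => by
        refine (Category.assoc _ _ _).trans
          ((congrArg (η.inv.app j ≫ ·) ((Functor.whiskerRight (cmpPush f) H).naturality _)).trans ?_)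
        exact η.inv_hom_id_app_assoc j _)
      (isColimitOfPreserves (pushC f ⋙ DerivedCategory.Q ⋙ H) (colimit.isColimit I))
  let α := toRes C n
  haveI : ∀ j (k : ℤ),
      IsIso ((HomologicalComplex.homologyFunctor X.Modules (ComplexShape.up ℤ) k).map (α.app j)) :=
    fun j k =>
      haveI : QuasiIso (α.app j) := (quasiIso_toRes C n hC j).1
      inferInstanceAs (IsIso (HomologicalComplex.homologyMap (α.app j) k))
  haveI : QuasiIso (colimMap α) := (quasiIso_iff _).2 fun k =>
    (quasiIsoAt_iff_isIso_homologyMap _ _).2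
      (isIso_map_colimMap (G := HomologicalComplex.homologyFunctor X.Modules (ComplexShape.up ℤ) k) α)
  haveI : ∀ j, IsIso ((Functor.whiskerRight α F).app j) := fun j =>
    haveI : QuasiIso (α.app j) := (quasiIso_toRes C n hC j).1
    haveI : IsIso (DerivedCategory.Q.map (α.app j)) := (isIso_Q_map_iff_quasiIso _ _).2 inferInstance
    inferInstanceAs (IsIso (H.map ((DCoh.Rpush f).map (DerivedCategory.Q.map (α.app j)))))
  haveI : IsIso (F.map (colimMap α)) :=
    haveI : IsIso (DerivedCategory.Q.map (colimMap α)) := (isIso_Q_map_iff_quasiIso _ _).2 inferInstance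
    inferInstanceAs (IsIso (H.map ((DCoh.Rpush f).map (DerivedCategory.Q.map (colimMap α)))))
  let η' : C ⋙ F ≅ I ⋙ F := @asIso _ _ _ _ (Functor.whiskerRight α F) (NatIso.isIso_of_isIso_app _)
  exact ⟨(IsColimit.equivOfNatIsoOfIso η' (F.mapCocone (colimit.cocone C))
    (F.mapCocone (colimit.cocone I)) (Cocone.ext (asIso (F.map (colimMap α))) fun j => by
      refine (Category.assoc _ _ _).trans ?_
      refine (congrArg (η'.inv.app j ≫ ·) (?_ : _ = η'.hom.app j ≫ _)).trans
        (η'.inv_hom_id_app_assoc j _)
      change F.map (colimit.ι C j) ≫ F.map (colimMap α) = F.map (α.app j) ≫ F.map (colimit.ι I j)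
      rw [← F.map_comp, ← F.map_comp, ι_colimMap])).symm hIc⟩

end Groth.Agent.Lib.SchColim29.RpushFiltered
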