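import Groth.Agent.Lib.SchColim29.RpushFiltered
import Groth.Agent.Lib.DerivedOX.RpushQCoh
import Groth.Agent.Lib.DerivedOX.RpushTriangulated
import Groth.Agent.Lib.Modules.Local
import Groth.Agent.Lib.QCoh.Closure

/-!
# `Rf_*` commutes with filtered colimits of complexes with quasi-coherent cohomology

Over an affine open of the base `Rf_*` has finite cohomological dimension on `D_QCoh`, which reduces
the unbounded case to the uniformly bounded below one.
-/

set_option autoImplicit false
set_option linter.unusedSectionVars false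
set_option linter.style.haveILetI false

universe u

open CategoryTheory Limits AlgebraicGeometry DerivedCategory

attribute [local instance] HasDerivedCategory.standard

namespace Groth.Agent.Lib.SchColim29.RpushFilteredQCoh

open Groth.Agent.Lib.DerivedOX Groth.Agent.Lib.WayOut.Bounded Groth.Agent.Lib.WayOut.Scheme
open RpushFiltered

variable {X Y : Scheme.{u}} (f : X ⟶ Y) [QuasiCompact f] [QuasiSeparated f] [DCoh.HasRpush f]

/-- Above an affine open, `H^i Rf_*` only sees the cohomology in degrees at least `i - N - 1`. -/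
theorem exists_isIso_restrict_map (V : Y.Opens) (hV : IsAffineOpen V) :
    ∃ N : ℕ, ∀ (A B : DCoh.D X) (g : A ⟶ B) (m i : ℤ), DCoh.IsQCohD A → B.IsGE m →
      (∀ k, m ≤ k → IsIso ((homologyFunctor X.Modules k).map g)) → m + N ≤ i →
      IsIso ((Scheme.Modules.restrictFunctor V.ι).map
        ((DCoh.Rpush f ⋙ homologyFunctor Y.Modules i).map g)) := by
  haveI : IsAffine (V : Scheme.{u}) := hV
  obtain ⟨N, hN⟩ := RpushQCoh.exists_bound_RH (f ∣_ V) (inferInstance : IsAffine (V : Scheme.{u}))
  refine ⟨N, fun A B g m i hA hB hg hi => ?_⟩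
  let t := TStructure.t (C := X.Modules)
  haveI := hB
  let g' : (t.truncGE m).obj A ⟶ B := t.descTruncGE g m
  have hfac : (t.truncGEπ m).app A ≫ g' = g := t.π_descTruncGE g m
  haveI hA' : ((t.truncGE m).obj A).IsGE m := (inferInstance : t.IsGE ((t.truncGE m).obj A) m)
  haveI : IsIso g' := (DerivedCategory.isIso_iff _ g').2 fun k => by
    by_cases hk : m ≤ k
    · haveI := hg k hk
      haveI := isIso_homologyMap_truncGEπ A m k hk
      refine @IsIso.of_isIso_comp_left _ _ _ _ _
        ((homologyFunctor X.Modules k).map ((t.truncGEπ m).app A)) _ inferInstance ?_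
      rw [← Functor.map_comp, hfac]
      infer_instance
    · exact ⟨0, (isZero_of_isGE _ m k (by lia)).eq_of_src _ _,
        (isZero_of_isGE B m k (by lia)).eq_of_src _ _⟩
  let G := DCoh.Rpush f
  let R := Scheme.Modules.restrictFunctor V.ι
  let A' := (t.truncLT m).obj A
  have hA'qc : DCoh.IsQCohD A' := hasP_truncLT (P := qc X) hA m
  haveI hle : A'.IsLE (m - 1) := (inferInstance : t.IsLE A' (m - 1))
  have hle' : ((Perfect.Basic.RD (f ⁻¹ᵁ V).ι).obj A').IsLE (m - 1) := (isLE_iff _ _).2 fun j hj =>
    ((Scheme.Modules.restrictFunctor (f ⁻¹ᵁ V).ι).map_isZero (isZero_of_isLE A' (m - 1) j hj)).of_iso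
      (Perfect.Coherent.homologyIso _ A' j)
  have hz : ∀ j, i ≤ j → IsZero (R.obj ((homologyFunctor Y.Modules j).obj (G.obj A'))) := fun j hj => by
    obtain ⟨θ⟩ := RpushQCoh.nonempty_restrict_HD f A' V j
    exact (hN _ (m - 1) (RpushQCoh.isQCohD_restrict hA'qc _) hle' j (by lia)).of_iso θ
  have hT := G.map_distinguished _ (t.triangleLTGE_distinguished m A)
  let q := R.map ((homologyFunctor Y.Modules i).map (G.map ((t.truncGEπ m).app A)))
  haveI : Mono q :=
    ((DerivedCategory.HomologySequence.exact₂ _ hT i).map R).mono_g ((hz i le_rfl).eq_of_src _ _)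
  haveI : Epi q :=
    ((DerivedCategory.HomologySequence.exact₃ _ hT i (i + 1) rfl).map R).epi_f
      ((hz (i + 1) (by lia)).eq_of_tgt _ _)
  haveI := isIso_of_mono_of_epi q
  have h : R.map ((G ⋙ homologyFunctor Y.Modules i).map g) =
      q ≫ R.map ((homologyFunctor Y.Modules i).map (G.map g')) := by
    rw [← R.map_comp, ← Functor.map_comp, ← Functor.map_comp, hfac]
    rfl
  rw [h]
  infer_instance

variable {J : Type u} [SmallCategory J] [IsFiltered J]

theorem isColimit_HD_Rpush (C : J ⥤ CochainComplex X.Modules ℤ)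
    (hC : ∀ j, DCoh.IsQCohD (DCoh.toD X (C.obj j))) (i : ℤ) :
    Nonempty (IsColimit ((DerivedCategory.Q ⋙ DCoh.Rpush f ⋙
      DerivedCategory.homologyFunctor Y.Modules i).mapCocone (colimit.cocone C))) := by
  let F := DerivedCategory.Q ⋙ DCoh.Rpush f ⋙ DerivedCategory.homologyFunctor Y.Modules i
  have hcol : DCoh.IsQCohD (DerivedCategory.Q.obj (colimit C)) := fun k => by
    let e := DerivedCategory.homologyFunctorFactors X.Modules k
    let H := HomologicalComplex.homologyFunctor X.Modules (ComplexShape.up ℤ) k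
    exact (qc X).prop_of_iso (e.app (colimit C)).symm
      (QCoh.Closure.isQCoh_of_isColimit (isColimitOfPreserves H (colimit.isColimit C))
        fun j => (qc X).prop_of_iso (e.app (C.obj j)) (hC j k))
  choose V hV hyV _ using fun y : Y =>
    exists_isAffineOpen_mem_and_subset (X := Y) (x := y) (U := ⊤) trivial
  suffices IsIso (colimit.post C F) by
    haveI : PreservesColimit C F := preservesColimit_of_isIso_post _ _
    exact ⟨isColimitOfPreserves F (colimit.isColimit C)⟩
  refine Modules.Local.isIso_of_restrict V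
    (eq_top_iff.2 fun y _ => TopologicalSpace.Opens.mem_iSup.2 ⟨y, hyV y⟩) _ fun y => ?_
  obtain ⟨N, hN⟩ := exists_isIso_restrict_map f (V y) (hV y)
  let m : ℤ := i - N
  let τ := (ComplexShape.embeddingUpIntGE m).truncGEFunctor X.Modules
  let C' : J ⥤ CochainComplex X.Modules ℤ := C ⋙ τ
  let π : C ⟶ C' := (Functor.rightUnitor C).inv ≫
    Functor.whiskerLeft C ((ComplexShape.embeddingUpIntGE m).πTruncGENatTrans X.Modules)
  haveI hC' : ∀ j, (C'.obj j).IsStrictlyGE m := fun j =>
    inferInstanceAs (((C.obj j).truncGE m).IsStrictlyGE m)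
  have hπ : ∀ j k, m ≤ k →
      IsIso ((HomologicalComplex.homologyFunctor X.Modules (ComplexShape.up ℤ) k).map (π.app j)) :=
    fun j k hk => by
      have e : π.app j = (C.obj j).πTruncGE m := Category.id_comp _
      rw [e]
      haveI := (C.obj j).quasiIsoAt_πTruncGE m k hk
      exact inferInstanceAs (IsIso (HomologicalComplex.homologyMap ((C.obj j).πTruncGE m) k))
  have hQ : ∀ {A B : CochainComplex X.Modules ℤ} (u : A ⟶ B) (k : ℤ),
      IsIso ((HomologicalComplex.homologyFunctor X.Modules (ComplexShape.up ℤ) k).map u) →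
        IsIso ((DerivedCategory.homologyFunctor X.Modules k).map (DerivedCategory.Q.map u)) :=
    fun u k h => (NatIso.isIso_map_iff (DerivedCategory.homologyFunctorFactors X.Modules k) u).2 h
  haveI : (colimit C').IsGE m := (CochainComplex.isGE_iff _ _).2 fun k hk => by
    refine (HomologicalComplex.exactAt_iff_isZero_homology _ _).2 ?_
    refine IsZero.of_iso ?_
      (preservesColimitIso (HomologicalComplex.homologyFunctor X.Modules (ComplexShape.up ℤ) k) C')
    refine (IsZero.iff_id_eq_zero _).2 (colimit.hom_ext fun j => ?_)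
    exact ((C'.obj j).isZero_of_isGE m k hk).eq_of_src _ _
  let R := Scheme.Modules.restrictFunctor (V y).ι
  haveI hj : ∀ j, IsIso (R.map ((Functor.whiskerRight π F).app j)) := fun j =>
    hN _ _ _ m i (hC j) ((DerivedCategory.isGE_Q_obj_iff _ m).2 inferInstance)
      (fun k hk => hQ _ k (hπ j k hk)) (by lia)
  haveI hcolim : IsIso (R.map (F.map (colimMap π))) :=
    hN _ _ _ m i hcol ((DerivedCategory.isGE_Q_obj_iff _ m).2 inferInstance) (fun k hk => by
      haveI : ∀ j, IsIso ((HomologicalComplex.homologyFunctor X.Modules (ComplexShape.up ℤ) k).map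
        (π.app j)) := fun j => hπ j k hk
      exact hQ _ k (isIso_map_colimMap π)) (by lia)
  haveI : PreservesColimit C' F := preservesColimit_of_preserves_colimit_cocone (colimit.isColimit C')
    (RpushFiltered.isColimit_HD_Rpush C' m f (fun j => inferInstance) i).some
  haveI : IsIso (R.map (colimMap (Functor.whiskerRight π F))) := isIso_map_colimMap _
  have hsq : colimit.post C F ≫ F.map (colimMap π) =
      colimMap (Functor.whiskerRight π F) ≫ colimit.post C' F := colimit.hom_ext fun j => by
    rw [colimit.ι_post_assoc, ι_colimMap_assoc, colimit.ι_post, ← F.map_comp, ι_colimMap, F.map_comp]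
    rfl
  haveI : IsIso (R.map (colimit.post C F) ≫ R.map (F.map (colimMap π))) := by
    rw [← R.map_comp, hsq, R.map_comp]
    infer_instance
  exact IsIso.of_isIso_comp_right (R.map (colimit.post C F)) (R.map (F.map (colimMap π)))

end Groth.Agent.Lib.SchColim29.RpushFilteredQCoh
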