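import Groth.Agent.Lib.DerivedOX.RpushAcyclic
import Groth.Agent.Lib.CechRes.Compute
import Groth.Agent.Lib.CechRes.Cover
import Groth.Agent.Lib.CechRes.BC

/-!
# `Rf_*` to an affine base is the tilde of `RΓ`
-/

set_option autoImplicit false
set_option linter.unusedSectionVars false
set_option linter.style.haveILetI false

universe u

open CategoryTheory Limits AlgebraicGeometry DerivedCategory TopologicalSpace

attribute [local instance] HasDerivedCategory.standard

namespace Groth.Agent.Lib.SchColim29.RpushGamma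

open Groth.Agent.Lib Groth.Agent.Lib.DerivedOX
open Groth.Agent.Lib.SpecSeq.RightHom Groth.Agent.Lib.SpecSeq.AcyclicComplex
open Groth.Agent.Lib.WayOut.Bounded Groth.Agent.Lib.WayOut.Scheme
open Groth.Agent.Lib.DerivedOX.RpushAcyclic (exists_van_local isIso_sect_homology_of_van)

section General

variable {X S : Scheme.{u}} (f : X ⟶ S) [QuasiCompact f] [QuasiSeparated f]

/-- `f_*` of a quasi-isomorphism from `f_*`-acyclic quasi-coherent modules to a K-injective complex. -/
lemma quasiIso_push {F I : CochainComplex X.Modules ℤ} (i : F ⟶ I) [QuasiIso i] [I.IsKInjective]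
    (hF : ∀ n, qc X (F.X n))
    (hac : ∀ (n : ℤ) (W : S.Opens), IsAffineOpen W → Acyc (sect (f ⁻¹ᵁ W)) (F.X n)) :
    QuasiIso (((Scheme.Modules.pushforward f).mapHomologicalComplex (ComplexShape.up ℤ)).map i) := by
  choose V hV hsV N hN using exists_van_local f
  refine (quasiIso_iff_acyclic_mappingCone _).2 fun n => (HomologicalComplex.exactAt_iff _ _).2 ?_
  rw [Modules.Stalk.exact_iff_stalk]
  intro x
  rw [ShortComplex.ab_exact_iff]
  intro z hz
  obtain ⟨U, hxU, s, rfl⟩ := TopCat.Presheaf.exists_germ_eq _ z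
  let K := HomologicalComplex.sc (CochainComplex.mappingCone
    (((Scheme.Modules.pushforward f).mapHomologicalComplex (ComplexShape.up ℤ)).map i)) n
  replace hz : K.X₃.presheaf.germ U x hxU (K.g.app U s) = 0 :=
    (Modules.Stalk.stalkFunctor_map_germ x K.g hxU s).symm.trans hz
  obtain ⟨O, hxO, a, _, hO⟩ := TopCat.Presheaf.germ_eq K.X₃.presheaf x hxU hxU (K.g.app U s) 0
    (hz.trans (map_zero _).symm)
  obtain ⟨_, ⟨W, hW, rfl⟩, hxW, hWO⟩ :=
    S.isBasis_affineOpens.exists_subset_of_mem_open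
      (show x ∈ ((O ⊓ V x : S.Opens) : Set S) from ⟨hxO, hsV x⟩) (O ⊓ V x).2
  have hWO' : W ≤ O ⊓ V x := SetLike.coe_subset_coe.1 hWO
  have hq : QuasiIso (((sect (f ⁻¹ᵁ W)).mapHomologicalComplex (ComplexShape.up ℤ)).map i) :=
    ⟨fun m => (quasiIsoAt_iff_isIso_homologyMap _ m).2 (isIso_sect_homology_of_van i hF (f ⁻¹ᵁ W)
      (hN x W hW (hWO'.trans inf_le_right))
      (fun k => hac k W hW) m)⟩
  let T' := Scheme.Modules.pushforward f ⋙ sect W
  let e : sect (f ⁻¹ᵁ W) ≅ T' := NatIso.ofComponents fun _ => Iso.refl _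
  have hq' : QuasiIso ((T'.mapHomologicalComplex (ComplexShape.up ℤ)).map i) :=
    (quasiIso_iff_of_arrow_mk_iso _ _ (((Functor.mapArrowFunctor _ _).mapIso
      (NatIso.mapHomologicalComplex e (ComplexShape.up ℤ))).app (Arrow.mk i))).1 hq
  have hq'' : QuasiIso (((sect W).mapHomologicalComplex (ComplexShape.up ℤ)).map
      (((Scheme.Modules.pushforward f).mapHomologicalComplex (ComplexShape.up ℤ)).map i)) := hq'
  have hex : (K.map (sect W)).Exact :=
    (HomologicalComplex.exactAt_iff _ _).1 (HomologicalComplex.ExactAt.of_iso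
      ((quasiIso_iff_acyclic_mappingCone _).1 hq'' n)
      (CochainComplex.mappingCone.mapHomologicalComplexIso
        (((Scheme.Modules.pushforward f).mapHomologicalComplex (ComplexShape.up ℤ)).map i)
        (sect W)).symm)
  let j : W ⟶ U := homOfLE ((hWO'.trans inf_le_left).trans a.le)
  have hs : K.g.app W (K.X₂.presheaf.map j.op s) = 0 := by
    have h1 : K.g.app W (K.X₂.presheaf.map j.op s) = K.X₃.presheaf.map j.op (K.g.app U s) :=
      ConcreteCategory.congr_hom (K.g.mapPresheaf.naturality j.op) s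
    rw [h1, show j = homOfLE (hWO'.trans inf_le_left) ≫ a from Subsingleton.elim _ _, op_comp,
      Functor.map_comp, ConcreteCategory.comp_apply, hO, map_zero, map_zero]
  obtain ⟨t, ht⟩ := (ShortComplex.ab_exact_iff _).1 hex (K.X₂.presheaf.map j.op s) hs
  refine ⟨K.X₁.presheaf.germ W x hxW t, ?_⟩
  refine (Modules.Stalk.stalkFunctor_map_germ x K.f hxW t).trans ?_
  rw [show K.f.app W t = K.X₂.presheaf.map j.op s from ht]
  exact TopCat.Presheaf.germ_res_apply K.X₂.presheaf j x hxW s

/-- The unit is invertible on complexes of `f_*`-acyclic quasi-coherent modules. -/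
theorem isIso_unit_of_acyc [DCoh.HasRpush f] (F : CochainComplex X.Modules ℤ)
    (hF : ∀ n, qc X (F.X n))
    (hac : ∀ (n : ℤ) (W : S.Opens), IsAffineOpen W → Acyc (sect (f ⁻¹ᵁ W)) (F.X n)) :
    IsIso (((DCoh.pushKh f).totalRightDerivedUnit DerivedCategory.Qh
      (HomotopyCategory.quasiIso X.Modules (ComplexShape.up ℤ))).app
      ((HomotopyCategory.quotient X.Modules (ComplexShape.up ℤ)).obj F)) := by
  obtain ⟨I, hI, ⟨e⟩⟩ := RightDerived.exists_resFunctor_obj_iso (DerivedCategory.Q.obj F)
  haveI := hI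
  haveI := DerCat.HProd.isIso_counit (DerivedCategory.Q.obj F)
  let eI : DerivedCategory.Q.obj I ≅ DerivedCategory.Q.obj F :=
    (quotientCompQhIso _).symm.app I ≪≫ Qh.mapIso e ≪≫
      asIso ((RightDerived.resAdj _).counit.app _)
  obtain ⟨i, hi⟩ := TildeEquiv.exists_map_of_kinj eI.inv
  haveI : QuasiIso i := (DerivedCategory.isIso_Q_map_iff_quasiIso _ i).1 (by rw [hi]; infer_instance)
  let η := (DCoh.pushKh f).totalRightDerivedUnit DerivedCategory.Qh
      (HomotopyCategory.quasiIso X.Modules (ComplexShape.up ℤ))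
  have hηI : IsIso (η.app ((HomotopyCategory.quotient X.Modules (ComplexShape.up ℤ)).obj I)) :=
    RightDerived.isIso_totalRightDerivedUnit_app_of_isKInjective _ I
  haveI : IsIso (DerivedCategory.Qh.map
      ((HomotopyCategory.quotient X.Modules (ComplexShape.up ℤ)).map i)) :=
    (NatIso.isIso_map_iff (quotientCompQhIso X.Modules) i).2 inferInstance
  have hpq := quasiIso_push f i hF hac
  let q := (HomotopyCategory.quotient X.Modules (ComplexShape.up ℤ)).map i
  have hp : IsIso ((DCoh.pushKh f).map q) :=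
    ((MorphismProperty.isomorphisms _).arrow_mk_iso_iff
      (((Functor.mapArrowFunctor _ _).mapIso
        (Functor.isoWhiskerRight ((Scheme.Modules.pushforward f).mapHomotopyCategoryFactors
          (ComplexShape.up ℤ)) DerivedCategory.Qh)).app (Arrow.mk i))).2
      ((NatIso.isIso_map_iff (quotientCompQhIso S.Modules) _).2
        ((DerivedCategory.isIso_Q_map_iff_quasiIso _ _).2 hpq))
  have h2 : IsIso ((DerivedCategory.Qh ⋙ DCoh.Rpush f).map q) :=
    inferInstanceAs (IsIso ((DCoh.Rpush f).map (DerivedCategory.Qh.map q)))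
  have h1 : IsIso (η.app ((HomotopyCategory.quotient X.Modules (ComplexShape.up ℤ)).obj F) ≫
      (DerivedCategory.Qh ⋙ DCoh.Rpush f).map q) := by
    rw [← η.naturality q]
    exact IsIso.comp_isIso' hp hηI
  exact @IsIso.of_isIso_comp_right _ _ _ _ _ _ _ h2 h1

end General

open CechRes.Res

variable {A : Type u} [CommRing A] {X : Scheme.{u}} (f : X ⟶ Spec (CommRingCat.of A))

/-- Sums of direct images from affines are acyclic for global sections. -/
theorem acyc_apSum [IsSeparated f] {S : Set X.Opens} (hS : ∀ V ∈ S, IsAffineOpen V) (U : X.Opens)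
    (hU : ∀ V ∈ S, IsAffineOpen (V.ι ⁻¹ᵁ U)) {M : X.Modules}
    (hM : CechRes.Res.APSum S M) : Acyc (sect U) M := by
  induction hM with
  | @single V M hV h hq =>
    intro n hn
    haveI := hq
    haveI := isAffineHom_ι f (hS V hV)
    haveI : IsIso ((η V).app M) := h
    haveI : (M.restrict V.ι).IsQuasicoherent := inferInstance
    refine isZero_RS_sect U 0 M (fun p hp => ?_) n (by simp only [Nat.cast_zero]; lia)
    obtain ⟨q, rfl⟩ : ∃ q, p = q + 1 := ⟨p - 1, by lia⟩
    haveI : IsAffine V.toScheme := hS V hV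
    have hV' : Subsingleton (CohTop.HU (Coh.toAb ((Coh.push V.ι).obj (M.restrict V.ι))) (q + 1) U) :=
      @Equiv.subsingleton _ _ (Equiv.ofBijective _
          (ZarCoh.Morph.pushMap_bijective V.ι (M.restrict V.ι) U (q + 1)))
        (ZarCoh.Affine.HU_subsingleton (M.restrict V.ι) (hU V hV) q)
    let i : M ≅ (E V).obj M := @asIso _ _ _ _ ((η V).app M) h
    let e := ((CategoryTheory.Abelian.extFunctorObj (ZarCoh.Basic.Zs.obj (U : Opens X)) (q + 1)).mapIso
      ((SheafOfModules.toSheaf X.ringCatSheaf).mapIso i)).addCommGroupIsoToAddEquiv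
    exact @Equiv.subsingleton _ _ e.toEquiv hV'
  | zero h => exact acyc_of_isZero _ h
  | biprod _ _ a b => exact acyc_biprod _ a b
  | iso e _ a => exact acyc_of_iso _ e a

lemma isIso_fromTilde {R : CommRingCat.{u}} (M : (Spec R).Modules) [M.IsQuasicoherent] :
    IsIso ((Scheme.Modules.fromTildeΓNatTrans (R := R)).app M) :=
  inferInstanceAs (IsIso M.fromTildeΓ)

/-- Direct images to an affine base of quasi-coherent complexes are tildes. -/
theorem nonempty_push_iso [QuasiCompact f] [QuasiSeparated f]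
    [PreservesFiniteLimits (tilde.functor (CommRingCat.of A))]
    (Q : CochainComplex X.Modules ℤ) (hQ : ∀ n, (Q.X n).IsQuasicoherent) :
    Nonempty (DerivedCategory.Q.obj ((GammaAcyclic.pushC f).obj Q) ≅
      (DCoh.tildeD (CommRingCat.of A)).obj (DerivedCategory.Q.obj
        (((CechRes.Sec.secA f ⊤).mapHomologicalComplex (ComplexShape.up ℤ)).obj Q))) := by
  haveI : (moduleSpecΓFunctor (R := CommRingCat.of A)).Additive :=
    ⟨fun {M N g h} => rfl⟩
  haveI : (tilde.functor (CommRingCat.of A)).IsLeftAdjoint :=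
    (tilde.adjunction (R := CommRingCat.of A)).isLeftAdjoint
  haveI : PreservesColimitsOfSize.{0, 0} (tilde.functor (CommRingCat.of A)) := inferInstance
  haveI : PreservesFiniteColimits (tilde.functor (CommRingCat.of A)) :=
    PreservesColimitsOfSize.preservesFiniteColimits _
  let α : (Scheme.Modules.pushforward f ⋙ moduleSpecΓFunctor (R := CommRingCat.of A)) ⋙ tilde.functor (CommRingCat.of A) ⟶
      Scheme.Modules.pushforward f :=
    (Functor.associator _ _ _).hom ≫
      Functor.whiskerLeft (Scheme.Modules.pushforward f)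
        (Scheme.Modules.fromTildeΓNatTrans (R := CommRingCat.of A)) ≫ (Functor.rightUnitor _).hom
  have hα : ∀ n, IsIso (α.app (Q.X n)) := fun n => by
    haveI := hQ n
    haveI : ((Scheme.Modules.pushforward f).obj (Q.X n)).IsQuasicoherent :=
      QCoh.Pushforward.isQCoh_pushforward f (M := Q.X n)
    haveI h := isIso_fromTilde ((Scheme.Modules.pushforward f).obj (Q.X n))
    dsimp only [α, NatTrans.comp_app]
    exact IsIso.comp_isIso' inferInstance (IsIso.comp_isIso' h inferInstance)
  let e1 := CechRes.BC.isoMap α Q hα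
  let e2 := ((NatIso.mapHomologicalComplex (Functor.isoWhiskerRight (CechRes.Sec.globalIso f) (tilde.functor (CommRingCat.of A)))
    (ComplexShape.up ℤ)).app Q)
  exact ⟨DerivedCategory.Q.mapIso (e2 ≪≫ e1).symm ≪≫
    ((tilde.functor (CommRingCat.of A)).mapDerivedCategoryFactors.app
      (((CechRes.Sec.secA f ⊤).mapHomologicalComplex (ComplexShape.up ℤ)).obj Q)).symm⟩

/-- The derived unit on acyclic complexes, in terms of the complex of direct images. -/
theorem nonempty_Rpush_push_iso [QuasiCompact f] [QuasiSeparated f] [DCoh.HasRpush f]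
    (Q : CochainComplex X.Modules ℤ) (hQ : ∀ n, qc X (Q.X n))
    (hac : ∀ (n : ℤ) (W : (Spec (CommRingCat.of A)).Opens), IsAffineOpen W →
      Acyc (sect (f ⁻¹ᵁ W)) (Q.X n)) :
    Nonempty ((DCoh.Rpush f).obj (DCoh.toD X Q) ≅
      DerivedCategory.Q.obj ((GammaAcyclic.pushC f).obj Q)) := by
  let η := (DCoh.pushKh f).totalRightDerivedUnit DerivedCategory.Qh
      (HomotopyCategory.quasiIso X.Modules (ComplexShape.up ℤ))
  haveI hη : IsIso (η.app ((HomotopyCategory.quotient X.Modules (ComplexShape.up ℤ)).obj Q)) :=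
    isIso_unit_of_acyc f Q hQ hac
  exact ⟨(DCoh.Rpush f).mapIso ((DerivedCategory.quotientCompQhIso X.Modules).app Q).symm ≪≫
    (asIso (η.app ((HomotopyCategory.quotient X.Modules (ComplexShape.up ℤ)).obj Q))).symm ≪≫
    DerivedCategory.Qh.mapIso (((Scheme.Modules.pushforward f).mapHomotopyCategoryFactors
      (ComplexShape.up ℤ)).app Q) ≪≫
    (DerivedCategory.quotientCompQhIso (Spec (CommRingCat.of A)).Modules).app _⟩

/-- `Rf_*` of a complex of quasi-coherent modules is the tilde of its derived global sections. -/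
theorem nonempty_Rpush_iso [QuasiCompact f] [IsSeparated f] [DCoh.HasRpush f] [HTor.HasRΓA f]
    [PreservesFiniteLimits (tilde.functor (CommRingCat.of A))]
    (P : CochainComplex X.Modules ℤ) (hq : ∀ i, (P.X i).IsQuasicoherent) :
    Nonempty ((DCoh.Rpush f).obj (DCoh.toD X P) ≅
      (DCoh.tildeD (CommRingCat.of A)).obj ((HTor.RΓA f).obj (DCoh.toD X P))) := by
  obtain ⟨l, hl, hcov⟩ := CechRes.Cover.exists_list_cover f
  obtain ⟨r, -, -⟩ := CechRes.Compute.exists_resolution f l hl hcov P hq ⊤ (fun _ _ _ _ => trivial)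
    (fun _ _ => trivial) (fun _ _ _ _ => trivial) (fun _ => trivial)
  obtain ⟨eG⟩ := r.computes f hl
  haveI := r.qis
  have hQ : ∀ n, qc X (r.Q.X n) := fun n => CechRes.Compute.apSum_qc (r.apSum n)
  have hac : ∀ (n : ℤ) (W : (Spec (CommRingCat.of A)).Opens), IsAffineOpen W →
      Acyc (sect (f ⁻¹ᵁ W)) (r.Q.X n) := fun n W hW => acyc_apSum f hl (f ⁻¹ᵁ W) (fun V hV => by
    refine (V.ι.isAffineOpen_iff_of_isOpenImmersion).1 ?_
    rw [CechRes.Res.image_preimage]
    rw [inf_comm]
    exact ZarCoh.Bounded.inf_preimage f (hl V hV) (isAffineOpen_top _) hW le_top le_top) (r.apSum n)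
  obtain ⟨e1⟩ := nonempty_Rpush_push_iso f r.Q hQ hac
  obtain ⟨e2⟩ := nonempty_push_iso f r.Q hQ
  exact ⟨(DCoh.Rpush f).mapIso (asIso (DerivedCategory.Q.map r.aug)) ≪≫ e1 ≪≫ e2 ≪≫
    (DCoh.tildeD (CommRingCat.of A)).mapIso eG⟩

end Groth.Agent.Lib.SchColim29.RpushGamma
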