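import Groth.Agent.Lib.SchColim29.RpushFiltered

/-!
# The unit `f_* C ⟶ Rf_* C` and filtered colimits
-/

set_option autoImplicit false
set_option linter.unusedSectionVars false
set_option linter.style.haveILetI false

universe u

open CategoryTheory Limits AlgebraicGeometry DerivedCategory

attribute [local instance] HasDerivedCategory.standard

namespace Groth.Agent.Lib.SchColim29.RpushUnit

open RpushCoprod

/-- A natural transformation between functors preserving a colimit is invertible at the colimit when it
is invertible on the diagram. -/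
lemma isIso_app_colimit {K E J : Type*} [Category* K] [Category* E] [Category* J] {G G' : K ⥤ E}
    (τ : G ⟶ G') (D : J ⥤ K) [HasColimit D] [PreservesColimit D G] [PreservesColimit D G']
    [∀ j, IsIso (τ.app (D.obj j))] : IsIso (τ.app (colimit D)) := by
  haveI : ∀ j, IsIso ((Functor.whiskerLeft D τ).app j) := fun j =>
    inferInstanceAs (IsIso (τ.app (D.obj j)))
  haveI : IsIso (Functor.whiskerLeft D τ) := NatIso.isIso_of_isIso_app _
  let hG := isColimitOfPreserves G (colimit.isColimit D)
  let hG' := isColimitOfPreserves G' (colimit.isColimit D)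
  have h : τ.app (colimit D) =
      (hG.coconePointsIsoOfNatIso hG' (asIso (Functor.whiskerLeft D τ))).hom := hG.hom_ext fun j => by
    rw [IsColimit.coconePointsIsoOfNatIso_hom, IsColimit.ι_map]
    exact τ.naturality (colimit.ι D j)
  rw [h]
  infer_instance

variable {X Y : Scheme.{u}} (f : X ⟶ Y) [DCoh.HasRpush f]

lemma isIso_cmpPush_iff (F : CochainComplex X.Modules ℤ) :
    IsIso ((cmpPush f).app F) ↔ IsIso (((DCoh.pushKh f).totalRightDerivedUnit DerivedCategory.Qh
      (HomotopyCategory.quasiIso X.Modules (ComplexShape.up ℤ))).app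
      ((HomotopyCategory.quotient X.Modules (ComplexShape.up ℤ)).obj F)) := by
  simp [cmpPush]

variable [QuasiCompact f] [QuasiSeparated f] {J : Type u} [SmallCategory J] [IsFiltered J]

theorem isIso_unit_colimit (C : J ⥤ CochainComplex X.Modules ℤ) (n : ℤ)
    (hC : ∀ j : J, (C.obj j).IsGE n) (hac : ∀ j, IsIso ((cmpPush f).app (C.obj j))) :
    IsIso ((cmpPush f).app (colimit C)) := by
  refine (DerivedCategory.isIso_iff _ _).2 fun i => ?_
  let H := DerivedCategory.homologyFunctor Y.Modules i
  haveI := RpushFiltered.preservesColimitsOfShape_pushC (J := J) f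
  haveI : PreservesColimitsOfShape J (DerivedCategory.Q ⋙ H) :=
    preservesColimitsOfShape_of_natIso (DerivedCategory.homologyFunctorFactors Y.Modules i).symm
  haveI : PreservesColimit C ((DerivedCategory.Q ⋙ DCoh.Rpush f) ⋙ H) :=
    preservesColimit_of_preserves_colimit_cocone (colimit.isColimit C)
      (RpushFiltered.isColimit_HD_Rpush C n f hC i).some
  haveI : PreservesColimit C ((pushC f ⋙ DerivedCategory.Q) ⋙ H) :=
    inferInstanceAs (PreservesColimit C (pushC f ⋙ DerivedCategory.Q ⋙ H))
  haveI : ∀ j, IsIso ((Functor.whiskerRight (cmpPush f) H).app (C.obj j)) := fun j =>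
    haveI := hac j
    inferInstanceAs (IsIso (H.map ((cmpPush f).app (C.obj j))))
  exact isIso_app_colimit (Functor.whiskerRight (cmpPush f) H) C

end Groth.Agent.Lib.SchColim29.RpushUnit
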